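import Cfsg.Agent.Lib.Chev.BorelTits
import Cfsg.Agent.Lib.Chev.Parabolic
import Cfsg.Agent.Lib.Chev.WeylN
import Cfsg.Agent.Lib.KnownB.ChevField

/-!
Finite subgroups of a Chevalley group containing the root elements over a subfield: set-up, the sets of
parameters and the root-system checks.
-/

set_option autoImplicit false

namespace CfsgLib.Chev.Subfield

open Cfsg.Lie Matrix CfsgLib.KnownB.ChevField

variable {D : ChevalleyDatum} {A : Aux} {F : Type*} [Field F]

/-- the fixed points of a field endomorphism -/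
noncomputable def fixG (σ : F →+* F) : Subgroup (GL D.Idx F) :=
  (Matrix.GeneralLinearGroup.map σ).eqLocus (MonoidHom.id _)

theorem mem_fixG {σ : F →+* F} {y : GL D.Idx F} :
    y ∈ fixG σ ↔ Matrix.GeneralLinearGroup.map σ y = y := Iff.rfl

/-- the elementary group over the fixed field -/
noncomputable def ratG (g : Good D A) (σ : F →+* F) : Subgroup (GL D.Idx F) :=
  Subgroup.closure {y | ∃ r t, σ t = t ∧ y = xG g r t}

theorem xG_mem_ratG (g : Good D A) {σ : F →+* F} {t : F} (ht : σ t = t) (r : ℕ) :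
    xG g r t ∈ ratG g σ := Subgroup.subset_closure ⟨r, t, ht, rfl⟩

theorem ratG_le_fixG (g : Good D A) (σ : F →+* F) : ratG g σ ≤ (fixG σ : Subgroup (GL D.Idx F)) := by
  refine (Subgroup.closure_le _).2 ?_
  rintro _ ⟨r, t, ht, rfl⟩
  rw [SetLike.mem_coe, mem_fixG, map_xG, ht]

theorem nG_mem_ratG (g : Good D A) {σ : F →+* F} {c : F} (hc : σ c = c) (r : ℕ) :
    nG g r c ∈ ratG g σ :=
  mul_mem (mul_mem (xG_mem_ratG g hc _) (xG_mem_ratG g (by simp [hc]) _)) (xG_mem_ratG g hc _)

theorem nS_mem_ratG (g : Good D A) (σ : F →+* F) (i : ℕ) : nS F g i ∈ ratG g σ :=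
  nG_mem_ratG g (map_one σ) _

theorem nW_mem_ratG (g : Good D A) (σ : F →+* F) (w : List ℕ) : nW F g w ∈ ratG g σ := by
  induction w with
  | nil => simp [nW, one_mem]
  | cons i w ih =>
    simp only [nW, List.map_cons, List.prod_cons] at ih ⊢
    exact mul_mem (nS_mem_ratG g σ i) ih

theorem xG_inj (h : Std D A) {r : ℕ} (hr : r < D.nroots) {t u : F}
    (e : xG h.good r t = xG h.good r u) : t = u := by
  refine sub_eq_zero.1 (xG_eq_one h hr (t := t - u) ?_)
  rw [sub_eq_add_neg, ← xG_add, e, xG_add, add_neg_cancel, xG_zero]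

theorem map_xG_fix (h : Std D A) {r : ℕ} (hr : r < D.nroots) (σ : F →+* F) {t : F}
    (e : Matrix.GeneralLinearGroup.map σ (xG h.good r t) = xG h.good r t) : σ t = t := by
  rw [map_xG] at e
  exact xG_inj h hr e

/-- the commutator formula in the linear group -/
theorem comm_eq (h : Std D A) {r s : ℕ} (hr : r < D.nroots) (hs : s < D.nroots) (hsr : s ≠ r)
    (hsn : s ≠ A.neg r) (t u : F) :
    xG h.good s u * xG h.good r t =
      xG h.good r t * xG h.good s u *
        ((tword A r s t u).map fun c => xG h.good c.1 c.2).prod := by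
  apply Units.ext
  have hw : ((((tword A r s t u).map fun c => xG h.good c.1 c.2).prod : GL D.Idx F) :
      Matrix D.Idx D.Idx F) = D.wordMat F (tword A r s t u) := by
    induction tword A r s t u with
    | nil => simp [wordMat_nil]
    | cons c w ih => simp [wordMat_cons, ih]
  rw [Units.val_mul, Units.val_mul, Units.val_mul, xG_val, xG_val, hw]
  exact commF_all h hr hs hsr hsn t u

/-- roots with no commutator terms give commuting root elements -/
theorem commute_xG (h : Std D A) {r s : ℕ} (hr : r < D.nroots) (hs : s < D.nroots)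
    (hsn : s ≠ A.neg r) (ht : A.terms r s = []) (t u : F) :
    Commute (xG h.good r t) (xG h.good s u) := by
  by_cases e : s = r
  · subst e
    show _ * _ = _ * _
    rw [xG_add, xG_add, add_comm]
  · have := comm_eq h hr hs e hsn t u
    simp only [tword, ht, List.map_nil, List.prod_nil, mul_one] at this
    exact this.symm

/-- a finite subgroup between the elementary group over the fixed field and the group, without further
root elements -/
structure Sub (h : Std D A) (σ : F →+* F) (H : Subgroup (GL D.Idx F)) : Prop where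
  le : H ≤ D.group F
  fin : Finite H
  gen : ∀ r t, σ t = t → xG h.good r t ∈ H
  only : ∀ r < D.nroots, ∀ t, xG h.good r t ∈ H → σ t = t

theorem Sub.rat_le {h : Std D A} {σ : F →+* F} {H : Subgroup (GL D.Idx F)} (S : Sub h σ H) :
    ratG h.good σ ≤ H := by
  refine (Subgroup.closure_le _).2 ?_
  rintro _ ⟨r, t, ht, rfl⟩
  exact S.gen r t ht

/-! ### The parameters of the root elements in a subgroup -/

/-- the parameters of the root elements in a subgroup -/
def lam (g : Good D A) (H : Subgroup (GL D.Idx F)) (r : ℕ) : AddSubgroup F where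
  carrier := {t | xG g r t ∈ H}
  zero_mem' := by simp [xG_zero, one_mem]
  add_mem' := fun {a b} ha hb => by
    show xG g r (a + b) ∈ H
    rw [← xG_add]; exact mul_mem ha hb
  neg_mem' := fun {a} ha => by
    show xG g r (-a) ∈ H
    rw [← xG_inv]; exact inv_mem ha

theorem mem_lam (g : Good D A) (H : Subgroup (GL D.Idx F)) {r : ℕ} {t : F} :
    t ∈ lam g H r ↔ xG g r t ∈ H := Iff.rfl

theorem lam_finite (h : Std D A) (H : Subgroup (GL D.Idx F)) [Finite H] {r : ℕ} (hr : r < D.nroots) :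
    Finite (lam h.good H r) :=
  Finite.of_injective (fun t : lam h.good H r => (⟨xG h.good r t.1, t.2⟩ : H)) fun _ _ e =>
    Subtype.ext (xG_inj h hr (congrArg Subtype.val e))

/-- what the subgroup is asked to contain -/
structure Units1 (g : Good D A) (H : Subgroup (GL D.Idx F)) : Prop where
  one_mem : ∀ r, xG g r 1 ∈ H

theorem Units1.neg_one {g : Good D A} {H : Subgroup (GL D.Idx F)} (U : Units1 g H) (r : ℕ) :
    xG g r (-1) ∈ H := by rw [← xG_inv]; exact inv_mem (U.one_mem r)

theorem Units1.nS_mem {g : Good D A} {H : Subgroup (GL D.Idx F)} (U : Units1 g H) (i : ℕ) :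
    nS F g i ∈ H := by
  rw [nS, nG, inv_one]
  exact mul_mem (mul_mem (U.one_mem _) (U.neg_one _)) (U.one_mem _)

theorem lam_refl {g : Good D A} {H : Subgroup (GL D.Idx F)} (U : Units1 g H) {i r : ℕ}
    (hi : i < D.rank) (hr : r < D.nroots) : lam g H (A.refl i r) = lam g H r := by
  have e : ∀ t : F, xG g (A.refl i r) ((A.eta i r : F) * t) ∈ H ↔ xG g r t ∈ H := fun t => by
    rw [← nS_conj_xG g hi hr t]
    refine ⟨fun m => ?_, fun m => mul_mem (mul_mem (U.nS_mem i) m) (inv_mem (U.nS_mem i))⟩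
    simpa [mul_assoc] using mul_mem (mul_mem (inv_mem (U.nS_mem i)) m) (U.nS_mem i)
  ext t
  rw [mem_lam, mem_lam, ← e t]
  rcases g.eta_sign i hi r hr with h' | h' <;> simp [h', ← xG_inv g _ t]

theorem lam_wf {g : Good D A} {H : Subgroup (GL D.Idx F)} (U : Units1 g H) :
    ∀ {w : List ℕ}, Letters D w → ∀ {r : ℕ}, r < D.nroots → lam g H (wf A w r) = lam g H r
  | [], _, _, _ => rfl
  | i :: w, hw, r, hr => by
    show lam g H (A.refl i (wf A w r)) = _
    rw [lam_refl U hw.head (wf_lt g hw.tail hr), lam_wf U hw.tail hr]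

/-- a single commutator term with a unit coefficient multiplies parameters -/
theorem lam_mul (h : Std D A) {H : Subgroup (GL D.Idx F)} {r s u : ℕ} {c : ℤ} (hr : r < D.nroots)
    (hs : s < D.nroots) (hsr : s ≠ r) (hsn : s ≠ A.neg r) (ht : A.terms r s = [(u, c, 1, 1)])
    (hc : c = 1 ∨ c = -1) {a b : F} (ha : a ∈ lam h.good H r) (hb : b ∈ lam h.good H s) :
    a * b ∈ lam h.good H u := by
  have e := comm_eq h hr hs hsr hsn a b
  simp only [tword, ht, List.map_cons, List.map_nil, List.prod_cons, List.prod_nil, mul_one,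
    pow_one] at e
  have hm : xG h.good u ((c : F) * -a * b) ∈ H := by
    rw [show xG h.good u ((c : F) * -a * b) = (xG h.good r a * xG h.good s b)⁻¹ *
      (xG h.good s b * xG h.good r a) by rw [e]; group]
    exact mul_mem (inv_mem (mul_mem ha hb)) (mul_mem hb ha)
  rcases hc with rfl | rfl
  · have := inv_mem hm
    simpa [mem_lam, xG_inv] using this
  · simpa [mem_lam] using hm

/-! ### Checks on the tables -/

/-- the highest root -/
def top (D : ChevalleyDatum) : ℕ := D.nroots - 1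

/-- the long roots, given the list of the short ones -/
def IsLong (D : ChevalleyDatum) (sh : List ℕ) (r : ℕ) : Prop := r < D.nroots ∧ r ∉ sh

instance (D : ChevalleyDatum) (sh : List ℕ) (r : ℕ) : Decidable (IsLong D sh r) :=
  inferInstanceAs (Decidable (_ ∧ _))

/-- the root-system facts used for long roots -/
structure LongFacts (D : ChevalleyDatum) (A : Aux) (sh : List ℕ) : Prop where
  npos : 0 < D.nroots
  top_pos : ∀ j < D.rank, 0 ≤ A.a (top D) j
  top_long : top D ∉ sh
  closed : ∀ i < D.rank, ∀ r < D.nroots, (A.refl i r ∈ sh ↔ r ∈ sh)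
  climb : ∀ r < D.nroots, r ∉ sh → r ≠ top D → ∃ i < D.rank, A.cart i r < 0
  step : ∀ r < D.nroots, r ∉ sh → ∀ i < D.rank, A.cart i r < 0 →
    r = A.neg (D.simple i) ∨ ∃ q ∈ (A.chain (D.simple i) r).take 1, q.2 = 1 ∨ q.2 = -1
  top_chain : ∀ r < D.nroots, (∀ j < D.rank, 0 ≤ A.a r j) → A.chain r (top D) = []
  top_comm : ∀ r < D.nroots, r ∉ sh → r ≠ A.neg (top D) → A.terms (top D) r = [] ∨
    ∃ q ∈ List.range D.nroots, q ∉ sh ∧ A.terms (top D) q = [] ∧ q ≠ A.neg (top D) ∧
      A.terms r q = [] ∧ q ≠ A.neg r ∧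
      ((A.terms (top D) r = [(q, 1, 1, 1)]) ∨ A.terms (top D) r = [(q, -1, 1, 1)])
  pr_simple : ∀ j < D.rank, 0 ≤ pr D A (top D) (D.simple j)
  pr_pos : ∀ r < D.nroots, (∀ j < D.rank, 0 ≤ A.a r j) → r ≠ top D →
    pr D A (top D) r = 0 ∨ pr D A (top D) r = 1
  low_chain : ∀ r < D.nroots, (∀ j < D.rank, 0 ≤ A.a r j) → pr D A (top D) r = 0 →
    A.chain r (A.neg (top D)) = []
  other : ∃ r < D.nroots, r ∉ sh ∧ r ≠ top D ∧ r ≠ A.neg (top D)

set_option synthInstance.maxSize 1000 in
set_option synthInstance.maxHeartbeats 400000 in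
variable (D A) in
/-- the boolean form of `LongFacts` -/
noncomputable def longCheck (sh : List ℕ) : Bool :=
  let θ := top D
  decide (0 < D.nroots) && decide (∀ j < D.rank, 0 ≤ A.a θ j) && decide (θ ∉ sh) &&
  decide (∀ i < D.rank, ∀ r < D.nroots, (A.refl i r ∈ sh ↔ r ∈ sh)) &&
  decide (∀ r < D.nroots, r ∉ sh → r ≠ θ → ∃ i < D.rank, A.cart i r < 0) &&
  decide (∀ r < D.nroots, r ∉ sh → ∀ i < D.rank, A.cart i r < 0 →
    r = A.neg (D.simple i) ∨ ∃ q ∈ (A.chain (D.simple i) r).take 1, q.2 = 1 ∨ q.2 = -1) &&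
  decide (∀ r < D.nroots, (∀ j < D.rank, 0 ≤ A.a r j) → A.chain r θ = []) &&
  decide (∀ r < D.nroots, r ∉ sh → r ≠ A.neg θ → A.terms θ r = [] ∨
    ∃ q ∈ List.range D.nroots, q ∉ sh ∧ A.terms θ q = [] ∧ q ≠ A.neg θ ∧
      A.terms r q = [] ∧ q ≠ A.neg r ∧
      ((A.terms θ r = [(q, 1, 1, 1)]) ∨ A.terms θ r = [(q, -1, 1, 1)])) &&
  decide (∀ j < D.rank, 0 ≤ pr D A θ (D.simple j)) &&
  decide (∀ r < D.nroots, (∀ j < D.rank, 0 ≤ A.a r j) → r ≠ θ →
    pr D A θ r = 0 ∨ pr D A θ r = 1) &&
  decide (∀ r < D.nroots, (∀ j < D.rank, 0 ≤ A.a r j) → pr D A θ r = 0 →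
    A.chain r (A.neg θ) = []) &&
  decide (∃ r < D.nroots, r ∉ sh ∧ r ≠ θ ∧ r ≠ A.neg θ)

theorem longFacts_of_check {sh : List ℕ} (e : longCheck D A sh = true) : LongFacts D A sh := by
  simp only [longCheck, Bool.and_eq_true, decide_eq_true_eq] at e
  obtain ⟨⟨⟨⟨⟨⟨⟨⟨⟨⟨⟨h1, h2⟩, h3⟩, h4⟩, h5⟩, h6⟩, h7⟩, h8⟩, h9⟩, h10⟩, h11⟩, h12⟩ := e
  exact ⟨h1, h2, h3, h4, h5, h6, h7, h8, h9, h10, h11, h12⟩

theorem top_lt {sh : List ℕ} (L : LongFacts D A sh) : top D < D.nroots :=
  Nat.sub_lt L.npos Nat.one_pos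

theorem top_isPos (g : Good D A) {sh : List ℕ} (L : LongFacts D A sh) : D.IsPosRoot (top D) :=
  (g.pos_iff _ (top_lt L)).2 fun j => by
    by_cases hj : j < D.rank
    · exact L.top_pos j hj
    · rw [g.a_zero _ (top_lt L) j (not_lt.1 hj)]

theorem pos_coords (g : Good D A) {r : ℕ} (hr : D.IsPosRoot r) : ∀ j < D.rank, 0 ≤ A.a r j :=
  fun j _ => (g.pos_iff r hr.1).1 hr j

/-- a reflection along a negative Cartan number moves a root up -/
theorem lt_refl_of_neg (h : Std D A) {i r : ℕ} (hi : i < D.rank) (hr : r < D.nroots)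
    (hc : A.cart i r < 0) : r < A.refl i r := by
  have g := h.good
  have hq := g.refl_lt i hi r hr
  refine (code_lt_iff h hr hq).1 ?_
  have e := code_lin (D := D) (A := A) (r := r) (s := D.simple i) (u := A.refl i r) 1 (-A.cart i r)
    (fun j hj => by rw [g.a_refl i hi r hr j hj, g.a_simple i hi j hj]; split <;> ring)
  have hp := (pos_iff_code h (g.simple_lt i hi)).1 (simple_pos g hi)
  rw [e]
  nlinarith

/-- long roots are the images of the highest one -/
theorem exists_word_top (h : Std D A) {sh : List ℕ} (L : LongFacts D A sh) :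
    ∀ {r : ℕ}, r < D.nroots → r ∉ sh → ∃ w, Letters D w ∧ wf A w (top D) = r := by
  intro r
  induction hk : D.nroots - r using Nat.strong_induction_on generalizing r with
  | _ k ih =>
    intro hr hsh
    by_cases e : r = top D
    · exact ⟨[], fun j hj => absurd hj (List.not_mem_nil), e.symm⟩
    obtain ⟨i, hi, hc⟩ := L.climb r hr hsh e
    have hq := h.good.refl_lt i hi r hr
    obtain ⟨w, hw, hwe⟩ := ih (D.nroots - A.refl i r) (by
      have := lt_refl_of_neg h hi hr hc; omega) rfl hq (fun m => hsh ((L.closed i hi r hr).1 m))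
    exact ⟨i :: w, hw.cons hi, by show A.refl i (wf A w (top D)) = r; rw [hwe, h.good.refl_refl i hi r hr]⟩

/-- the pairing is invariant under monomial elements -/
theorem pr_acts (h : Std D A) {n : GL D.Idx F} {τ : ℕ → ℕ} (hn : n ∈ D.monomialSubgroup F)
    (hτ : Acts h.good n τ) {r s : ℕ} (hr : r < D.nroots) (hs : s < D.nroots) :
    pr D A (τ r) (τ s) = pr D A r s := by
  have g := h.good
  obtain ⟨w, hw, c, rfl⟩ := monomial_exists_word g hn
  obtain ⟨d, hd⟩ := monomial_conj_tor g (inv_mem (nW_mem (F := F) g hw)) c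
  have e := (acts_tor g c).mul (nW_acts (F := F) g hw)
  rw [hτ.unique e hr, hτ.unique e hs]
  exact pr_wf g hw hr hs

end CfsgLib.Chev.Subfield
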