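import Cfsg.Agent.Lib.Chev.Subfield.UnipAll

/-!
Rational lines spanned by long root vectors: climbing the Bruhat decomposition with rational root elements.
-/

set_option autoImplicit false
set_option linter.style.haveILetI false
set_option maxRecDepth 100000

namespace CfsgLib.Chev.Subfield

open Cfsg.Lie Matrix CfsgLib.KnownB.ChevField CfsgLib.Chev.Grade

variable {D : ChevalleyDatum} {A : Aux} {F : Type*} [Field F]

/-- the image of a root vector -/
def vec (y : GL D.Idx F) (r : ℕ) : D.Idx → F :=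
  (y : Matrix D.Idx D.Idx F) *ᵥ ev D F (D.rank + r)

theorem vec_mul (x y : GL D.Idx F) (r : ℕ) :
    vec (x * y) r = (x : Matrix D.Idx D.Idx F) *ᵥ vec y r := by
  simp [vec, Matrix.mulVec_mulVec]

theorem vec_one (r : ℕ) : vec (1 : GL D.Idx F) r = ev D F (D.rank + r) := by simp [vec]

theorem vec_tor (c : Fin D.rank → Fˣ) (r : ℕ) :
    vec (tor D A c) r = (chi D A c r : F) • ev D F (D.rank + r) := by
  rw [vec, tor_val, dia_mulVec_root]

theorem vec_acts {g : Good D A} {n : GL D.Idx F} {τ : ℕ → ℕ} (hn : Acts g n τ) {r : ℕ}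
    (hr : r < D.nroots) : ∃ k : F, k ≠ 0 ∧ vec n r = k • ev D F (D.rank + τ r) := hn.root r hr

theorem ev_self {r : ℕ} (hr : r < D.nroots) : ev D F (D.rank + r) (Sum.inr ⟨r, hr⟩) = 1 := by
  simp [ev, idx]

/-- a vector spanning a rational line -/
def RatLine (σ : F →+* F) (v : D.Idx → F) : Prop := ∃ l : F, ∀ x, σ (v x) = l * v x

theorem RatLine.of_smul {σ : F →+* F} {k : F} (hk : k ≠ 0) {v : D.Idx → F}
    (hv : RatLine σ (k • v)) : RatLine σ v := by
  obtain ⟨l, hl⟩ := hv
  refine ⟨l * k / σ k, fun x => ?_⟩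
  have h := hl x
  simp only [Pi.smul_apply, smul_eq_mul, map_mul] at h
  have hk' : σ k ≠ 0 := (map_ne_zero σ).2 hk
  field_simp
  linear_combination h

theorem map_vec (σ : F →+* F) (y : GL D.Idx F) (r : ℕ) (x : D.Idx) :
    σ (vec y r x) = vec (Matrix.GeneralLinearGroup.map σ y) r x := by
  rw [vec, RingHom.map_mulVec]
  rw [show σ ∘ ev D F (D.rank + r) = ev D F (D.rank + r) from funext fun z => by
    simp only [Function.comp_apply, ev]; split <;> simp]
  rfl

/-- rational elements preserve rational lines -/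
theorem RatLine.fix_mul {σ : F →+* F} {m : GL D.Idx F} (hm : m ∈ fixG σ) {v : D.Idx → F}
    (hv : RatLine σ v) : RatLine σ ((m : Matrix D.Idx D.Idx F) *ᵥ v) := by
  obtain ⟨l, hl⟩ := hv
  refine ⟨l, fun x => ?_⟩
  rw [RingHom.map_mulVec, show σ ∘ v = l • v from funext fun z => hl z,
    show (m : Matrix D.Idx D.Idx F).map σ = m from congrArg Units.val (mem_fixG.1 hm),
    Matrix.mulVec_smul]
  rfl

theorem RatLine.rat_inv_mul {σ : F →+* F} (g : Good D A) {m y : GL D.Idx F} (hm : m ∈ ratG g σ)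
    {r : ℕ} (hv : RatLine σ (vec (m * y) r)) : RatLine σ (vec y r) := by
  have := hv.fix_mul (inv_mem (ratG_le_fixG g σ hm))
  rw [← vec_mul, inv_mul_cancel_left] at this
  exact this

/-- unipotent elements of roots that cannot be added fix a root vector -/
theorem vec_fix (g : Good D A) {P : ℕ → Prop} {r : ℕ} (hr : r < D.nroots)
    (hP : ∀ b, P b → b < D.nroots ∧ r ≠ A.neg b ∧ A.chain b r = []) {z : GL D.Idx F}
    (hz : z ∈ UP F g P) : vec z r = ev D F (D.rank + r) := by
  have gen : ∀ b t, P b → vec (xG g b t) r = ev D F (D.rank + r) := by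
    intro b t hb
    obtain ⟨h1, h2, h3⟩ := hP b hb
    rw [vec, xG_val]
    by_cases e : r = b
    · subst e; exact x_mulVec_self g hr t
    · rw [x_mulVec_chain g h1 hr e h2 t, h3]; simp
  induction hz using Subgroup.closure_induction_left with
  | one => exact vec_one r
  | mul_left a ha b _ ih =>
    obtain ⟨s, t, hs, rfl⟩ := ha
    rw [vec_mul, ih]; exact gen s t hs
  | inv_mul_cancel a ha b _ ih =>
    obtain ⟨s, t, hs, rfl⟩ := ha
    rw [xG_inv, vec_mul, ih]; exact gen s (-t) hs

/-- positive unipotent elements fix the highest root vector -/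
theorem vec_top (g : Good D A) {sh : List ℕ} (L : LongFacts D A sh) {z : GL D.Idx F}
    (hz : z ∈ D.posUnipotent F) : vec z (top D) = ev D F (D.rank + top D) := by
  rw [posUnipotent_eq g] at hz
  refine vec_fix g (P := fun b => D.IsPosRoot b) (top_lt L) (fun b hb => ?_) hz
  refine ⟨hb.1, fun e => not_pos_neg g hb (e ▸ top_isPos g L), L.top_chain b hb.1 (pos_coords g hb)⟩

/-- the inverse of a fundamental monomial element acts by the reflection -/
theorem acts_nS_inv (g : Good D A) {i : ℕ} (hi : i < D.rank) :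
    Acts g (nS F g i)⁻¹ (A.refl i) := by
  obtain ⟨z, hz⟩ := nS_sq_mem (F := F) g hi
  have e : (nS F g i)⁻¹ = (tor D A z⁻¹ : GL D.Idx F) * nS F g i := by
    rw [map_inv, hz]; group
  rw [e]
  exact (acts_tor g z⁻¹).mul (acts_nS g hi)

/-- long roots are preserved by monomial elements -/
theorem long_acts (h : Std D A) {sh : List ℕ} (L : LongFacts D A sh) {n : GL D.Idx F} {τ : ℕ → ℕ}
    (hn : n ∈ D.monomialSubgroup F) (hτ : Acts h.good n τ) {r : ℕ} (hr : r < D.nroots) :
    τ r ∈ sh ↔ r ∈ sh := by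
  have g := h.good
  obtain ⟨w, hw, c, rfl⟩ := monomial_exists_word g hn
  have e := (acts_tor g c).mul (nW_acts (F := F) g hw)
  rw [hτ.unique e hr]
  show wf A w r ∈ sh ↔ r ∈ sh
  clear e hτ hn
  induction w with
  | nil => exact Iff.rfl
  | cons i w ih => exact (L.closed i hw.head _ (wf_lt g hw.tail hr)).trans (ih hw.tail)

/-- the tail of a root string does not meet a given coordinate -/
theorem sum_terms_zero {x : Fin D.nroots} (a : F) : ∀ {ls : List ((ℕ × ℤ) × ℕ)},
    (∀ e ∈ ls, e.1.1 ≠ x.val) →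
    ((ls.map fun e => ((e.1.2 : F) * a ^ (e.2 + 1)) • ev D F (D.rank + e.1.1)).sum) (Sum.inr x) = 0
  | [], _ => rfl
  | e :: ls, he => by
    rw [List.map_cons, List.sum_cons, Pi.add_apply,
      sum_terms_zero a fun y hy => he y (List.mem_cons_of_mem _ hy)]
    simp [ev, idx, (he e List.mem_cons_self).symm]

/-- positive unipotent elements commute with the highest root elements -/
theorem top_central (h : Std D A) {sh : List ℕ} (L : LongFacts D A sh) {z : GL D.Idx F}
    (hz : z ∈ D.posUnipotent F) (k : F) : Commute z (xG h.good (top D) k) := by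
  have g := h.good
  have hθ := top_lt L
  have htop := top_isPos g L
  rw [posUnipotent_eq g] at hz
  induction hz using Subgroup.closure_induction with
  | one => exact Commute.one_left _
  | mul a b _ _ ha hb => exact ha.mul_left hb
  | inv a _ ha => exact ha.inv_left
  | mem a ha =>
    obtain ⟨s, t, hs, rfl⟩ := ha
    refine (commute_xG h hθ hs.1 (fun e' => not_pos_neg g htop (e' ▸ hs)) ?_ k t).symm
    refine List.eq_nil_iff_forall_not_mem.2 fun q hq => ?_
    obtain ⟨h1, h2, h3, h4⟩ := terms_mem g hθ hs.1 hq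
    have hcode := code_lin (D := D) (A := A) (r := top D) (s := s) (u := q.1) _ _ h4
    have hcs := (pos_iff_code h hs.1).1 hs
    have hct := (pos_iff_code h hθ).1 htop
    have h5 : q.1 ≤ top D := by unfold top; omega
    have h6 : code D A q.1 ≤ code D A (top D) := by
      rcases h5.lt_or_eq with h' | h'
      · exact (code_mono h h' hθ).le
      · rw [h']
    have h2' : (1 : ℤ) ≤ (q.2.2.1 : ℤ) := by exact_mod_cast h2
    have h3' : (1 : ℤ) ≤ (q.2.2.2 : ℤ) := by exact_mod_cast h3
    nlinarith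

/-- the coordinate next to a long root vector -/
theorem coord (h : Std D A) {sh : List ℕ} (L : LongFacts D A sh) {i q : ℕ} (hi : i < D.rank)
    (hq : q < D.nroots) (hqs : q ∉ sh) (hc : A.cart i q < 0) (a : F) {u : GL D.Idx F}
    (hu : u ∈ UP F h.good (posBut D i)) :
    ∃ row : D.Idx, ∃ m : ℤ, (m = 1 ∨ m = -1) ∧
      vec (xG h.good (D.simple i) a * u) q row = (m : F) * a ∧
      vec (xG h.good (D.simple i) a * u) q (Sum.inr ⟨q, hq⟩) = 1 := by
  have g := h.good
  have hp := g.simple_lt i hi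
  set f : Fin D.rank → ℝ := fun j => if j.val = i then (1 / 2 : ℝ) else 1 with hf
  have hf0 : ∀ j, 0 ≤ f j := fun j => by simp only [hf]; split <;> norm_num
  have hfsi : evR D A (D.simple i) f = 1 / 2 := by
    rw [evR_simple g hi]; simp [hf]
  have hT : T1 A f u := by
    refine T1_of_mem_UP g (P := posBut D i) (fun r hr => ⟨hr.1.1, ?_⟩) hu
    obtain ⟨j, hj, hji, hjp⟩ := exists_coord_pos g hi hr.1 hr.2
    have h1 : (1 : ℝ) ≤ (A.a r j : ℝ) * f ⟨j, hj⟩ := by
      simp only [hf, if_neg hji, mul_one]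
      exact_mod_cast (show (1 : ℤ) ≤ A.a r j by omega)
    have h2 := Finset.single_le_sum (s := Finset.univ) (f := fun k : Fin D.rank => (A.a r k : ℝ) * f k)
      (fun k _ => mul_nonneg (by exact_mod_cast (g.pos_iff r hr.1.1).1 hr.1 k) (hf0 k))
      (Finset.mem_univ (⟨j, hj⟩ : Fin D.rank))
    exact h1.trans h2
  have hlo : Lo A f 0 (xG g (D.simple i) a : Matrix D.Idx D.Idx F) :=
    borel_lo g hf0 (xG_mem_borel g (simple_pos g hi) a)
  -- only the fundamental root element contributes in the window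
  have key : ∀ row : D.Idx, wR D A f row < evR D A q f + 1 →
      vec (xG g (D.simple i) a * u) q row =
        (D.x F (D.simple i) a *ᵥ ev D F (D.rank + q)) row := by
    intro row hrow
    have e : vec (xG g (D.simple i) a * u) q = D.x F (D.simple i) a *ᵥ ev D F (D.rank + q) +
        ((xG g (D.simple i) a : Matrix D.Idx D.Idx F) * ((u : Matrix D.Idx D.Idx F) - 1)) *ᵥ
          ev D F (D.rank + q) := by
      rw [mul_sub, mul_one, Matrix.sub_mulVec, xG_val, add_sub_cancel]
      simp [vec]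
    rw [e, Pi.add_apply]
    have hz : (((xG g (D.simple i) a : Matrix D.Idx D.Idx F) * ((u : Matrix D.Idx D.Idx F) - 1)) *ᵥ
        ev D F (D.rank + q)) row = 0 := by
      rw [show D.rank + q = idx D (Sum.inr ⟨q, hq⟩ : D.Idx) from rfl, mulVec_ev]
      by_contra hne
      have := lo_mul hlo hT row (Sum.inr ⟨q, hq⟩) hne
      simp only [wR] at this hrow
      linarith
    rw [hz, add_zero]
  have hself : vec (xG g (D.simple i) a * u) q (Sum.inr ⟨q, hq⟩) = 1 := by
    rw [key _ (by simp [wR])]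
    by_cases e : q = A.neg (D.simple i)
    · subst e
      rw [x_mulVec_neg g hp]
      have hz2 : hsum D F A (D.simple i) (Sum.inr ⟨A.neg (D.simple i), hq⟩) = 0 := by
        rw [hsum, Finset.sum_apply]
        refine Finset.sum_eq_zero fun j hj => ?_
        have := Finset.mem_range.1 hj
        simp [ev, idx, show D.rank + A.neg (D.simple i) ≠ j by omega]
      rw [Pi.add_apply, Pi.add_apply, Pi.smul_apply, Pi.smul_apply, hz2, ev_self hq, smul_zero, add_zero]
      simp [ev, idx, g.neg_ne _ hp]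
    · have e' : q ≠ D.simple i := fun e' => by
        rw [e', g.cart_simple i hi] at hc; omega
      rw [x_mulVec_chain g hp hq e' e, Pi.add_apply, ev_self hq,
        sum_terms_zero a (x := ⟨q, hq⟩) fun w hw hw1 => ?_, add_zero]
      obtain ⟨⟨u', m'⟩, k'⟩ := w
      have hget : (A.chain (D.simple i) q)[k']? = some (u', m') := List.mem_zipIdx_iff_getElem?.1 hw
      obtain ⟨-, -, -, hb⟩ := g.chain_mem (D.simple i) hp q hq k' u' m' hget
      have h1 := hb i hi
      dsimp only at hw1
      rw [hw1, g.a_simple i hi i hi, if_pos rfl] at h1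
      omega
  rcases L.step q hq hqs i hi hc with e | ⟨⟨q1, m⟩, hm, hmu⟩
  · refine ⟨Sum.inl ⟨i, hi⟩, 1, Or.inl rfl, ?_, hself⟩
    subst e
    rw [key _ (by simp only [wR]; rw [evR_neg g hp, hfsi]; norm_num), x_mulVec_neg g hp]
    simp only [Pi.add_apply, Pi.smul_apply, smul_eq_mul, hsum, Finset.sum_apply, Int.cast_one, one_mul]
    have z1 : ev D F (D.rank + A.neg (D.simple i)) (Sum.inl ⟨i, hi⟩) = 0 := by
      simp [ev, idx, show i ≠ D.rank + A.neg (D.simple i) by omega]
    have z2 : ev D F (D.rank + D.simple i) (Sum.inl ⟨i, hi⟩) = 0 := by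
      simp [ev, idx, show i ≠ D.rank + D.simple i by omega]
    rw [z1, z2, mul_zero, add_zero, zero_add, Finset.sum_eq_single i]
    · simp [ev, idx, g.coro_simple i hi i hi]
    · intro j _ hji; simp [ev, idx, Ne.symm hji]
    · intro hn; exact absurd (Finset.mem_range.2 hi) hn
  · obtain ⟨l, hl⟩ : ∃ l, A.chain (D.simple i) q = (q1, m) :: l := by
      cases hch : A.chain (D.simple i) q with
      | nil => simp [hch] at hm
      | cons e l => simp [hch] at hm; exact ⟨l, by rw [hm]⟩
    have e0 : (A.chain (D.simple i) q)[0]? = some (q1, m) := by rw [hl]; rfl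
    obtain ⟨hq1, -, -, ha⟩ := g.chain_mem (D.simple i) hp q hq 0 q1 m e0
    have ha' : ∀ j < D.rank, A.a q1 j = A.a q j + A.a (D.simple i) j := fun j hj => by
      rw [ha j hj]; push_cast; ring
    refine ⟨Sum.inr ⟨q1, hq1⟩, m, hmu, ?_, hself⟩
    have hev : evR D A q1 f = evR D A q f + 1 / 2 := by
      rw [← hfsi]
      simp only [evR, ← Finset.sum_add_distrib]
      refine Finset.sum_congr rfl fun j _ => ?_
      rw [ha' j j.isLt]; push_cast; ring
    rw [key _ (by simp only [wR]; rw [hev]; norm_num)]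
    have hne : q ≠ A.neg (D.simple i) := fun e => by
      subst e
      have := g.chain_negSelf (D.simple i) hp
      rw [hl] at this; exact List.cons_ne_nil _ _ this
    have hne' : q ≠ D.simple i := fun e' => by
      rw [e', g.cart_simple i hi] at hc; omega
    rw [x_mulVec_chain g hp hq hne' hne, hl, List.zipIdx_cons, List.map_cons, List.sum_cons,
      Pi.add_apply, Pi.add_apply]
    have hq1q : q1 ≠ q := fun e => by
      have := ha' i hi
      rw [e, g.a_simple i hi i hi, if_pos rfl] at this; omega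
    have htail : ∀ e ∈ (l.zipIdx (0 + 1)), e.1.1 ≠ q1 := by
      intro e he he1
      obtain ⟨⟨u', m'⟩, k⟩ := e
      rw [List.mem_zipIdx_iff_le_and_getElem?_sub] at he
      obtain ⟨hk, hget⟩ := he
      have hget' : (A.chain (D.simple i) q)[k]? = some (u', m') := by
        rw [hl, show k = (k - (0 + 1)) + 1 by omega, List.getElem?_cons_succ]; exact hget
      obtain ⟨-, -, -, hb⟩ := g.chain_mem (D.simple i) hp q hq k u' m' hget'
      have h1 := hb i hi
      dsimp only at he1
      rw [he1, ha' i hi, g.a_simple i hi i hi, if_pos rfl] at h1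
      have : (1 : ℤ) ≤ (k : ℤ) := by exact_mod_cast (show 1 ≤ k by omega)
      omega
    rw [sum_terms_zero a (x := ⟨q1, hq1⟩) htail]
    simp [ev, idx, hq1q]

/-- one step up -/
theorem climb_step (h : Std D A) {sh : List ℕ} (L : LongFacts D A sh) (σ : F →+* F) {i r : ℕ}
    (hi : i < D.rank) (hr : r < D.nroots) {b n v : GL D.Idx F} {τ : ℕ → ℕ}
    (hb : b ∈ D.borelSubgroup F) (hn : n ∈ D.monomialSubgroup F) (hτ : Acts h.good n τ)
    (hv : vec v r = ev D F (D.rank + r)) (hlong : τ r ∉ sh) (hc : A.cart i (τ r) < 0)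
    (hl : RatLine σ (vec (b * n * v) r)) :
    ∃ m ∈ ratG h.good σ, ∃ b' ∈ D.borelSubgroup F, ∃ n' ∈ D.monomialSubgroup F,
      Acts h.good n' (A.refl i ∘ τ) ∧ b * n * v = m * (b' * n' * v) := by
  have g := h.good
  have hq := hτ.map.1 r hr
  obtain ⟨u, hu, c, rfl⟩ := (mem_borel_iff g).1 hb
  obtain ⟨w, hw, a, hwa⟩ := pos_decomp h hi (inv_mem hu)
  have hu' : u = xG g (D.simple i) (-a) * w⁻¹ := by
    rw [← inv_inv u, hwa, _root_.mul_inv_rev, xG_inv]
  obtain ⟨k, hk, hkv⟩ := vec_acts hτ hr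
  have e : vec (u * tor D A c * n * v) r =
      ((k * (chi D A c (τ r) : F)) • vec u (τ r)) := by
    rw [vec_mul, hv, show ((u * tor D A c * n : GL D.Idx F) : Matrix D.Idx D.Idx F) *ᵥ ev D F (D.rank + r) =
      vec (u * tor D A c * n) r from rfl, vec_mul, hkv, Matrix.mulVec_smul,
      show ((u * tor D A c : GL D.Idx F) : Matrix D.Idx D.Idx F) *ᵥ ev D F (D.rank + τ r) =
      vec (u * tor D A c) (τ r) from rfl, vec_mul, vec_tor, Matrix.mulVec_smul, smul_smul]
    rfl
  rw [e] at hl
  obtain ⟨l, hl⟩ := hl.of_smul (mul_ne_zero hk (Units.ne_zero _))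
  obtain ⟨row, m, hm, hrow, hself⟩ := coord h L hi hq hlong hc (-a) (inv_mem hw)
  rw [← hu'] at hrow hself
  have hl1 := hl (Sum.inr ⟨τ r, hq⟩)
  rw [hself, map_one, mul_one] at hl1
  have ha : σ (-a) = -a := by
    have := hl row
    rw [hrow, ← hl1, one_mul, map_mul, map_intCast] at this
    rcases hm with rfl | rfl <;> simpa using this
  obtain ⟨d, hd⟩ := monomial_conj_tor g (inv_mem (nS_mem_monomial (F := F) g hi)) c
  rw [inv_inv] at hd
  refine ⟨xG g (D.simple i) (-a) * nS F g i, mul_mem (xG_mem_ratG g ha _) (nS_mem_ratG g σ i),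
    (nS F g i)⁻¹ * w⁻¹ * nS F g i * tor D A d, ?_, (nS F g i)⁻¹ * n,
    mul_mem (inv_mem (nS_mem_monomial g hi)) hn, (acts_nS_inv g hi).mul hτ, ?_⟩
  · refine mul_mem (pos_le_borel (UP_posBut_le g i ?_)) (tor_mem_borel g d)
    have := (Subgroup.mem_normalizer_iff.1 (rankOne_le_normalizer h hi
      (inv_mem (nS_mem_rankOne g i))) w⁻¹).1 (inv_mem hw)
    rwa [inv_inv] at this
  · rw [hu', ← hd]; group

/-- climbing to a dominant root for a set of nodes -/
theorem climb (h : Std D A) {sh : List ℕ} (L : LongFacts D A sh) (σ : F →+* F) (J : Set ℕ)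
    {r : ℕ} (hr : r < D.nroots) (hrs : r ∉ sh) {v : GL D.Idx F} (hv : vec v r = ev D F (D.rank + r)) :
    ∀ {b n : GL D.Idx F} {τ : ℕ → ℕ}, b ∈ D.borelSubgroup F → n ∈ D.monomialSubgroup F →
      Acts h.good n τ → (∀ s < D.nroots, ∀ l < D.rank, l ∉ J → A.a (τ s) l = A.a s l) →
      RatLine σ (vec (b * n * v) r) →
      ∃ m ∈ ratG h.good σ, ∃ b' ∈ D.borelSubgroup F, ∃ n' ∈ D.monomialSubgroup F, ∃ τ',
        Acts h.good n' τ' ∧ (∀ s < D.nroots, ∀ l < D.rank, l ∉ J → A.a (τ' s) l = A.a s l) ∧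
        τ' r ∉ sh ∧ (∀ j ∈ J, j < D.rank → 0 ≤ A.cart j (τ' r)) ∧ b * n * v = m * (b' * n' * v) := by
  intro b n τ
  induction hk : D.nroots - τ r using Nat.strong_induction_on generalizing b n τ with
  | _ k ih =>
    intro hb hn hτ hpres hl
    have hlong : τ r ∉ sh := fun e => hrs ((long_acts h L hn hτ hr).1 e)
    by_cases hdom : ∀ j ∈ J, j < D.rank → 0 ≤ A.cart j (τ r)
    · exact ⟨1, one_mem _, b, hb, n, hn, τ, hτ, hpres, hlong, hdom, by rw [one_mul]⟩
    push Not at hdom
    obtain ⟨i, hiJ, hi, hc⟩ := hdom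
    obtain ⟨m, hm, b', hb', n', hn', hτ', e⟩ := climb_step h L σ hi hr hb hn hτ hv hlong hc hl
    have hq := hτ.map.1 r hr
    have hlt := lt_refl_of_neg h hi hq hc
    have hpres' : ∀ s < D.nroots, ∀ l < D.rank, l ∉ J → A.a ((A.refl i ∘ τ) s) l = A.a s l := by
      intro s hs l hl' hlJ
      rw [Function.comp_apply, h.good.a_refl i hi _ (hτ.map.1 s hs) l hl',
        if_neg (fun e : l = i => hlJ (e ▸ hiJ)), sub_zero, hpres s hs l hl' hlJ]
    obtain ⟨m', hm', b'', hb'', n'', hn'', τ'', h1, h2, h3, h4, e'⟩ :=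
      ih (D.nroots - (A.refl i ∘ τ) r) (by rw [Function.comp_apply]; omega) rfl hb' hn' hτ' hpres'
        (RatLine.rat_inv_mul h.good hm (by rw [← e]; exact hl))
    exact ⟨m * m', mul_mem hm hm', b'', hb'', n'', hn'', τ'', h1, h2, h3, h4, by rw [e, e', ← mul_assoc]⟩

/-- elements carrying a highest root element to another one preserve its line -/
theorem vec_of_conj (h : Std D A) {sh : List ℕ} (L : LongFacts D A sh) {y : GL D.Idx F}
    (hy : y ∈ D.group F) {k k' : F} (hk : k ≠ 0)
    (hc : y * xG h.good (top D) k * y⁻¹ = xG h.good (top D) k') :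
    ∃ l : F, l ≠ 0 ∧ vec y (top D) = l • ev D F (D.rank + top D) := by
  have g := h.good
  have hθ := top_lt L
  obtain ⟨b, hb, n, hn, τ, hτ, v, hv, rfl⟩ := normal_form_exists h hy
  have hvU : v ∈ D.posUnipotent F := UP_toNeg_le g τ hv
  have hvn : vec v (top D) = ev D F (D.rank + top D) := vec_top g L hvU
  obtain ⟨k2, hk2, hconj⟩ := hτ.conj (top D) hθ
  obtain ⟨u, hu, c, rfl⟩ := (mem_borel_iff g).1 hb
  have hn2 : tor D A c * (n * xG g (top D) k * n⁻¹) * (tor D A c)⁻¹ = xG g (top D) k' := by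
    calc tor D A c * (n * xG g (top D) k * n⁻¹) * (tor D A c)⁻¹
        = tor D A c * (n * (v * xG g (top D) k * v⁻¹) * n⁻¹) * (tor D A c)⁻¹ := by
          rw [(top_central h L hvU k).eq, mul_inv_cancel_right]
      _ = u⁻¹ * ((u * tor D A c * n * v) * xG g (top D) k * (u * tor D A c * n * v)⁻¹) * u := by group
      _ = _ := by rw [hc, mul_assoc, ← (top_central h L hu k').eq, inv_mul_cancel_left]
  rw [hconj, tor_conj_xG g c (hτ.map.1 _ hθ)] at hn2
  have hτθ : τ (top D) = top D :=
    xG_inj_root g (hτ.map.1 _ hθ) hθ (mul_ne_zero (Units.ne_zero _) (mul_ne_zero hk2 hk)) hn2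
  obtain ⟨k3, hk3, e4⟩ := vec_acts hτ hθ
  refine ⟨k3 * (chi D A c (top D) : F), mul_ne_zero hk3 (Units.ne_zero _), ?_⟩
  rw [vec_mul, hvn, show ((u * tor D A c * n : GL D.Idx F) : Matrix D.Idx D.Idx F) *ᵥ ev D F (D.rank + top D) =
      vec (u * tor D A c * n) (top D) from rfl, vec_mul, e4, Matrix.mulVec_smul, hτθ,
    show ((u * tor D A c : GL D.Idx F) : Matrix D.Idx D.Idx F) *ᵥ ev D F (D.rank + top D) =
      vec (u * tor D A c) (top D) from rfl, vec_mul, vec_tor, Matrix.mulVec_smul, smul_smul]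
  congr 1
  exact vec_top g L hu

/-- a Bruhat product fixing the highest root carries its root elements to root elements -/
theorem conj_top (h : Std D A) {sh : List ℕ} (L : LongFacts D A sh) {b n v : GL D.Idx F} {τ : ℕ → ℕ}
    (hb : b ∈ D.borelSubgroup F) (hτ : Acts h.good n τ) (hv : v ∈ D.posUnipotent F)
    (hfix : τ (top D) = top D) {k : F} (hk : k ≠ 0) :
    ∃ k' : F, k' ≠ 0 ∧ (b * n * v) * xG h.good (top D) k * (b * n * v)⁻¹ = xG h.good (top D) k' := by
  have g := h.good
  obtain ⟨u, hu, c, rfl⟩ := (mem_borel_iff g).1 hb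
  obtain ⟨k2, hk2, hconj⟩ := hτ.conj (top D) (top_lt L)
  refine ⟨(chi D A c (top D) : F) * (k2 * k), mul_ne_zero (Units.ne_zero _) (mul_ne_zero hk2 hk), ?_⟩
  calc u * tor D A c * n * v * xG g (top D) k * (u * tor D A c * n * v)⁻¹
      = u * tor D A c * n * (v * xG g (top D) k * v⁻¹) * (u * tor D A c * n)⁻¹ := by group
    _ = u * tor D A c * (n * xG g (top D) k * n⁻¹) * (u * tor D A c)⁻¹ := by
      rw [(top_central h L hv k).eq, mul_inv_cancel_right]; group
    _ = u * (tor D A c * (n * xG g (top D) k * n⁻¹) * (tor D A c)⁻¹) * u⁻¹ := by group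
    _ = _ := by
      rw [hconj, hfix, tor_conj_xG g c (top_lt L), (top_central h L hu _).eq, mul_inv_cancel_right]

end CfsgLib.Chev.Subfield
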