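import Cfsg.Agent.Lib.Chev.Subfield.Basic

/-!
The long roots of the seven types.
-/

set_option autoImplicit false
set_option maxRecDepth 100000

namespace CfsgLib.Chev.Subfield

open Cfsg.Lie

/-- the short roots of `B₂` -/
def shB2 : List ℕ := [1, 2, 5, 6]

/-- the short roots of `G₂` -/
def shG2 : List ℕ := [2, 3, 4, 7, 8, 9]

/-- the short roots of `F₄` -/
def shF4 : List ℕ :=
  [3, 7, 8, 9, 10, 11, 12, 13, 14, 18, 19, 20, 27, 28, 29, 33, 34, 35, 36, 37, 38, 39, 40, 44]

theorem long_B2 : longCheck chevB2 auxB2 shB2 = true := by decide +kernel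
theorem long_G2 : longCheck chevG2 auxG2 shG2 = true := by decide +kernel
theorem long_D4 : longCheck chevD4 auxD4 [] = true := by decide +kernel
theorem long_F4 : longCheck chevF4 auxF4 shF4 = true := by decide +kernel
theorem long_E6 : longCheck chevE6 auxE6 [] = true := by decide +kernel
theorem long_E7 : longCheck chevE7 auxE7 [] = true := by decide +kernel
theorem long_E8 : longCheck chevE8 auxE8 [] = true := by decide +kernel

end CfsgLib.Chev.Subfield
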