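import Cfsg.Agent.Lib.Chev.Subfield.RingsG2

/-!
The field of parameters of a finite subgroup containing the root elements with parameter `1`.
-/

set_option autoImplicit false
set_option linter.style.haveILetI false
set_option maxRecDepth 100000

namespace CfsgLib.Chev.Subfield

open Cfsg.Lie

variable {D : ChevalleyDatum} {A : Aux} {F : Type*} [Field F]

theorem triple_D4 : tripleCheck chevD4 auxD4 12 14 15 = true := by decide +kernel
theorem triple_E6 : tripleCheck chevE6 auxE6 36 37 38 = true := by decide +kernel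
theorem triple_E7 : tripleCheck chevE7 auxE7 63 64 65 = true := by decide +kernel
theorem triple_E8 : tripleCheck chevE8 auxE8 120 121 122 = true := by decide +kernel

theorem lam_short (h : Std D A) {sh : List ℕ} (L : LongFacts D A sh) {ts : ℕ}
    (hts : ∀ r < D.nroots, r ∈ sh → r ≠ ts → ∃ i < D.rank, A.cart i r < 0)
    {H : Subgroup (GL D.Idx F)} (U : Units1 h.good H) :
    ∀ {r : ℕ}, r < D.nroots → r ∈ sh → lam h.good H r = lam h.good H ts := by
  intro r
  induction hk : D.nroots - r using Nat.strong_induction_on generalizing r with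
  | _ k ih =>
    intro hr hsh
    by_cases e : r = ts
    · rw [e]
    obtain ⟨i, hi, hc⟩ := hts r hr hsh e
    rw [← lam_refl U hi hr]
    exact ih (D.nroots - A.refl i r) (by have := lt_refl_of_neg h hi hr hc; omega) rfl
      (h.good.refl_lt i hi r hr) ((L.closed i hi r hr).2 hsh)

theorem exists_field_of (h : Std D A) {sh : List ℕ} (L : LongFacts D A sh)
    {H : Subgroup (GL D.Idx F)} [Finite H] (U : Units1 h.good H)
    (hmul : ∀ x y, x ∈ lam h.good H (top D) → y ∈ lam h.good H (top D) → x * y ∈ lam h.good H (top D))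
    (hsh : ∀ r < D.nroots, r ∈ sh → lam h.good H r = lam h.good H (top D)) :
    ∃ E : Subfield F, ∀ r < D.nroots, ∀ t, t ∈ lam h.good H r ↔ t ∈ E := by
  haveI := lam_finite h H (top_lt L)
  obtain ⟨E, hE⟩ := exists_subfield (lam h.good H (top D)) (U.one_mem _) hmul
  refine ⟨E, fun r hr t => ?_⟩
  by_cases hs : r ∈ sh
  · rw [hsh r hr hs, hE]
  · rw [lam_long h L U hr hs, hE]

/-- two root lengths with ratio two -/
theorem exists_field_blk (h : Std D A) {sh : List ℕ} (L : LongFacts D A sh) {ts : ℕ}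
    (hts : ∀ r < D.nroots, r ∈ sh → r ≠ ts → ∃ i < D.rank, A.cart i r < 0) {ia ib a b c d : ℕ}
    (hB : blkCheck D A ia ib a b c d = true) (hlt : a < D.nroots ∧ b < D.nroots) (ha : a ∉ sh)
    (hb : b ∈ sh) {H : Subgroup (GL D.Idx F)} [Finite H] (U : Units1 h.good H) {p : ℕ}
    [Fact p.Prime] [CharP F p] :
    ∃ E : Subfield F, ∀ r < D.nroots, ∀ t, t ∈ lam h.good H r ↔ t ∈ E := by
  obtain ⟨e1, e2, -⟩ := blk_field (p := p) h hB U
  rw [lam_long h L U hlt.1 ha, lam_short h L hts U hlt.2 hb] at e1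
  rw [lam_long h L U hlt.1 ha] at e2
  exact exists_field_of h L U e2 fun r hr hs => by rw [lam_short h L hts U hr hs, e1]

theorem exists_field {D : ChevalleyDatum}
    (hD : D ∈ [chevG2, chevB2, chevD4, chevF4, chevE6, chevE7, chevE8])
    (H : Subgroup (GL D.Idx F)) [Finite H] {p : ℕ} [Fact p.Prime] [CharP F p]
    (hU : ∀ r < D.nroots, ∀ y : GL D.Idx F, (y : Matrix D.Idx D.Idx F) = D.x F r 1 → y ∈ H) :
    ∃ E : Subfield F, ∀ r < D.nroots, ∀ (t : F) (y : GL D.Idx F),
      (y : Matrix D.Idx D.Idx F) = D.x F r t → (y ∈ H ↔ t ∈ E) := by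
  obtain ⟨A, h⟩ := std_of_mem hD
  suffices ∃ A', ∃ h' : Std D A', ∃ E : Subfield F, ∀ r < D.nroots, ∀ t,
      t ∈ lam h'.good H r ↔ t ∈ E by
    obtain ⟨A', h', E, hE⟩ := this
    refine ⟨E, fun r hr t y hy => ?_⟩
    rw [(eq_xG_iff h'.good).1 hy]
    exact hE r hr t
  have U : ∀ {A' : Aux} (h' : Std D A'), Units1 h'.good H := fun {A'} h' => ⟨fun r => by
    by_cases hr : r < D.nroots
    · exact hU r hr _ (xG_val _ r 1)
    · simp [xG, hr, one_mem]⟩
  clear hU h
  simp only [List.mem_cons, List.not_mem_nil, or_false] at hD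
  rcases hD with rfl | rfl | rfl | rfl | rfl | rfl | rfl
  · have L := longFacts_of_check long_G2
    obtain ⟨e1, e2⟩ := g2_field (p := p) (U stdG2)
    have t7 : (∀ r < chevG2.nroots, r ∈ shG2 → r ≠ 9 → ∃ i < chevG2.rank, auxG2.cart i r < 0) ∧
        6 < chevG2.nroots ∧ 7 < chevG2.nroots ∧ 6 ∉ shG2 ∧ 7 ∈ shG2 := by decide +kernel
    obtain ⟨hts, l6, l7, s6, s7⟩ := t7
    rw [lam_long stdG2 L (U stdG2) l6 s6, lam_short stdG2 L hts (U stdG2) l7 s7] at e1
    rw [lam_long stdG2 L (U stdG2) l6 s6] at e2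
    exact ⟨_, stdG2, exists_field_of stdG2 L (U stdG2) e2 fun r hr hs => by
      rw [lam_short stdG2 L hts (U stdG2) hr hs, e1]⟩
  · exact ⟨_, stdB2, exists_field_blk (p := p) (ts := 6) (ia := 1) (ib := 0) (a := 4) (b := 5) (c := 6) (d := 7)
      stdB2 (longFacts_of_check long_B2) (by decide +kernel) (by decide +kernel) (by decide +kernel)
      (by decide +kernel) (by decide +kernel) (U stdB2)⟩
  · have L := longFacts_of_check long_D4
    exact ⟨_, stdD4, exists_field_of stdD4 L (U stdD4) (fun x y hx hy => long_mul stdD4 L (U stdD4) triple_D4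
      List.not_mem_nil List.not_mem_nil List.not_mem_nil hx hy) fun r _ hs => absurd hs List.not_mem_nil⟩
  · exact ⟨_, stdF4, exists_field_blk (p := p) (ts := 44) (ia := 2) (ib := 1) (a := 25) (b := 27) (c := 28) (d := 30)
      stdF4 (longFacts_of_check long_F4) (by decide +kernel) (by decide +kernel) (by decide +kernel)
      (by decide +kernel) (by decide +kernel) (U stdF4)⟩
  · have L := longFacts_of_check long_E6
    exact ⟨_, stdE6, exists_field_of stdE6 L (U stdE6) (fun x y hx hy => long_mul stdE6 L (U stdE6) triple_E6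
      List.not_mem_nil List.not_mem_nil List.not_mem_nil hx hy) fun r _ hs => absurd hs List.not_mem_nil⟩
  · have L := longFacts_of_check long_E7
    exact ⟨_, stdE7, exists_field_of stdE7 L (U stdE7) (fun x y hx hy => long_mul stdE7 L (U stdE7) triple_E7
      List.not_mem_nil List.not_mem_nil List.not_mem_nil hx hy) fun r _ hs => absurd hs List.not_mem_nil⟩
  · have L := longFacts_of_check long_E8
    exact ⟨_, stdE8, exists_field_of stdE8 L (U stdE8) (fun x y hx hy => long_mul stdE8 L (U stdE8) triple_E8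
      List.not_mem_nil List.not_mem_nil List.not_mem_nil hx hy) fun r _ hs => absurd hs List.not_mem_nil⟩

end CfsgLib.Chev.Subfield
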