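import Cfsg.Agent.Lib.Chev.Subfield.TopB2

/-!
Shrinking checks for the parabolic subgroup of the highest root.
-/

set_option autoImplicit false
set_option maxRecDepth 100000

namespace CfsgLib.Chev.Subfield

open Cfsg.Lie CfsgLib.KnownB.ChevField

theorem shrink_G2 : shrinkAll chevG2 auxG2 shG2 2 (topJ chevG2 auxG2) = true := by decide +kernel
theorem shrink_D4 : shrinkAll chevD4 auxD4 [] 4 (topJ chevD4 auxD4) = true := by decide +kernel
theorem shrink_F4 : shrinkAll chevF4 auxF4 shF4 4 (topJ chevF4 auxF4) = true := by decide +kernel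
theorem shrink_E6 : shrinkAll chevE6 auxE6 [] 6 (topJ chevE6 auxE6) = true := by decide +kernel
theorem shrink_E7 : shrinkAll chevE7 auxE7 [] 7 (topJ chevE7 auxE7) = true := by decide +kernel
theorem shrink_E8 : shrinkAll chevE8 auxE8 [] 8 (topJ chevE8 auxE8) = true := by decide +kernel

theorem topFix_of_shrink {D : ChevalleyDatum} {A : Aux} {F : Type*} [Field F] {hP : Para D A}
    {σ : F →+* F} {H : Subgroup (GL D.Idx F)} {sh : List ℕ} (C : Ctx hP σ H sh) {n : ℕ}
    (e : shrinkAll D A sh n (topJ D A) = true) : TopFix hP σ H :=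
  fun y hy hyP => shrink_fix C n _ e y hy hyP

end CfsgLib.Chev.Subfield
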