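import Cfsg.Agent.Lib.Chev.Subfield.Opposite
import Cfsg.Agent.Lib.Chev.Subfield.LocalData

/-!
The seven types over a finite field.
-/

set_option autoImplicit false
set_option linter.style.haveILetI false
set_option maxRecDepth 100000

namespace CfsgLib.Chev.Subfield

open Cfsg.Lie CfsgLib.KnownB.ChevField

variable {F : Type*} [Field F] [Fintype F] {p : ℕ} [Fact p.Prime] [CharP F p]

include p in
/-- a datum with all the checks -/
theorem fix_of_checks {D : ChevalleyDatum} {A : Aux} (hP : Para D A) {sh : List ℕ} {σ : F →+* F}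
    {H : Subgroup (GL D.Idx F)} (S : Sub hP.std σ H) (U : UFix hP.std σ H) (L : LongFacts D A sh)
    (full : ∀ l < D.rank, 0 < A.a (top D) l) (X : topFactsCheck D A = true) (W : TwoFacts D A sh)
    (T : Ctx hP σ H sh → TopFix hP σ H) {y : GL D.Idx F} (hy : y ∈ H) :
    Matrix.GeneralLinearGroup.map σ y = y :=
  all_fix (p := p) ⟨S, L, U, full⟩ (T ⟨S, L, U, full⟩) (topFacts_of_check X) W hy

include p in
theorem fix_all {D : ChevalleyDatum}
    (hD : D ∈ [chevG2, chevB2, chevD4, chevF4, chevE6, chevE7, chevE8]) (σ : F →+* F)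
    (H : Subgroup (GL D.Idx F)) (hle : H ≤ D.group F)
    (hgen : ∀ r < D.nroots, ∀ t : F, σ t = t → ∀ y : GL D.Idx F,
      (y : Matrix D.Idx D.Idx F) = D.x F r t → y ∈ H)
    (honly : ∀ r < D.nroots, ∀ t : F, ∀ y : GL D.Idx F,
      (y : Matrix D.Idx D.Idx F) = D.x F r t → y ∈ H → σ t = t) :
    ∀ y ∈ H, Matrix.GeneralLinearGroup.map σ y = y := by
  intro y hy
  haveI : Finite H := by haveI : Finite (GL D.Idx F) := finite_GL; infer_instance
  have mkS : ∀ {A : Aux} (h : Std D A), Sub h σ H := fun {A} h =>
    ⟨hle, inferInstance, fun r t ht => by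
      by_cases hr : r < D.nroots
      · exact hgen r hr t ht _ (xG_val h.good r t)
      · simp [xG, hr, one_mem],
    fun r hr t ht => honly r hr t _ (xG_val h.good r t) ht⟩
  simp only [List.mem_cons, List.not_mem_nil, or_false] at hD
  rcases hD with rfl | rfl | rfl | rfl | rfl | rfl | rfl
  · exact fix_of_checks (p := p) ⟨stdG2, by decide +kernel, by decide +kernel⟩ (mkS stdG2)
      (ufix_G2 (p := p) (mkS stdG2)) (longFacts_of_check long_G2) (by decide +kernel) (by decide +kernel)
      (Or.inl (by decide +kernel)) (fun C => topFix_of_shrink C shrink_G2) hy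
  · exact fix_of_checks (p := p) ⟨stdB2, by decide +kernel, by decide +kernel⟩ (mkS stdB2)
      (ufix_B2 (p := p) (mkS stdB2)) (longFacts_of_check long_B2) (by decide +kernel) (by decide +kernel)
      (Or.inl (by decide +kernel)) (fun C => topFix_B2 C) hy
  · exact fix_of_checks (p := p) ⟨stdD4, by decide +kernel, by decide +kernel⟩ (mkS stdD4)
      (ufix_lace (s := 1) (u := 14) (mkS stdD4) (by decide +kernel) (by decide +kernel) (by decide +kernel))
      (longFacts_of_check long_D4) (by decide +kernel) (by decide +kernel)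
      (Or.inr (by decide +kernel)) (fun C => topFix_of_shrink C shrink_D4) hy
  · exact fix_of_checks (p := p) ⟨stdF4, by decide +kernel, by decide +kernel⟩ (mkS stdF4)
      (ufix_F4 (p := p) (mkS stdF4)) (longFacts_of_check long_F4) (by decide +kernel) (by decide +kernel)
      (Or.inl (by decide +kernel)) (fun C => topFix_of_shrink C shrink_F4) hy
  · exact fix_of_checks (p := p) ⟨stdE6, by decide +kernel, by decide +kernel⟩ (mkS stdE6)
      (ufix_lace (s := 1) (u := 46) (mkS stdE6) (by decide +kernel) (by decide +kernel) (by decide +kernel))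
      (longFacts_of_check long_E6) (by decide +kernel) (by decide +kernel)
      (Or.inr (by decide +kernel)) (fun C => topFix_of_shrink C shrink_E6) hy
  · exact fix_of_checks (p := p) ⟨stdE7, by decide +kernel, by decide +kernel⟩ (mkS stdE7)
      (ufix_lace (s := 1) (u := 93) (mkS stdE7) (by decide +kernel) (by decide +kernel) (by decide +kernel))
      (longFacts_of_check long_E7) (by decide +kernel) (by decide +kernel)
      (Or.inr (by decide +kernel)) (fun C => topFix_of_shrink C shrink_E7) hy
  · exact fix_of_checks (p := p) ⟨stdE8, by decide +kernel, by decide +kernel⟩ (mkS stdE8)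
      (ufix_lace (s := 1) (u := 120) (mkS stdE8) (by decide +kernel) (by decide +kernel) (by decide +kernel))
      (longFacts_of_check long_E8) (by decide +kernel) (by decide +kernel)
      (Or.inr (by decide +kernel)) (fun C => topFix_of_shrink C shrink_E8) hy

end CfsgLib.Chev.Subfield
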