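import Cfsg.Agent.Lib.Chev.Subfield.Climb

/-!
Intersections with the parabolic subgroups are rational; the coordinate criterion for rationality.
-/

set_option autoImplicit false
set_option linter.style.haveILetI false
set_option maxRecDepth 100000

namespace CfsgLib.Chev.Subfield

open Cfsg.Lie Matrix CfsgLib.KnownB.ChevField CfsgLib.Chev.Grade

variable {D : ChevalleyDatum} {A : Aux} {F : Type*} [Field F]

/-- the standing hypotheses -/
structure Ctx (hP : Para D A) (σ : F →+* F) (H : Subgroup (GL D.Idx F)) (sh : List ℕ) : Prop where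
  S : Sub hP.std σ H
  L : LongFacts D A sh
  U : UFix hP.std σ H
  full : ∀ l < D.rank, 0 < A.a (top D) l

theorem Ctx.borel {hP : Para D A} {σ : F →+* F} {H : Subgroup (GL D.Idx F)} {sh : List ℕ}
    (C : Ctx hP σ H sh) {b : GL D.Idx F} (hb : b ∈ H) (hbB : b ∈ D.borelSubgroup F) :
    Matrix.GeneralLinearGroup.map σ b = b := borel_fix C.S C.U hb hbB

/-- a rationally conjugated highest root element spans a rational line -/
theorem line_of_top (h : Std D A) {sh : List ℕ} (L : LongFacts D A sh) (σ : F →+* F) {y : GL D.Idx F}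
    (hy : y ∈ D.group F) {k : F} (hk : k ≠ 0)
    (e : Matrix.GeneralLinearGroup.map σ (y * xG h.good (top D) k * y⁻¹) =
      y * xG h.good (top D) k * y⁻¹) : RatLine σ (vec y (top D)) := by
  have g := h.good
  set y' := Matrix.GeneralLinearGroup.map σ y
  have hy' : y' ∈ D.group F := group_map_le g σ ⟨y, hy, rfl⟩
  rw [map_mul, map_mul, map_inv, map_xG] at e
  have hd : (y⁻¹ * y') * xG g (top D) (σ k) * (y⁻¹ * y')⁻¹ = xG g (top D) k := by
    calc (y⁻¹ * y') * xG g (top D) (σ k) * (y⁻¹ * y')⁻¹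
        = y⁻¹ * (y' * xG g (top D) (σ k) * y'⁻¹) * y := by group
      _ = _ := by rw [e]; group
  obtain ⟨l, hl, el⟩ := vec_of_conj h L (mul_mem (inv_mem hy) hy') ((map_ne_zero σ).2 hk) hd
  refine ⟨l, fun x => ?_⟩
  rw [map_vec, show vec y' (top D) = l • vec y (top D) by
    conv_lhs => rw [show y' = y * (y⁻¹ * y') by group, vec_mul, el, Matrix.mulVec_smul]
    rfl]
  rfl

/-- a rationally conjugated long root element spans a rational line -/
theorem line_of_long (h : Std D A) {sh : List ℕ} (L : LongFacts D A sh) (σ : F →+* F) {y : GL D.Idx F}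
    (hy : y ∈ D.group F) {r : ℕ} (hr : r < D.nroots) (hrs : r ∉ sh)
    (e : Matrix.GeneralLinearGroup.map σ (y * xG h.good r 1 * y⁻¹) = y * xG h.good r 1 * y⁻¹) :
    RatLine σ (vec y r) := by
  have g := h.good
  obtain ⟨w, hw, hwe⟩ := exists_word_top h L hr hrs
  have hact := nW_acts (F := F) g hw
  set n0 := nW F g w
  obtain ⟨k, hk, hconj⟩ := hact.conj (top D) (top_lt L)
  have ek : xG g r 1 = n0 * xG g (top D) k⁻¹ * n0⁻¹ := by
    rw [hconj, mul_inv_cancel₀ hk, hwe]
  have hn0 : n0 ∈ D.group F := monomialSubgroup_le_group g (nW_mem g hw)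
  have hl := line_of_top h L σ (mul_mem hy hn0) (inv_ne_zero hk) (by
    rw [show y * n0 * xG g (top D) k⁻¹ * (y * n0)⁻¹ = y * (n0 * xG g (top D) k⁻¹ * n0⁻¹) * y⁻¹ by group,
      ← ek]
    exact e)
  obtain ⟨k3, hk3, e3⟩ := vec_acts hact (top_lt L)
  rw [vec_mul, e3, Matrix.mulVec_smul, hwe] at hl
  exact hl.of_smul hk3

/-- the normal form with a given monomial factor -/
theorem reform (h : Std D A) {b n b' : GL D.Idx F} {σ' : ℕ → ℕ} (hb : b ∈ D.borelSubgroup F)
    (hn : n ∈ D.monomialSubgroup F) (hσ : Acts h.good n σ') (hb' : b' ∈ D.borelSubgroup F) :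
    ∃ b'' ∈ D.borelSubgroup F, ∃ v ∈ UP F h.good (toNeg D σ'), b * n * b' = b'' * n * v := by
  have g := h.good
  obtain ⟨w, hw, c, rfl⟩ := (mem_borel_iff g).1 hb'
  have hw' := tor_conj_posUnipotent g c⁻¹ hw
  rw [← UL_posRoots g] at hw'
  obtain ⟨p, hp, u, hu, e⟩ := pos_split h σ' hσ.map.1 upList_posRoots hw'
  obtain ⟨d, hd⟩ := monomial_conj_tor g hn c
  have hp' : n * p * n⁻¹ ∈ D.borelSubgroup F :=
    conj_UP_le hσ (fun r hr => hr.1.1) (fun r t hr => xG_mem_borel g hr.2 t) hp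
  refine ⟨b * tor D A d * (n * p * n⁻¹), mul_mem (mul_mem hb (tor_mem_borel g d)) hp', u, hu, ?_⟩
  rw [← hd, show b * (n * tor D A c * n⁻¹) * (n * p * n⁻¹) * n * u = b * n * tor D A c * (p * u) by group,
    ← e, map_inv]
  group

/-- the Bruhat form in a parabolic subgroup -/
theorem exists_pform (h : Std D A) (J : Set ℕ) {y : GL D.Idx F} (hy : y ∈ D.parabolicSubgroup F J) :
    ∃ b ∈ D.borelSubgroup F, ∃ n ∈ D.monomialSubgroup F, ∃ τ, Acts h.good n τ ∧
      (∀ s < D.nroots, ∀ l < D.rank, l ∉ J → A.a (τ s) l = A.a s l) ∧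
      ∃ v ∈ UP F h.good (toNeg D τ), y = b * n * v := by
  have g := h.good
  suffices ∃ b ∈ D.borelSubgroup F, ∃ n ∈ D.monomialSubgroup F, ∃ τ, Acts h.good n τ ∧
      (∀ s < D.nroots, ∀ l < D.rank, l ∉ J → A.a (τ s) l = A.a s l) ∧
      ∃ b' ∈ D.borelSubgroup F, y = b * n * b' by
    obtain ⟨b, hb, n, hn, τ, hτ, hpres, b', hb', rfl⟩ := this
    obtain ⟨b'', hb'', v, hv, e⟩ := reform h hb hn hτ hb'
    exact ⟨b'', hb'', n, hn, τ, hτ, hpres, v, hv, e⟩
  rw [parabolic_eq g, ← Subgroup.closure_eq (D.borelSubgroup F), ← Subgroup.closure_union] at hy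
  have step : ∀ j ∈ J, j < D.rank → ∀ {b n b' : GL D.Idx F} {τ : ℕ → ℕ}, b ∈ D.borelSubgroup F →
      n ∈ D.monomialSubgroup F → Acts g n τ →
      (∀ s < D.nroots, ∀ l < D.rank, l ∉ J → A.a (τ s) l = A.a s l) → b' ∈ D.borelSubgroup F →
      ∃ b₁ ∈ D.borelSubgroup F, ∃ n₁ ∈ D.monomialSubgroup F, ∃ τ₁, Acts g n₁ τ₁ ∧
        (∀ s < D.nroots, ∀ l < D.rank, l ∉ J → A.a (τ₁ s) l = A.a s l) ∧
        ∃ b₁' ∈ D.borelSubgroup F, nS F g j * (b * n * b') = b₁ * n₁ * b₁' := by
    intro j hjJ hj b n b' τ hb hn hτ hpres hb'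
    rcases bn_rule h hj hn hb with h' | h'
    · obtain ⟨x, hx, z, hz, e⟩ := DoubleCoset.mem_doubleCoset.1 h'
      refine ⟨x, hx, nS F g j * n, mul_mem (nS_mem_monomial g hj) hn, A.refl j ∘ τ, (acts_nS g hj).mul hτ,
        fun s hs l hl hlJ => ?_, z * b', mul_mem hz hb', ?_⟩
      · rw [Function.comp_apply, g.a_refl j hj _ (hτ.map.1 s hs) l hl,
          if_neg (fun e : l = j => hlJ (e ▸ hjJ)), sub_zero, hpres s hs l hl hlJ]
      · calc nS F g j * (b * n * b') = (nS F g j * b * n) * b' := by group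
          _ = _ := by rw [e]; group
    · obtain ⟨x, hx, z, hz, e⟩ := DoubleCoset.mem_doubleCoset.1 h'
      exact ⟨x, hx, n, hn, τ, hτ, hpres, z * b', mul_mem hz hb', by
        calc nS F g j * (b * n * b') = (nS F g j * b * n) * b' := by group
          _ = _ := by rw [e]; group⟩
  induction hy using Subgroup.closure_induction_left with
  | one =>
    exact ⟨1, one_mem _, 1, one_mem _, id, by simpa using acts_tor (F := F) g 1,
      fun _ _ _ _ _ => rfl, 1, one_mem _, by group⟩
  | mul_left a ha z _ ih =>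
    obtain ⟨b, hb, n, hn, τ, hτ, hpres, b', hb', rfl⟩ := ih
    rcases ha with ha | ⟨j, hjJ, hj, rfl⟩
    · exact ⟨a * b, mul_mem ha hb, n, hn, τ, hτ, hpres, b', hb', by group⟩
    · exact step j hjJ hj hb hn hτ hpres hb'
  | inv_mul_cancel a ha z _ ih =>
    obtain ⟨b, hb, n, hn, τ, hτ, hpres, b', hb', rfl⟩ := ih
    rcases ha with ha | ⟨j, hjJ, hj, rfl⟩
    · exact ⟨a⁻¹ * b, mul_mem (inv_mem ha) hb, n, hn, τ, hτ, hpres, b', hb', by group⟩
    · obtain ⟨z', hz'⟩ := nS_sq_mem (F := F) g hj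
      obtain ⟨b₁, hb₁, n₁, hn₁, τ₁, h1, h2, b₁', hb₁', e⟩ := step j hjJ hj hb hn hτ hpres hb'
      refine ⟨(tor D A z')⁻¹ * b₁, mul_mem (inv_mem (tor_mem_borel g z')) hb₁, n₁, hn₁, τ₁, h1, h2,
        b₁', hb₁', ?_⟩
      calc (nS F g j)⁻¹ * (b * n * b') = (tor D A z')⁻¹ * (nS F g j * (b * n * b')) := by rw [hz']; group
        _ = _ := by rw [e]; group

/-- the linear form cutting out the stabiliser of a root -/
noncomputable def xForm (D : ChevalleyDatum) (A : Aux) (r : ℕ) (off : ℕ → ℤ) : Fin D.rank → ℝ :=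
  fun l => ((pr D A r (D.simple l) + off l : ℤ) : ℝ)

theorem evR_xForm (g : Good D A) (r : ℕ) (off : ℕ → ℤ) {s : ℕ} (hs : s < D.nroots) :
    evR D A s (xForm D A r off) =
      ((pr D A r s + ∑ l ∈ Finset.range D.rank, A.a s l * off l : ℤ) : ℝ) := by
  rw [pr_linear g r hs, ← Finset.sum_add_distrib, Finset.sum_range]
  simp only [evR, xForm, Int.cast_sum]
  refine Finset.sum_congr rfl fun l _ => ?_
  push_cast; ring

/-- monomial elements fixing a root and the outer coordinates lie in the smaller parabolic subgroup -/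
theorem mem_parabolic_stab (h : Std D A) {J J' : Set ℕ} {r : ℕ} (hr : r < D.nroots) (off : ℕ → ℤ)
    (hoff : ∀ j ∈ J, off j = 0)
    (hx : ∀ l < D.rank, 0 ≤ pr D A r (D.simple l) + off l)
    (hJ : ∀ l < D.rank, pr D A r (D.simple l) + off l = 0 → l ∈ J')
    {n : GL D.Idx F} {τ : ℕ → ℕ} (hn : n ∈ D.monomialSubgroup F) (hτ : Acts h.good n τ)
    (hfix : τ r = r) (hpres : ∀ s < D.nroots, ∀ l < D.rank, l ∉ J → A.a (τ s) l = A.a s l) :
    n ∈ D.parabolicSubgroup F J' := by
  have g := h.good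
  obtain ⟨τ', hτ'⟩ := exists_acts g (inv_mem hn)
  have hid : Acts g (1 : GL D.Idx F) id := by simpa using acts_tor (F := F) g 1
  have hinv : ∀ s < D.nroots, τ (τ' s) = s ∧ τ' (τ s) = s := fun s hs => by
    have h1 := hτ.mul hτ'
    have h2 := hτ'.mul hτ
    rw [mul_inv_cancel] at h1
    rw [inv_mul_cancel] at h2
    exact ⟨h1.unique hid hs, h2.unique hid hs⟩
  refine mem_parabolic_of_fix h (x := xForm D A r off) (fun j => ?_) (fun i hi e => ?_) hn hτ' fun s hs => ?_
  · simp only [xForm]; exact_mod_cast hx j j.isLt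
  · refine hJ i hi ?_
    simp only [xForm] at e
    exact_mod_cast e
  · rw [evR_xForm g r off hs, evR_xForm g r off (hτ'.map.1 s hs)]
    have e1 : pr D A r (τ' s) = pr D A r s := by
      have h1 : τ' r = r := by have := (hinv r hr).2; rwa [hfix] at this
      conv_lhs => rw [← h1]
      exact pr_acts h (inv_mem hn) hτ' hr hs
    rw [e1]
    congr 2
    refine Finset.sum_congr rfl fun l hl => ?_
    by_cases hlJ : l ∈ J
    · rw [hoff l hlJ, mul_zero, mul_zero]
    · have := hpres _ (hτ'.map.1 s hs) l (Finset.mem_range.1 hl) hlJ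
      rw [(hinv s hs).1] at this
      rw [this]

variable (D A) in
/-- a root used to shrink the parabolic subgroup of `J` -/
noncomputable def shrinkOK (sh : List ℕ) (J : List ℕ) (r : ℕ) : Bool :=
  decide (r < D.nroots ∧ r ∉ sh) && decide (∀ j < D.rank, 0 ≤ A.a r j) &&
    ((List.range D.rank).any fun k => decide (k ∉ J ∧ 0 < A.a r k)) &&
    decide (∀ j ∈ J, 0 ≤ A.cart j r) &&
    ((List.range D.nroots).all fun q => decide (q ∈ sh) || decide (q = r) ||
      J.any (fun j => decide (A.cart j q < 0)) ||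
      (List.range D.rank).any fun l => decide (l ∉ J ∧ A.a q l ≠ A.a r l)) &&
    ((List.range D.nroots).all fun b => decide (∃ j < D.rank, A.a b j < 0) ||
      (List.range D.rank).any (fun l => decide (l ∉ J ∧ A.a b l ≠ 0)) ||
      decide (r ≠ A.neg b ∧ A.chain b r = [])) &&
    decide (∀ j ∈ J, j < D.rank) &&
    decide (∀ l < D.rank, (l ∈ J → 0 ≤ pr D A r (D.simple l)) ∧ (l ∉ J → 0 < pr D A r (D.simple l) + 100))

variable (D A) in
/-- the nodes left after shrinking -/
noncomputable def nextJ (J : List ℕ) (r : ℕ) : List ℕ := J.filter fun j => decide (pr D A r (D.simple j) = 0)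

variable (D A) in
/-- shrinking down to the Borel subgroup -/
noncomputable def shrinkAll (sh : List ℕ) : ℕ → List ℕ → Bool
  | 0, J => J.isEmpty
  | fuel + 1, J => J.isEmpty ||
    match (List.range D.nroots).find? fun r =>
        shrinkOK D A sh J r && decide ((nextJ D A J r).length < J.length) with
    | some r => shrinkAll sh fuel (nextJ D A J r)
    | none => false

variable (D A) in
/-- the nodes orthogonal to the highest root -/
noncomputable def topJ : List ℕ :=
  (List.range D.rank).filter fun j => decide (pr D A (top D) (D.simple j) = 0)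

theorem shrink_fix {hP : Para D A} {σ : F →+* F} {H : Subgroup (GL D.Idx F)} {sh : List ℕ}
    (C : Ctx hP σ H sh) : ∀ (fuel : ℕ) (J : List ℕ), shrinkAll D A sh fuel J = true →
    ∀ y ∈ H, y ∈ D.parabolicSubgroup F {j | j ∈ J} → Matrix.GeneralLinearGroup.map σ y = y := by
  have h := hP.std
  have g := h.good
  have base : ∀ y ∈ H, y ∈ D.parabolicSubgroup F {j | j ∈ ([] : List ℕ)} →
      Matrix.GeneralLinearGroup.map σ y = y := by
    intro y hy hyP
    refine C.borel hy ?_
    rw [parabolic_eq g] at hyP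
    refine (sup_le le_rfl ((Subgroup.closure_le _).2 ?_) : _ ≤ D.borelSubgroup F) hyP
    rintro _ ⟨j, hj, -⟩
    exact absurd hj List.not_mem_nil
  intro fuel
  induction fuel with
  | zero =>
    intro J hJ
    rw [List.isEmpty_iff.1 hJ]; exact base
  | succ fuel ih =>
    intro J hJ y hy hyP
    rw [shrinkAll, Bool.or_eq_true] at hJ
    rcases hJ with hJ | hJ
    · rw [List.isEmpty_iff.1 hJ] at hyP
      exact base y hy hyP
    split at hJ
    swap
    · simp at hJ
    next r hfind =>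
    have hr' := List.find?_some hfind
    simp only [shrinkOK, Bool.and_eq_true, Bool.or_eq_true, decide_eq_true_eq, List.any_eq_true,
      List.all_eq_true, List.mem_range] at hr'
    obtain ⟨⟨⟨⟨⟨⟨⟨⟨⟨hr, hrs⟩, hrp⟩, k, hk, hkJ, hka⟩, -⟩, huniq⟩, hvfix⟩, hJlt⟩, hx⟩, -⟩ := hr'
    set J0 : Set ℕ := {j | j ∈ J} with hJ0
    obtain ⟨b, hb, n, hn, τ, hτ, hpres, v, hv, rfl⟩ := exists_pform h J0 hyP
    have hrpos : D.IsPosRoot r := (g.pos_iff r hr).2 fun j => by
      by_cases hj : j < D.rank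
      · exact hrp j hj
      · rw [g.a_zero _ hr j (not_lt.1 hj)]
    -- `v` fixes the root vector
    have hvr : vec v r = ev D F (D.rank + r) := by
      refine vec_fix g hr (fun s hs => ?_) hv
      refine ⟨hs.1.1, ?_⟩
      rcases hvfix s hs.1.1 with (⟨j, hj, hneg⟩ | ⟨l, hl, hlJ, hl0⟩) | hfine
      · exact absurd (pos_coords g hs.1 j hj) (by omega)
      · have h1 := hpres s hs.1.1 l hl hlJ
        have h2 := pos_coords g hs.1 l hl
        have h3 : A.a (τ s) l ≤ 0 := (g.negRoot_iff _ (hτ.map.1 s hs.1.1)).1 hs.2 l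
        omega
      · exact hfine
    have hrad : xG g r 1 ∈ D.unipotentRadical F J0 := by
      rw [radical_eq hP]
      exact xG_mem_UP g (P := OutJ D A J0) ⟨hrpos, k, hk, hkJ, hka⟩ 1
    have hconjU : (b * n * v) * xG g r 1 * (b * n * v)⁻¹ ∈ D.posUnipotent F := by
      rw [radical_eq hP] at hrad
      have := ((Subgroup.mem_normalizer_iff.1 (parabolic_le_normalizer hP J0 hyP)) _).1 hrad
      exact (UP_le fun s t hs => xG_mem_posUnipotent g hs.1 t) this
    have hline := line_of_long h C.L σ (C.S.le hy) hr hrs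
      (C.U _ hconjU (push_of_mem C.S (mul_mem (mul_mem hy (C.S.gen r 1 (map_one σ))) (inv_mem hy))))
    obtain ⟨m, hm, b', hb', n', hn', τ', hτ', hpres', hlong', hdom', e⟩ :=
      climb h C.L σ J0 hr hrs hvr hb hn hτ hpres hline
    have hτr : τ' r = r := by
      rcases huniq _ (hτ'.map.1 r hr) with ((hq | hq) | ⟨j, hj, hjneg⟩) | ⟨l, hl, hlJ, hne⟩
      · exact absurd hq hlong'
      · exact hq
      · exact absurd (hdom' j hj (hJlt j hj)) (by omega)
      · exact absurd (hpres' r hr l hl hlJ) hne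
    have hsub : {j | j ∈ nextJ D A J r} ⊆ J0 := fun j hj => List.mem_of_mem_filter hj
    have hn'' : n' ∈ D.parabolicSubgroup F {j | j ∈ nextJ D A J r} := by
      refine mem_parabolic_stab h (J := J0) hr (fun l => if l ∈ J then 0 else 100)
        (fun j hj => if_pos hj) (fun l hl => ?_) (fun l hl e0 => ?_) hn' hτ' hτr hpres'
      · by_cases hlJ : l ∈ J
        · rw [if_pos hlJ, add_zero]; exact (hx l hl).1 hlJ
        · rw [if_neg hlJ]; exact ((hx l hl).2 hlJ).le
      by_cases hlJ : l ∈ J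
      · rw [if_pos hlJ, add_zero] at e0
        exact List.mem_filter.2 ⟨hlJ, by simp [e0]⟩
      · rw [if_neg hlJ] at e0
        have := (hx l hl).2 hlJ
        omega
    have hvU : v ∈ D.posUnipotent F := UP_toNeg_le g τ hv
    have hz : b' * n' * v ∈ D.parabolicSubgroup F {j | j ∈ nextJ D A J r} :=
      mul_mem (mul_mem (borel_le_parabolic _ hb') hn'') (borel_le_parabolic _ (pos_le_borel hvU))
    have hzH : b' * n' * v ∈ H := by
      rw [show b' * n' * v = m⁻¹ * (b * n * v) by rw [e]; group]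
      exact mul_mem (inv_mem (C.S.rat_le hm)) hy
    rw [e, map_mul, mem_fixG.1 (ratG_le_fixG g σ hm), ih _ hJ _ hzH hz]

variable {hP : Para D A} {σ : F →+* F} {H : Subgroup (GL D.Idx F)} {sh : List ℕ}

/-- the parabolic subgroup of the highest root meets the subgroup rationally -/
def TopFix (hP : Para D A) (σ : F →+* F) (H : Subgroup (GL D.Idx F)) : Prop :=
  ∀ y ∈ H, y ∈ D.parabolicSubgroup F {j | j ∈ topJ D A} → Matrix.GeneralLinearGroup.map σ y = y

/-- climbing to the parabolic subgroup of the highest root -/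
theorem climb_top (h : Std D A) {sh : List ℕ} (L : LongFacts D A sh) (σ : F →+* F) {y : GL D.Idx F}
    (hy : y ∈ D.group F) (hl : RatLine σ (vec y (top D))) :
    ∃ m ∈ ratG h.good σ, ∃ z ∈ D.parabolicSubgroup F {j | j ∈ topJ D A},
      y = m * z ∧ ∀ k : F, k ≠ 0 → ∃ k' : F, k' ≠ 0 ∧ z * xG h.good (top D) k * z⁻¹ = xG h.good (top D) k' := by
  have g := h.good
  obtain ⟨b, hb, n, hn, τ, hτ, v, hv, rfl⟩ := normal_form_exists h hy
  have hvU : v ∈ D.posUnipotent F := UP_toNeg_le g τ hv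
  obtain ⟨m, hm, b', hb', n', hn', τ', hτ', -, hlong', hdom', e⟩ :=
    climb h L σ Set.univ (top_lt L) L.top_long (vec_top g L hvU) hb hn hτ
      (fun _ _ l _ hl' => absurd (Set.mem_univ l) hl') hl
  have hτθ : τ' (top D) = top D := by
    by_contra hne
    obtain ⟨i, hi, hc⟩ := L.climb _ (hτ'.map.1 _ (top_lt L)) hlong' hne
    exact absurd (hdom' i (Set.mem_univ i) hi) (by omega)
  refine ⟨m, hm, b' * n' * v, mul_mem (mul_mem (borel_le_parabolic _ hb') ?_)
    (borel_le_parabolic _ (pos_le_borel hvU)), e, fun k hk => conj_top h L hb' hτ' hvU hτθ hk⟩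
  refine mem_parabolic_stab h (J := Set.univ) (top_lt L) (fun _ => 0) (fun _ _ => rfl)
    (fun l hl' => by simpa using L.pr_simple l hl') (fun l hl' e0 => ?_) hn' hτ' hτθ
    (fun _ _ l _ hl' => absurd (Set.mem_univ l) hl')
  rw [add_zero] at e0
  exact List.mem_filter.2 ⟨List.mem_range.2 hl', by simp [e0]⟩

theorem rat_of_line (C : Ctx hP σ H sh) (T : TopFix hP σ H) {y : GL D.Idx F} (hy : y ∈ H)
    (hl : RatLine σ (vec y (top D))) : Matrix.GeneralLinearGroup.map σ y = y := by
  obtain ⟨m, hm, z, hz, rfl, -⟩ := climb_top hP.std C.L σ (C.S.le hy) hl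
  have hzH : z ∈ H := by
    have := mul_mem (inv_mem (C.S.rat_le hm)) hy
    rwa [inv_mul_cancel_left] at this
  rw [map_mul, mem_fixG.1 (ratG_le_fixG hP.std.good σ hm), T z hzH hz]

theorem rat_of_commute (C : Ctx hP σ H sh) (T : TopFix hP σ H) {y : GL D.Idx F} (hy : y ∈ H) {k : F}
    (hk : k ≠ 0) (hc : Commute y (xG hP.std.good (top D) k)) :
    Matrix.GeneralLinearGroup.map σ y = y := by
  refine rat_of_line C T hy ?_
  obtain ⟨l, -, el⟩ := vec_of_conj hP.std C.L (C.S.le hy) hk (k' := k) (by rw [hc.eq, mul_inv_cancel_right])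
  refine ⟨σ l / l, fun x => ?_⟩
  rw [el]
  simp only [Pi.smul_apply, smul_eq_mul, map_mul, ev]
  by_cases hl : l = 0
  · subst hl; simp
  · split <;> field_simp <;> simp

/-- the coordinate criterion -/
theorem rat_of_coord (C : Ctx hP σ H sh) (T : TopFix hP σ H) {y : GL D.Idx F} (hy : y ∈ H)
    (h0 : vec y (top D) (Sum.inr ⟨A.neg (top D), hP.std.good.neg_lt _ (top_lt C.L)⟩) = 0) :
    Matrix.GeneralLinearGroup.map σ y = y := by
  have h := hP.std
  have g := h.good
  have L := C.L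
  have hθ := top_lt L
  obtain ⟨b, hb, n, hn, τ, hτ, v, hv, rfl⟩ := normal_form_exists h (C.S.le hy)
  obtain ⟨u, hu, c, rfl⟩ := (mem_borel_iff g).1 hb
  have hvU : v ∈ D.posUnipotent F := UP_toNeg_le g τ hv
  set q := τ (top D) with hqdef
  have hq : q < D.nroots := hτ.map.1 _ hθ
  have hqs : q ∉ sh := fun e => L.top_long ((long_acts h L hn hτ hθ).1 e)
  obtain ⟨k, hk, ek⟩ := vec_acts hτ hθ
  have hvec : vec (u * tor D A c * n * v) (top D) = (k * (chi D A c q : F)) • vec u q := by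
    rw [vec_mul, vec_top g L hvU,
      show ((u * tor D A c * n : GL D.Idx F) : Matrix D.Idx D.Idx F) *ᵥ ev D F (D.rank + top D) =
        vec (u * tor D A c * n) (top D) from rfl, vec_mul, ek, Matrix.mulVec_smul,
      show ((u * tor D A c : GL D.Idx F) : Matrix D.Idx D.Idx F) *ᵥ ev D F (D.rank + q) =
        vec (u * tor D A c) q from rfl, vec_mul, vec_tor, Matrix.mulVec_smul, smul_smul]
    rfl
  have hqn : q ≠ A.neg (top D) := by
    intro e
    rw [hvec, Pi.smul_apply, smul_eq_mul] at h0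
    have h1 := (mul_eq_zero.1 h0).resolve_left (mul_ne_zero hk (Units.ne_zero _))
    have hT : T1 A (fun _ => (1 : ℝ)) u := by
      rw [posUnipotent_eq g] at hu
      refine T1_of_mem_UP g (P := fun s => D.IsPosRoot s) (fun s hs => ⟨hs.1, ?_⟩) hu
      obtain ⟨j, hj⟩ : ∃ j : Fin D.rank, A.a s j ≠ 0 := by
        by_contra hcon
        push Not at hcon
        refine g.neg_ne s hs.1 (g.a_inj _ (g.neg_lt s hs.1) s hs.1 fun l hl => ?_)
        rw [g.a_neg s hs.1, hcon ⟨l, hl⟩, neg_zero]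
      have h2 : (1 : ℝ) ≤ A.a s j := by
        have := (g.pos_iff s hs.1).1 hs j.val
        exact_mod_cast (show (1 : ℤ) ≤ A.a s j by omega)
      simp only [evR, mul_one]
      exact h2.trans (Finset.single_le_sum (f := fun j : Fin D.rank => (A.a s j : ℝ))
        (fun l _ => by exact_mod_cast (g.pos_iff s hs.1).1 hs l.val) (Finset.mem_univ j))
    set row : D.Idx := Sum.inr ⟨A.neg (top D), g.neg_lt _ hθ⟩
    have hd : ((u : Matrix D.Idx D.Idx F) - 1) row row = 0 := by
      by_contra hne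
      have := hT row row hne
      linarith
    rw [vec, e, show D.rank + A.neg (top D) = idx D row from rfl, mulVec_ev] at h1
    rw [Matrix.sub_apply, Matrix.one_apply_eq] at hd
    simp only at h1
    rw [h1] at hd
    simp at hd
  obtain ⟨k2, hk2, hconj⟩ := hτ.conj (top D) hθ
  set y := u * tor D A c * n * v with hy_def
  set z := xG g (top D) (1 : F)
  set k' : F := (chi D A c q : F) * (k2 * 1)
  have hk' : k' ≠ 0 := mul_ne_zero (Units.ne_zero _) (mul_ne_zero hk2 one_ne_zero)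
  have hz' : y * z * y⁻¹ = u * xG g q k' * u⁻¹ := by
    calc y * z * y⁻¹ = u * tor D A c * n * (v * z * v⁻¹) * (u * tor D A c * n)⁻¹ := by rw [hy_def]; group
      _ = u * (tor D A c * (n * z * n⁻¹) * (tor D A c)⁻¹) * u⁻¹ := by
        rw [(top_central h L hvU 1).eq, mul_inv_cancel_right]
        simp only [z]
        group
      _ = _ := by rw [hconj, ← hqdef, tor_conj_xG g c hq]
  have hz'H : y * z * y⁻¹ ∈ H := mul_mem (mul_mem hy (C.S.gen _ 1 (map_one σ))) (inv_mem hy)
  have huz : ∀ t, Commute u (xG g (top D) t) := top_central h L hu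
  suffices hfix : Matrix.GeneralLinearGroup.map σ (y * z * y⁻¹) = y * z * y⁻¹ from
    rat_of_line C T hy (line_of_top h L σ (C.S.le hy) one_ne_zero hfix)
  rcases L.top_comm q hq hqs hqn with hnil | ⟨q1, hq1, hq1s, hnil1, hq1n, hqq1, hqq1n, hsingle⟩
  · refine rat_of_commute C T hz'H (k := 1) one_ne_zero ?_
    rw [hz']
    exact ((huz 1).mul_left (commute_xG h hθ hq hqn hnil 1 k').symm).mul_left (huz 1).inv_left
  rw [List.mem_range] at hq1
  obtain ⟨k'', hk'', hswap⟩ : ∃ k'' : F, k'' ≠ 0 ∧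
      xG g q k' * z = z * xG g q k' * xG g q1 k'' := by
    have hqθ : q ≠ top D := by
      intro e
      rw [e] at hsingle
      rcases hsingle with h1 | h1 <;>
      · have hm : (q1, (1 : ℤ), 1, 1) ∈ A.terms (top D) (top D) ∨ (q1, (-1 : ℤ), 1, 1) ∈ A.terms (top D) (top D) := by
          simp [h1]
        have hh : ∀ j < D.rank, A.a q1 j = ((1 : ℕ) : ℤ) * A.a (top D) j + ((1 : ℕ) : ℤ) * A.a (top D) j := by
          rcases hm with hm | hm <;> exact (terms_mem g hθ hθ hm).2.2.2
        have hcode := code_lin (D := D) (A := A) (r := top D) (s := top D) (u := q1) _ _ hh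
        have := (pos_iff_code h hθ).1 (top_isPos g L)
        have h5 : q1 ≤ top D := by unfold top; omega
        have h6 : code D A q1 ≤ code D A (top D) := by
          rcases h5.lt_or_eq with h' | h'
          · exact (code_mono h h' hθ).le
          · rw [h']
        push_cast at hcode
        omega
    rcases hsingle with h1 | h1
    · exact ⟨-k', neg_ne_zero.2 hk', by rw [comm_eq h hθ hq hqθ hqn (1 : F) k']; simp [tword, h1, z]⟩
    · exact ⟨k', hk', by rw [comm_eq h hθ hq hqθ hqn (1 : F) k']; simp [tword, h1, z]⟩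
  set c0 := u * xG g q1 k'' * u⁻¹ with hc0
  have hc0H : c0 ∈ H := by
    have e : c0 = (z * (y * z * y⁻¹))⁻¹ * ((y * z * y⁻¹) * z) := by
      rw [hz', hc0]
      have hu1 : u⁻¹ * z = z * u⁻¹ := (huz 1).inv_left.eq
      have hu2 : z * u = u * z := (huz 1).eq.symm
      calc u * xG g q1 k'' * u⁻¹
          = u * ((z * xG g q k')⁻¹ * (z * xG g q k' * xG g q1 k'')) * u⁻¹ := by group
        _ = u * ((z * xG g q k')⁻¹ * (xG g q k' * z)) * u⁻¹ := by rw [hswap]
        _ = u * (xG g q k')⁻¹ * z⁻¹ * (xG g q k' * (z * u⁻¹)) := by group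
        _ = u * (xG g q k')⁻¹ * (z⁻¹ * u⁻¹) * (u * xG g q k' * u⁻¹) * z := by rw [← hu1]; group
        _ = u * (xG g q k')⁻¹ * (u⁻¹ * z⁻¹) * (u * xG g q k' * u⁻¹) * z := by
          rw [← _root_.mul_inv_rev, ← _root_.mul_inv_rev, hu2]
        _ = _ := by group
    rw [e]
    exact mul_mem (inv_mem (mul_mem (C.S.gen _ 1 (map_one σ)) hz'H)) (mul_mem hz'H (C.S.gen _ 1 (map_one σ)))
  have hc0fix : Matrix.GeneralLinearGroup.map σ c0 = c0 := by
    refine rat_of_commute C T hc0H (k := 1) one_ne_zero ?_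
    exact ((huz 1).mul_left (commute_xG h hθ hq1 hq1n hnil1 1 k'').symm).mul_left (huz 1).inv_left
  obtain ⟨w, hw, hwe⟩ := exists_word_top h L hq1 hq1s
  have hact := nW_acts (F := F) g hw
  obtain ⟨k1, hk1, hconj1⟩ := hact.conj (top D) hθ
  set y1 := u * nW F g w
  have hy1G : y1 ∈ D.group F :=
    mul_mem (posUnipotent_le_group g hu) (monomialSubgroup_le_group g (nW_mem g hw))
  have ec0 : c0 = y1 * xG g (top D) (k1⁻¹ * k'') * y1⁻¹ := by
    rw [hc0, show y1 = u * nW F g w from rfl,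
      show u * nW F g w * xG g (top D) (k1⁻¹ * k'') * (u * nW F g w)⁻¹ =
        u * (nW F g w * xG g (top D) (k1⁻¹ * k'') * (nW F g w)⁻¹) * u⁻¹ by group,
      hconj1, hwe, mul_inv_cancel_left₀ hk1]
  have hl1 := line_of_top h L σ hy1G (mul_ne_zero (inv_ne_zero hk1) hk'') (by rw [← ec0]; exact hc0fix)
  obtain ⟨m, hm, z1, hz1, e1, hz1conj⟩ := climb_top h L σ hy1G hl1
  obtain ⟨ks, hks, hksc⟩ := hz1conj _ (mul_ne_zero (inv_ne_zero hk1) hk'')
  have ec : c0 = m * xG g (top D) ks * m⁻¹ := by rw [ec0, e1, ← hksc]; group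
  have hcomm : Commute (y * z * y⁻¹) c0 := by
    -- both commute with the commutator
    rw [hz', hc0]
    have hqq : Commute (xG g q k') (xG g q1 k'') := commute_xG h hq hq1 hqq1n hqq1 k' k''
    show _ * _ = _ * _
    calc u * xG g q k' * u⁻¹ * (u * xG g q1 k'' * u⁻¹) = u * (xG g q k' * xG g q1 k'') * u⁻¹ := by group
      _ = _ := by rw [hqq.eq]; group
  have hmfix : Matrix.GeneralLinearGroup.map σ m = m := ratG_le_fixG g σ hm
  have hzz : m⁻¹ * (y * z * y⁻¹) * m ∈ H :=
    mul_mem (mul_mem (inv_mem (C.S.rat_le hm)) hz'H) (C.S.rat_le hm)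
  have hfix2 := rat_of_commute C T hzz hks (by
    show _ * _ = _ * _
    have e2 := hcomm.eq
    rw [ec] at e2
    calc m⁻¹ * (y * z * y⁻¹) * m * xG g (top D) ks
        = m⁻¹ * ((y * z * y⁻¹) * (m * xG g (top D) ks * m⁻¹)) * m := by group
      _ = _ := by rw [e2]; group)
  rw [map_mul, map_mul, map_inv, hmfix] at hfix2
  calc Matrix.GeneralLinearGroup.map σ (y * z * y⁻¹)
      = m * (m⁻¹ * Matrix.GeneralLinearGroup.map σ (y * z * y⁻¹) * m) * m⁻¹ := by group
    _ = _ := by rw [hfix2]; group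

/-- every proper standard parabolic subgroup meets the subgroup rationally -/
theorem rat_of_parabolic (C : Ctx hP σ H sh) (T : TopFix hP σ H) {J : Set ℕ} {k : ℕ} (hk : k < D.rank)
    (hkJ : k ∉ J) {y : GL D.Idx F} (hy : y ∈ H) (hyP : y ∈ D.parabolicSubgroup F J) :
    Matrix.GeneralLinearGroup.map σ y = y := by
  have h := hP.std
  have g := h.good
  have L := C.L
  have hθ := top_lt L
  obtain ⟨b, hb, n, hn, τ, hτ, hpres, v, hv, rfl⟩ := exists_pform h J hyP
  refine rat_of_coord C T hy ?_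
  obtain ⟨k2, hk2, e2⟩ := vec_acts hτ hθ
  set f : Fin D.rank → ℝ := fun j => if j.val = k then 1 else 0 with hf
  have hev : ∀ s, evR D A s f = (A.a s k : ℝ) := fun s => by
    rw [evR, Finset.sum_eq_single ⟨k, hk⟩]
    · simp [hf]
    · intro j _ hj; simp [hf, show j.val ≠ k from fun e => hj (Fin.ext e)]
    · simp
  rw [vec_mul, vec_top g L (UP_toNeg_le g τ hv),
    show ((b * n : GL D.Idx F) : Matrix D.Idx D.Idx F) *ᵥ ev D F (D.rank + top D) = vec (b * n) (top D) from rfl,
    vec_mul, e2, Matrix.mulVec_smul, Pi.smul_apply,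
    show D.rank + τ (top D) = idx D (Sum.inr ⟨τ (top D), hτ.map.1 _ hθ⟩ : D.Idx) from rfl, mulVec_ev]
  by_contra hne
  have hlo := borel_lo g (y := f) (fun j => by simp only [hf]; split <;> norm_num) hb
    (Sum.inr ⟨A.neg (top D), g.neg_lt _ hθ⟩) (Sum.inr ⟨τ (top D), hτ.map.1 _ hθ⟩)
    (fun e => hne (by simp [e]))
  simp only [wR, hev, add_zero] at hlo
  have h1 := C.full k hk
  have h2 := hpres (top D) hθ k hk hkJ
  rw [h2, g.a_neg _ hθ] at hlo
  have : A.a (top D) k ≤ -A.a (top D) k := by exact_mod_cast hlo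
  omega

end CfsgLib.Chev.Subfield
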