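import Cfsg.Agent.Lib.Chev.Subfield.Finite
import Mathlib.RingTheory.Jacobson.Ring
import Mathlib.RingTheory.RootsOfUnity.EnoughRootsOfUnity
import Mathlib.FieldTheory.IsSepClosed
import Mathlib.RingTheory.ZMod.UnitsCyclic

/-!
Finite subgroups containing the rational root elements; maximality of subfield subgroups.
-/

set_option autoImplicit false
set_option linter.style.haveILetI false
set_option maxRecDepth 100000

namespace CfsgLib.Chev.Subfield

open Cfsg.Lie CfsgLib.KnownB.ChevField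

/-- a finite subfield consists of the roots of `X ^ n - X` -/
theorem mem_of_pow_card {K : Type*} [Field K] (E : Subfield K) [Fintype E] {x : K}
    (hx : x ^ Fintype.card E = x) : x ∈ E := by
  classical
  set n := Fintype.card E
  have hn : 1 < n := Fintype.one_lt_card
  set P : Polynomial K := Polynomial.X ^ n - Polynomial.X
  have hP : P ≠ 0 := FiniteField.X_pow_card_sub_X_ne_zero K hn
  have hsub : (Finset.univ : Finset E).image Subtype.val ⊆ P.roots.toFinset := by
    intro y hy
    obtain ⟨e, -, rfl⟩ := Finset.mem_image.1 hy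
    have := congrArg Subtype.val (FiniteField.pow_card e)
    rw [Multiset.mem_toFinset, Polynomial.mem_roots hP]
    simp only [P, Polynomial.IsRoot, Polynomial.eval_sub, Polynomial.eval_pow, Polynomial.eval_X]
    exact sub_eq_zero.2 (by exact_mod_cast this)
  have hcard : P.roots.toFinset.card ≤ ((Finset.univ : Finset E).image Subtype.val).card := by
    rw [Finset.card_image_of_injective _ Subtype.val_injective, Finset.card_univ]
    exact le_trans (Multiset.toFinset_card_le _) (le_trans (Polynomial.card_roots' _)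
      (FiniteField.X_pow_card_sub_X_natDegree_eq K hn).le)
  have hxr : x ∈ P.roots.toFinset := by
    rw [Multiset.mem_toFinset, Polynomial.mem_roots hP]
    simp [P, hx]
  rw [← Finset.eq_of_subset_of_card_le hsub hcard] at hxr
  obtain ⟨e, -, rfl⟩ := Finset.mem_image.1 hxr
  exact e.2

/-- a finite subfield containing a primitive root of order `p ^ a - 1` -/
theorem card_subfield {K : Type*} [Field K] {p : ℕ} [Fact p.Prime] [CharP K p] (E : Subfield K)
    [Fintype E] {a : ℕ} (ha : 1 ≤ a) {u : K} (hu : IsPrimitiveRoot u (p ^ a - 1)) (huE : u ∈ E) :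
    ∃ s : ℕ, 1 ≤ s ∧ Fintype.card E = (p ^ a) ^ s := by
  have hp := (Fact.out : p.Prime)
  haveI : CharP E p := (RingHom.charP_iff E.subtype Subtype.val_injective p).2 inferInstance
  obtain ⟨j, -, hj⟩ := FiniteField.card E p
  have hpos : 0 < p ^ a - 1 := Nat.sub_pos_of_lt (Nat.one_lt_pow (by omega) hp.one_lt)
  have hu0 : u ≠ 0 := hu.ne_zero hpos.ne'
  have h1 : u ^ (Fintype.card E - 1) = 1 := by
    have h2 := FiniteField.pow_card_sub_one_eq_one (⟨u, huE⟩ : E)
      (fun e => hu0 (congrArg Subtype.val e))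
    simpa using congrArg Subtype.val h2
  have h2 := hu.dvd_of_pow_eq_one _ h1
  rw [hj] at h2
  have h3 : p ^ Nat.gcd a j - 1 = p ^ a - 1 := by
    rw [← Nat.pow_sub_one_gcd_pow_sub_one, Nat.gcd_eq_left h2]
  have h4 : Nat.gcd a j = a := by
    refine Nat.pow_right_injective hp.two_le ?_
    have := Nat.one_le_pow (Nat.gcd a j) p hp.pos
    have := Nat.one_le_pow a p hp.pos
    show p ^ Nat.gcd a j = p ^ a
    omega
  obtain ⟨s, hs⟩ := Nat.gcd_eq_left_iff_dvd.1 h4
  refine ⟨s, ?_, by rw [hj, hs, pow_mul]⟩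
  rcases Nat.eq_zero_or_pos s with rfl | h
  · exact absurd hs (by simp)
  · exact h

/-- **maximality** -/
theorem maximal {K : Type*} [Field K] [Fintype K] (p : ℕ) [Fact p.Prime] [CharP K p]
    (D : ChevalleyDatum) (hD : D ∈ [chevG2, chevB2, chevD4, chevF4, chevE6, chevE7, chevE8])
    (a r : ℕ) (ha : 1 ≤ a) (hr : r.Prime) (hK : Fintype.card K = (p ^ a) ^ r)
    (M : Subgroup (GL D.Idx K))
    (hM : ∀ g : GL D.Idx K, g ∈ M ↔ g ∈ D.group K ∧
      ∀ i j : D.Idx, ((g : Matrix D.Idx D.Idx K) i j) ^ (p ^ a) = (g : Matrix D.Idx D.Idx K) i j) :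
    M ≠ D.group K ∧ ∀ H : Subgroup (GL D.Idx K), M ≤ H → H ≤ D.group K → H = M ∨ H = D.group K := by
  classical
  have hp := (Fact.out : p.Prime)
  obtain ⟨A, hP⟩ := para_of_mem hD
  have h := hP.std
  have g := h.good
  have hnr : 0 < D.nroots := by
    revert hD; simp only [List.mem_cons, List.not_mem_nil, or_false]
    rintro (rfl | rfl | rfl | rfl | rfl | rfl | rfl) <;> decide
  set σ : K →+* K := iterateFrobenius K p a with hσ
  have hσt : ∀ t : K, σ t = t ^ p ^ a := fun t => iterateFrobenius_def p a t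
  have hfix : ∀ y : GL D.Idx K, Matrix.GeneralLinearGroup.map σ y = y ↔
      ∀ i j, ((y : Matrix D.Idx D.Idx K) i j) ^ (p ^ a) = (y : Matrix D.Idx D.Idx K) i j := by
    intro y
    constructor
    · intro e i j
      rw [← hσt]
      exact congrFun (congrFun (congrArg (fun z : GL D.Idx K => (z : Matrix D.Idx D.Idx K)) e) i) j
    · intro e
      apply Units.ext
      ext i j
      show σ ((y : Matrix D.Idx D.Idx K) i j) = _
      rw [hσt, e]
  have hxM : ∀ s t, σ t = t → xG g s t ∈ M := fun s t ht =>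
    (hM _).2 ⟨xG_mem_group g s t, (hfix _).1 (by rw [map_xG, ht])⟩
  obtain ⟨ζ, hζ⟩ := IsCyclic.exists_generator (α := Kˣ)
  have hord : orderOf ζ = (p ^ a) ^ r - 1 := by
    rw [orderOf_eq_card_of_forall_mem_zpowers hζ, Nat.card_eq_fintype_card, Fintype.card_units, hK]
  have hq1 : 1 < p ^ a := Nat.one_lt_pow (by omega) hp.one_lt
  obtain ⟨c, hc⟩ : p ^ a - 1 ∣ (p ^ a) ^ r - 1 := Nat.sub_one_dvd_pow_sub_one _ _
  have hζp : IsPrimitiveRoot (ζ : K) ((p ^ a) ^ r - 1) :=
    IsPrimitiveRoot.coe_units_iff.2 (hord ▸ IsPrimitiveRoot.orderOf ζ)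
  have hbig : p ^ a - 1 < (p ^ a) ^ r - 1 := by
    have : p ^ a < (p ^ a) ^ r := lt_self_pow₀ hq1 hr.one_lt
    omega
  have hu : IsPrimitiveRoot ((ζ : K) ^ c) (p ^ a - 1) :=
    hζp.pow (by omega) (by rw [hc, mul_comm])
  have hufix : σ ((ζ : K) ^ c) = (ζ : K) ^ c := by
    rw [hσt, show p ^ a = (p ^ a - 1) + 1 by omega, pow_succ, hu.pow_eq_one, one_mul]
  have hproper : ∃ t : K, σ t ≠ t := by
    refine ⟨ζ, fun e => ?_⟩
    rw [hσt] at e
    have h1 : (ζ : K) ^ (p ^ a - 1) = 1 := by
      refine mul_right_cancel₀ ζ.ne_zero ?_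
      rw [← pow_succ, show p ^ a - 1 + 1 = p ^ a by omega, e, one_mul]
    exact hζp.pow_ne_one_of_pos_of_lt (by omega) hbig h1
  refine ⟨fun e => ?_, fun H hMH hHG => ?_⟩
  · obtain ⟨t, ht⟩ := hproper
    refine ht (map_xG_fix h hnr σ ((hfix _).2 ((hM _).1 ?_).2))
    rw [e]; exact xG_mem_group g 0 t
  haveI : Finite (GL D.Idx K) := finite_GL
  obtain ⟨E, hE⟩ := exists_field (p := p) hD H fun s _ y hy => by
    rw [(eq_xG_iff g).1 hy]; exact hMH (hxM s 1 (map_one σ))
  have hF : ∀ t, σ t = t → t ∈ E := fun t ht =>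
    (hE 0 hnr t _ (xG_val g 0 t)).1 (hMH (hxM 0 t ht))
  haveI : Fintype E := Fintype.ofFinite E
  obtain ⟨s, hs, hcard⟩ := card_subfield (p := p) E ha hu (hF _ hufix)
  obtain ⟨d, hd⟩ : ∃ d, Fintype.card K = Fintype.card E ^ d :=
    ⟨_, Module.card_eq_pow_finrank (K := E) (V := K)⟩
  rw [hK, hcard, ← pow_mul, ← pow_mul, ← pow_mul] at hd
  have hrd : r = s * d := by
    have := Nat.pow_right_injective hp.two_le hd
    have h' : a * r = a * (s * d) := by simpa [mul_assoc] using this
    exact Nat.eq_of_mul_eq_mul_left (by omega) h'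
  rcases hr.eq_one_or_self_of_dvd s ⟨d, hrd⟩ with rfl | rfl
  · left
    refine le_antisymm (fun y hy => (hM y).2 ⟨hHG hy, (hfix y).1 ?_⟩) hMH
    refine fix_all (p := p) hD σ H hHG (fun s hs' t ht y hy => ?_) (fun s hs' t y hy hyH => ?_) y hy
    · rw [(eq_xG_iff g).1 hy]; exact hMH (hxM s t ht)
    · rw [hσt]
      have h1 := congrArg Subtype.val (FiniteField.pow_card (⟨t, (hE s hs' t y hy).1 hyH⟩ : E))
      rw [hcard, pow_one] at h1
      simpa using h1
  · right
    refine le_antisymm hHG ?_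
    rw [group_eq g]
    refine (Subgroup.closure_le _).2 ?_
    rintro _ ⟨s, t, hs', rfl⟩
    refine (hE s hs' t _ (xG_val g s t)).2 (mem_of_pow_card E ?_)
    rw [hcard, ← hK, FiniteField.pow_card]

/-! ### Specialisation to finite fields -/

/-- the matrix of a root element over a commutative ring -/
def xR (D : ChevalleyDatum) (R : Type*) [CommRing R] (r : Fin D.nroots) (t : R) :
    Matrix D.Idx D.Idx R :=
  Matrix.of fun row col =>
    match col with
    | Sum.inl i =>
      (match row with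
       | Sum.inl i' => if i' = i then 1 else 0
       | Sum.inr u => if u = r then - (((D.cartanSR.getD i.val #[]).getD r.val 0 : ℤ) : R) * t else 0)
    | Sum.inr s =>
      if s = r then (match row with | Sum.inr u => if u = r then 1 else 0 | Sum.inl _ => 0)
      else if s.val = D.negIdx.getD r.val 0 then
        (match row with
         | Sum.inl i => (((D.coroot.getD r.val #[]).getD i.val 0 : ℤ) : R) * t
         | Sum.inr u => if u = s then 1 else if u = r then -(t ^ 2) else 0)
      else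
        (match row with
         | Sum.inl _ => 0
         | Sum.inr u => (if u = s then 1 else 0) +
             ((D.chainCoeff r.val s.val u.val).map fun km => ((km.2 : ℤ) : R) * t ^ km.1).sum)

theorem xR_map {D : ChevalleyDatum} {R L : Type*} [CommRing R] [Field L] (f : R →+* L)
    (r : Fin D.nroots) (t : R) : (xR D R r t).map f = D.xMat L r (f t) := by
  ext row col
  rcases col with i | s <;> rcases row with i' | u <;>
    simp only [xR, ChevalleyDatum.xMat, Matrix.map_apply, Matrix.of_apply] <;> split_ifs <;>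
    simp [map_list_sum, Function.comp_def, *]

/-- some entry of every root element is the parameter up to sign -/
noncomputable def readCheck (D : ChevalleyDatum) : Bool :=
  decide (∀ r < D.nroots, (∃ i < D.rank, (D.cartanSR.getD i #[]).getD r 0 = 1 ∨
      (D.cartanSR.getD i #[]).getD r 0 = -1) ∨
    ((D.negIdx.getD r 0 < D.nroots ∧ D.negIdx.getD r 0 ≠ r) ∧ ∃ i < D.rank,
      (D.coroot.getD r #[]).getD i 0 = 1 ∨ (D.coroot.getD r #[]).getD i 0 = -1))

theorem exists_read {D : ChevalleyDatum} (e : readCheck D = true) (r : Fin D.nroots) :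
    ∃ (u v : D.Idx) (c : ℤ), ∀ (K : Type*) [Field K] (t : K), t = (c : K) * D.xMat K r t u v := by
  simp only [readCheck, decide_eq_true_eq] at e
  rcases e r r.isLt with ⟨i, hi, hc⟩ | ⟨⟨hn, hne⟩, i, hi, hc⟩
  · refine ⟨Sum.inr r, Sum.inl ⟨i, hi⟩, -(D.cartanSR.getD i #[]).getD r 0, fun K _ t => ?_⟩
    rcases hc with hc | hc <;> simp only [Array.getD_eq_getD_getElem?] at hc <;> simp [ChevalleyDatum.xMat, hc]
  · refine ⟨Sum.inl ⟨i, hi⟩, Sum.inr ⟨_, hn⟩, (D.coroot.getD r #[]).getD i 0, fun K _ t => ?_⟩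
    have hne' : (⟨_, hn⟩ : Fin D.nroots) ≠ r := fun e' => hne (congrArg Fin.val e')
    rcases hc with hc | hc <;> simp only [Array.getD_eq_getD_getElem?] at hc hne' <;> simp [ChevalleyDatum.xMat, hne', hc]

theorem read_of_mem {D : ChevalleyDatum}
    (hD : D ∈ [chevG2, chevB2, chevD4, chevF4, chevE6, chevE7, chevE8]) : readCheck D = true := by
  simp only [List.mem_cons, List.not_mem_nil, or_false] at hD
  rcases hD with rfl | rfl | rfl | rfl | rfl | rfl | rfl <;> decide +kernel

/-- the elementary group over a commutative ring -/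
def gR (D : ChevalleyDatum) (R : Type*) [CommRing R] : Subgroup (GL D.Idx R) :=
  Subgroup.closure {y | ∃ (r : Fin D.nroots) (t : R), (y : Matrix D.Idx D.Idx R) = xR D R r t}

/-- elements of the group come from rings containing finitely many parameters -/
theorem exists_params {D : ChevalleyDatum} {A : Aux} (g : Good D A) {k : Type*} [Field k]
    {y : GL D.Idx k} (hy : y ∈ D.group k) :
    ∃ S : Finset k, ∀ R : Subring k, (∀ x ∈ S, x ∈ R) →
      ∃ z ∈ gR D R, Matrix.GeneralLinearGroup.map R.subtype z = y := by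
  classical
  induction hy using Subgroup.closure_induction with
  | one => exact ⟨∅, fun R _ => ⟨1, one_mem _, map_one _⟩⟩
  | mul a b _ _ ha hb =>
    obtain ⟨S, hS⟩ := ha
    obtain ⟨S', hS'⟩ := hb
    refine ⟨S ∪ S', fun R hR => ?_⟩
    obtain ⟨z, hz, rfl⟩ := hS R fun x hx => hR x (Finset.mem_union_left _ hx)
    obtain ⟨z', hz', rfl⟩ := hS' R fun x hx => hR x (Finset.mem_union_right _ hx)
    exact ⟨z * z', mul_mem hz hz', map_mul _ _ _⟩
  | inv a _ ha =>
    obtain ⟨S, hS⟩ := ha
    refine ⟨S, fun R hR => ?_⟩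
    obtain ⟨z, hz, rfl⟩ := hS R hR
    exact ⟨z⁻¹, inv_mem hz, map_inv _ _⟩
  | mem a ha =>
    obtain ⟨r, t, e⟩ := ha
    refine ⟨{t}, fun R hR => ?_⟩
    set t' : R := ⟨t, hR t (Finset.mem_singleton_self t)⟩
    have key : ∀ u : R, xR D R r u * xR D R r (-u) = 1 := by
      intro u
      refine Matrix.map_injective (f := R.subtype) Subtype.val_injective ?_
      show (xR D R r u * xR D R r (-u)).map R.subtype = (1 : Matrix D.Idx D.Idx R).map R.subtype
      rw [Matrix.map_mul, xR_map, xR_map, map_neg, Matrix.map_one _ (map_zero _) (map_one _)]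
      have h1 : xG g r (R.subtype u) * xG g r (-R.subtype u) = 1 := by
        rw [xG_add, add_neg_cancel, xG_zero]
      have h2 := congrArg Units.val h1
      rw [Units.val_mul, xG_val, xG_val] at h2
      simpa [ChevalleyDatum.x, r.isLt] using h2
    let z : GL D.Idx R := ⟨xR D R r t', xR D R r (-t'), key t', by simpa using key (-t')⟩
    refine ⟨z, Subgroup.subset_closure ⟨r, t', rfl⟩, ?_⟩
    apply Units.ext
    show (xR D R r t').map R.subtype = _
    rw [xR_map, e]
    rfl

/-- **finite overgroups** -/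
theorem overgroups {k : Type*} [Field k] [IsAlgClosed k] (p : ℕ) [Fact p.Prime] [CharP k p]
    (D : ChevalleyDatum) (hD : D ∈ [chevG2, chevB2, chevD4, chevF4, chevE6, chevE7, chevE8])
    (a : ℕ) (ha : 1 ≤ a) (M : Subgroup (GL D.Idx k)) (hMfin : Finite ↥M) (hMG : M ≤ D.group k)
    (hLM : Subgroup.closure {g : GL D.Idx k | ∃ (s : ℕ) (t : k), t ^ (p ^ a) = t ∧
      (g : Matrix D.Idx D.Idx k) = D.x k s t} ≤ M) :
    ∃ r : ℕ, 1 ≤ r ∧ Subgroup.closure {g : GL D.Idx k | ∃ (s : ℕ) (t : k), t ^ ((p ^ a) ^ r) = t ∧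
        (g : Matrix D.Idx D.Idx k) = D.x k s t} ≤ M ∧
      ∀ g ∈ M, ∀ i j : D.Idx,
        ((g : Matrix D.Idx D.Idx k) i j) ^ ((p ^ a) ^ r) = (g : Matrix D.Idx D.Idx k) i j := by
  classical
  have hp := (Fact.out : p.Prime)
  obtain ⟨A, hP⟩ := para_of_mem hD
  have h := hP.std
  have g := h.good
  have hnr : 0 < D.nroots := by
    revert hD; simp only [List.mem_cons, List.not_mem_nil, or_false]
    rintro (rfl | rfl | rfl | rfl | rfl | rfl | rfl) <;> decide
  haveI := hMfin
  have hxM : ∀ s t, t ^ (p ^ a) = t → xG g s t ∈ M := fun s t ht =>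
    hLM (Subgroup.subset_closure ⟨s, t, ht, xG_val g s t⟩)
  obtain ⟨E, hE⟩ := exists_field (p := p) hD M fun s _ y hy => by
    rw [(eq_xG_iff g).1 hy]; exact hxM s 1 (one_pow _)
  haveI : Finite E := by
    haveI := lam_finite h M hnr
    refine Finite.of_injective (fun e : E => (⟨(e : k), (hE 0 hnr (e : k) _ (xG_val g 0 (e : k))).2 e.2⟩ :
      lam g M 0)) fun a b e => Subtype.ext (congrArg (fun x : lam g M 0 => (x : k)) e)
  haveI : Fintype E := Fintype.ofFinite E
  have hq1 : 1 < p ^ a := Nat.one_lt_pow (by omega) hp.one_lt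
  haveI : NeZero ((p ^ a - 1 : ℕ) : k) := ⟨fun e => by
    obtain ⟨c, hc⟩ := (CharP.cast_eq_zero_iff k p _).1 e
    obtain ⟨c', hc'⟩ := dvd_pow_self p (show a ≠ 0 by omega)
    have : p ∣ 1 := ⟨c' - c, by rw [Nat.mul_sub, ← hc, ← hc']; omega⟩
    exact hp.one_lt.ne' (Nat.dvd_one.1 this)⟩
  haveI : NeZero (p ^ a - 1) := ⟨by omega⟩
  obtain ⟨u, hu⟩ := HasEnoughRootsOfUnity.exists_primitiveRoot k (p ^ a - 1)
  have huE : u ∈ E := by
    refine (hE 0 hnr u _ (xG_val g 0 u)).1 (hxM 0 u ?_)
    rw [show p ^ a = (p ^ a - 1) + 1 by omega, pow_succ, hu.pow_eq_one, one_mul]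
  obtain ⟨r, hr, hcard⟩ := card_subfield (p := p) E ha hu huE
  have hEn : ∀ e : E, (e : k) ^ ((p ^ a) ^ r) = e := fun e => by
    rw [← hcard]; simpa using congrArg Subtype.val (FiniteField.pow_card e)
  have hEmem : ∀ t : k, t ^ ((p ^ a) ^ r) = t → t ∈ E := fun t ht =>
    mem_of_pow_card E (by rw [hcard]; exact ht)
  refine ⟨r, hr, ?_, ?_⟩
  · refine (Subgroup.closure_le _).2 ?_
    rintro y ⟨s, t, ht, e⟩
    by_cases hs : s < D.nroots
    · exact (hE s hs t y e).2 (hEmem t ht)
    · rw [(eq_xG_iff g).1 e]; simp [xG, hs, one_mem]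
  intro m hm
  set n := (p ^ a) ^ r with hn
  -- the finite data to be preserved
  haveI : Fintype M := Fintype.ofFinite M
  choose Sm hSm using fun m : M => exists_params g (hMG m.2)
  choose ru rv rc hread using fun s : Fin D.nroots => exists_read (read_of_mem hD) s
  let δ : M → Fin D.nroots → Matrix D.Idx D.Idx k := fun m s =>
    ((m : GL D.Idx k) : Matrix D.Idx D.Idx k) -
      D.xMat k s ((rc s : k) * ((m : GL D.Idx k) : Matrix D.Idx D.Idx k) (ru s) (rv s))
  let ε : M → D.Idx → D.Idx → k := fun m i j =>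
    ((m : GL D.Idx k) : Matrix D.Idx D.Idx k) i j ^ n - ((m : GL D.Idx k) : Matrix D.Idx D.Idx k) i j
  let S : Finset k := Finset.univ.biUnion Sm ∪ (Finset.univ : Finset E).image Subtype.val ∪
    (Finset.univ : Finset (M × D.Idx × D.Idx)).image (fun x => (ε x.1 x.2.1 x.2.2)⁻¹) ∪
    (Finset.univ : Finset (M × Fin D.nroots × D.Idx × D.Idx)).image
      (fun x => (δ x.1 x.2.1 x.2.2.1 x.2.2.2)⁻¹)
  letI : Algebra (ZMod p) k := ZMod.algebra k p
  set R := Algebra.adjoin (ZMod p) (S : Set k) with hR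
  haveI : Algebra.FiniteType (ZMod p) R :=
    (Subalgebra.fg_iff_finiteType _).1 (Subalgebra.fg_adjoin_finset S)
  obtain ⟨L, _, _, _, φ, -⟩ : ∃ (L : Type _) (_ : Field L) (_ : Fintype L) (_ : CharP L p)
      (_ : R.toSubring →+* L), True := by
    obtain ⟨I, hI⟩ := Ideal.exists_maximal R
    haveI := hI
    letI : Field (R ⧸ I) := Ideal.Quotient.field I
    haveI : Algebra.FiniteType (ZMod p) (R ⧸ I) :=
      Algebra.FiniteType.of_surjective (Ideal.Quotient.mkₐ (ZMod p) I) (Ideal.Quotient.mkₐ_surjective _ I)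
    haveI : Module.Finite (ZMod p) (R ⧸ I) := finite_of_finite_type_of_isJacobsonRing (ZMod p) (R ⧸ I)
    haveI : Finite (R ⧸ I) := Module.finite_of_finite (ZMod p)
    exact ⟨R ⧸ I, Ideal.Quotient.field I, Fintype.ofFinite _,
      (RingHom.charP_iff (algebraMap (ZMod p) (R ⧸ I)) (RingHom.injective _) p).1 inferInstance,
      Ideal.Quotient.mk I, trivial⟩
  set ι := R.toSubring.subtype
  have hSR : ∀ x ∈ S, x ∈ R.toSubring := fun x hx => Algebra.subset_adjoin (Finset.mem_coe.2 hx)
  have hzero : ∀ x : R.toSubring, (ι x)⁻¹ ∈ S → φ x = 0 → ι x = 0 := by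
    intro x hxS hx0
    by_contra hne
    have e : x * ⟨_, hSR _ hxS⟩ = 1 := Subtype.ext (mul_inv_cancel₀ hne)
    have := congrArg φ e
    rw [map_mul, hx0, zero_mul, map_one] at this
    exact zero_ne_one this
  have hlift : ∀ m : M, ∃ z ∈ gR D R.toSubring, Matrix.GeneralLinearGroup.map ι z = (m : GL D.Idx k) :=
    fun m => hSm m R.toSubring fun x hx => hSR x (by
      simp only [S, Finset.mem_union, Finset.mem_biUnion]
      exact Or.inl (Or.inl (Or.inl ⟨m, Finset.mem_univ m, hx⟩)))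
  set MR : Subgroup (GL D.Idx R.toSubring) := gR D R.toSubring ⊓ M.comap (Matrix.GeneralLinearGroup.map ι)
  set H := MR.map (Matrix.GeneralLinearGroup.map φ)
  set σ : L →+* L := iterateFrobenius L p (a * r) with hσ
  have hσt : ∀ t, σ t = t ^ n := fun t => by rw [hσ, iterateFrobenius_def, hn, ← pow_mul]
  have hle : H ≤ D.group L := by
    refine Subgroup.map_le_iff_le_comap.2 (inf_le_left.trans ((Subgroup.closure_le _).2 ?_))
    rintro z ⟨s, t, e⟩
    refine Subgroup.subset_closure ⟨s, φ t, ?_⟩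
    show (z : Matrix D.Idx D.Idx R.toSubring).map φ = _
    rw [e, xR_map]
  -- the fixed field lifts
  have hES : ∀ e : E, (e : k) ∈ R.toSubring := fun e => hSR _ (by
    simp only [S, Finset.mem_union, Finset.mem_image]
    exact Or.inl (Or.inl (Or.inr ⟨e, Finset.mem_univ e, rfl⟩)))
  set ψ : E →+* L := φ.comp (RingHom.codRestrict E.subtype R.toSubring hES)
  have hψ : ∀ t, σ t = t → ∃ e, ψ e = t := by
    intro t ht
    haveI : Fintype ψ.fieldRange := Fintype.ofFinite _
    have hc : Fintype.card ψ.fieldRange = n := by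
      rw [← hcard]
      exact (Fintype.card_congr ψ.rangeRestrictFieldEquiv.toEquiv).symm
    exact mem_of_pow_card ψ.fieldRange (x := t) (by rw [hc, ← hσt, ht])
  have hgen : ∀ s < D.nroots, ∀ t, σ t = t → ∀ y : GL D.Idx L,
      (y : Matrix D.Idx D.Idx L) = D.x L s t → y ∈ H := by
    intro s hs t ht y hy
    obtain ⟨e, rfl⟩ := hψ t ht
    have hmem : xG g s (e : k) ∈ M := (hE s hs e _ (xG_val g s (e : k))).2 e.2
    obtain ⟨z, hz, ez⟩ := hlift ⟨_, hmem⟩
    refine ⟨z, ⟨hz, show Matrix.GeneralLinearGroup.map ι z ∈ M by rw [ez]; exact hmem⟩, ?_⟩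
    have hzm : (z : Matrix D.Idx D.Idx R.toSubring) = xR D R.toSubring ⟨s, hs⟩ ⟨e, hES e⟩ := by
      refine Matrix.map_injective (f := ι) Subtype.val_injective ?_
      show (z : Matrix D.Idx D.Idx R.toSubring).map ι = (xR D R.toSubring ⟨s, hs⟩ ⟨e, hES e⟩).map ι
      rw [xR_map, show (z : Matrix D.Idx D.Idx R.toSubring).map ι = _ from congrArg (fun w : GL D.Idx k => (w : Matrix D.Idx D.Idx k)) ez, xG_val,
        ChevalleyDatum.x, dif_pos hs]
      rfl
    apply Units.ext
    show (z : Matrix D.Idx D.Idx R.toSubring).map φ = _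
    rw [hy, hzm, xR_map, ChevalleyDatum.x, dif_pos hs]
    rfl
  have honly : ∀ s < D.nroots, ∀ t, ∀ y : GL D.Idx L,
      (y : Matrix D.Idx D.Idx L) = D.x L s t → y ∈ H → σ t = t := by
    rintro s hs t _ hy ⟨z, ⟨-, hzM⟩, rfl⟩
    set s' : Fin D.nroots := ⟨s, hs⟩
    set e' : R.toSubring := (rc s' : R.toSubring) * (z : Matrix D.Idx D.Idx R.toSubring) (ru s') (rv s')
    have hy' : ∀ i j, φ ((z : Matrix D.Idx D.Idx R.toSubring) i j) = D.xMat L s' t i j := by
      intro i j
      have := congrFun (congrFun hy i) j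
      rwa [ChevalleyDatum.x, dif_pos hs] at this
    have ht' : φ e' = t := by
      simp only [e', map_mul, map_intCast, hy']
      exact (hread s' L t).symm
    have heq : Matrix.GeneralLinearGroup.map ι z = xG g s (ι e') := by
      apply Units.ext
      rw [xG_val, ChevalleyDatum.x, dif_pos hs]
      ext i j
      refine sub_eq_zero.1 ?_
      have e1 : ((Matrix.GeneralLinearGroup.map ι z : GL D.Idx k) : Matrix D.Idx D.Idx k) i j -
          D.xMat k s' (ι e') i j =
          ι ((z : Matrix D.Idx D.Idx R.toSubring) i j - xR D R.toSubring s' e' i j) := by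
        rw [map_sub, ← xR_map ι s' e']; rfl
      rw [e1]
      refine hzero _ ?_ ?_
      · rw [← e1]
        simp only [S, Finset.mem_union, Finset.mem_image]
        refine Or.inr ⟨(⟨_, hzM⟩, s', i, j), Finset.mem_univ _, ?_⟩
        simp only [δ, Matrix.sub_apply, e', map_mul, map_intCast]
        rfl
      · rw [map_sub, hy', sub_eq_zero, ← ht', ← xR_map φ s' e']
        rfl
    have he : ι e' ∈ E := (hE s hs _ _ (xG_val g s (ι e'))).1 (heq ▸ hzM)
    have hen : e' ^ n = e' := Subtype.ext (hEn ⟨_, he⟩)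
    rw [hσt, ← ht', ← map_pow, hen]
  have hfixH := fix_all (p := p) hD σ H hle hgen honly
  intro i j
  obtain ⟨z, hz, ez⟩ := hlift ⟨m, hm⟩
  have hzH : Matrix.GeneralLinearGroup.map φ z ∈ H :=
    ⟨z, ⟨hz, show Matrix.GeneralLinearGroup.map ι z ∈ M by rw [ez]; exact hm⟩, rfl⟩
  have hf : σ (φ ((z : Matrix D.Idx D.Idx R.toSubring) i j)) = φ ((z : Matrix D.Idx D.Idx R.toSubring) i j) :=
    congrFun (congrFun (congrArg (fun w : GL D.Idx L => (w : Matrix D.Idx D.Idx L)) (hfixH _ hzH)) i) j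
  have em : ι ((z : Matrix D.Idx D.Idx R.toSubring) i j) = (m : Matrix D.Idx D.Idx k) i j :=
    congrFun (congrFun (congrArg (fun w : GL D.Idx k => (w : Matrix D.Idx D.Idx k)) ez) i) j
  set x := (z : Matrix D.Idx D.Idx R.toSubring) i j
  have h0 := hzero (x ^ n - x) (by
    rw [map_sub, map_pow, em]
    simp only [S, Finset.mem_union, Finset.mem_image]
    exact Or.inl (Or.inr ⟨(⟨m, hm⟩, i, j), Finset.mem_univ _, rfl⟩))
    (by rw [map_sub, map_pow, ← hσt, hf, sub_self])
  rw [map_sub, map_pow, em, sub_eq_zero] at h0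
  exact h0

end CfsgLib.Chev.Subfield
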