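import Cfsg.Agent.Lib.Chev.Subfield.Rat
import Cfsg.Agent.Lib.Steinberg.RankOne
import Cfsg.Agent.Lib.PSL2.DicksonGen

/-!
Over a finite field a finite subgroup without further root elements is rational.
-/

set_option autoImplicit false
set_option linter.style.haveILetI false
set_option maxRecDepth 100000

namespace CfsgLib.Chev.Subfield

open Cfsg.Lie Matrix CfsgLib.KnownB.ChevField CfsgLib.Chev.Grade
open scoped MatrixGroups

variable {D : ChevalleyDatum} {A : Aux} {F : Type*} [Field F]

/-- further facts about the highest root -/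
structure TopFacts (D : ChevalleyDatum) (A : Aux) : Prop where
  low : ∀ r < D.nroots, r ≠ A.neg (top D) → ∃ l < D.rank, -A.a (top D) l < A.a r l
  orth : ∃ j < D.rank, pr D A (top D) (D.simple j) = 0
  self : pr D A (top D) (top D) = 2
  low_terms : ∀ r < D.nroots, (∀ j < D.rank, 0 ≤ A.a r j) → pr D A (top D) r = 0 →
    A.terms (A.neg (top D)) r = []

variable (D A) in
/-- the boolean form of `TopFacts` -/
noncomputable def topFactsCheck : Bool :=
  decide (∀ r < D.nroots, r ≠ A.neg (top D) → ∃ l < D.rank, -A.a (top D) l < A.a r l) &&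
  decide (∃ j < D.rank, pr D A (top D) (D.simple j) = 0) &&
  decide (pr D A (top D) (top D) = 2) &&
  decide (∀ r < D.nroots, (∀ j < D.rank, 0 ≤ A.a r j) → pr D A (top D) r = 0 →
    A.terms (A.neg (top D)) r = [])

theorem topFacts_of_check (e : topFactsCheck D A = true) : TopFacts D A := by
  simp only [topFactsCheck, Bool.and_eq_true, decide_eq_true_eq] at e
  obtain ⟨⟨⟨h1, h2⟩, h3⟩, h4⟩ := e
  exact ⟨h1, h2, h3, h4⟩

variable (D A) in
/-- an involution of `U` that is not a long root element: a short fundamental root or two orthogonal ones -/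
def TwoFacts (sh : List ℕ) : Prop :=
  (∃ i < D.rank, D.simple i ∈ sh) ∨
    ∃ i < D.rank, ∃ j < D.rank, D.simple i ≠ D.simple j ∧ D.simple j ≠ A.neg (D.simple i) ∧
      A.terms (D.simple i) (D.simple j) = []

/-- the value of a coroot torus element at a root -/
theorem chi_coro (g : Good D A) (u : Fˣ) (r s : ℕ) :
    chi D A (fun i => u ^ A.coro r i.val) s = u ^ pr D A r s := by
  simp only [chi, pr, ← _root_.zpow_mul, Finset.sum_range]
  induction (Finset.univ : Finset (Fin D.rank)) using Finset.induction_on with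
  | empty => simp
  | insert a S ha ih => rw [Finset.sum_insert ha, Finset.prod_insert ha, _root_.zpow_add, ih]

/-- the central element of the rank one subgroup -/
theorem sl2_neg_one (g : Good D A) {r : ℕ} (hr : r < D.nroots) {φ : SL(2, F) →* GL D.Idx F}
    (hφ : ∀ (y : SL(2, F)) (t : F),
      ((y : Matrix (Fin 2) (Fin 2) F) = !![1, t; 0, 1] → φ y = xG g r t) ∧
      ((y : Matrix (Fin 2) (Fin 2) F) = !![1, 0; t, 1] → φ y = xG g (A.neg r) t))
    {e : SL(2, F)} (he : (e : Matrix (Fin 2) (Fin 2) F) = -1) :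
    φ e = tor D A fun i => (-1 : Fˣ) ^ A.coro r i.val := by
  set m : SL(2, F) := Steinberg.R1Data.up (-1) * Steinberg.R1Data.dn 1 * Steinberg.R1Data.up (-1)
  have hm : e = m * m := by
    refine Subtype.ext ?_
    rw [he]
    ext a b
    fin_cases a <;> fin_cases b <;> simp [m, Matrix.mul_apply, Fin.sum_univ_two]
  have hmφ : φ m = nG g r (-1) := by
    rw [map_mul, map_mul, (hφ (Steinberg.R1Data.up (-1)) (-1)).1 rfl,
      (hφ (Steinberg.R1Data.dn 1) 1).2 rfl, nG, g.neg_eq r hr]
    norm_num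
  rw [hm, map_mul, hmφ, ← hG, ← hG_eq_tor g hr (-1)]
  simp

/-- the two unipotent generators give the central element -/
theorem neg_one_mem [Fintype F] {p : ℕ} [Fact p.Prime] [CharP F p] (h2 : (2 : F) ≠ 0) {lam : F}
    (hlam : lam ≠ 0) (S : Subgroup (SL(2, F))) (hU : ∀ s : SL(2, F),
      (s : Matrix (Fin 2) (Fin 2) F) = !![1, 0; 1, 1] → s ∈ S)
    (hV : ∀ s : SL(2, F), (s : Matrix (Fin 2) (Fin 2) F) = !![1, lam; 0, 1] → s ∈ S) :
    ∃ e ∈ S, (e : Matrix (Fin 2) (Fin 2) F) = -1 := by
  classical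
  set K : Subfield F := Subfield.closure {lam}
  haveI : Fintype K := Fintype.ofFinite K
  haveI : CharP K p := (RingHom.charP_iff K.subtype Subtype.val_injective p).2 inferInstance
  set l : K := ⟨lam, Subfield.subset_closure rfl⟩
  have hgen : Subfield.closure ({l} : Set K) = ⊤ := by
    have e : (Subfield.closure ({l} : Set K)).map K.subtype = K := by
      rw [RingHom.map_field_closure, Set.image_singleton]
      rfl
    refine eq_top_iff.2 fun x _ => ?_
    have hx : (x : F) ∈ (Subfield.closure ({l} : Set K)).map K.subtype := by rw [e]; exact x.2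
    obtain ⟨y, hy, hxy⟩ := Subfield.mem_map.1 hx
    rwa [← Subtype.ext (a1 := y) (a2 := x) hxy]
  have h2' : (2 : K) ≠ 0 := fun e => h2 <|
    (map_ofNat K.subtype 2).symm.trans ((congrArg K.subtype e).trans (map_zero _))
  set ι := Matrix.SpecialLinearGroup.map (n := Fin 2) K.subtype
  have hcl : Subgroup.closure (PSL2.Gen.gens l) ≤ S.comap ι := by
    refine (Subgroup.closure_le _).2 ?_
    rintro s (hs | hs)
    · refine hU (ι s) ?_
      ext a b
      have := congrArg Subtype.val (congrFun (congrFun hs a) b)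
      fin_cases a <;> fin_cases b <;> simpa [ι] using this
    · refine hV (ι s) ?_
      ext a b
      have := congrArg Subtype.val (congrFun (congrFun hs a) b)
      fin_cases a <;> fin_cases b <;> simpa [ι, l] using this
  rcases PSL2.Gen.main p h2' l (fun e => hlam (congrArg Subtype.val e)) hgen with htop | ⟨h9, hl⟩
  · refine ⟨ι ⟨-1, by simp [Matrix.det_neg]⟩, hcl (by rw [htop]; trivial), ?_⟩
    show ((-1 : Matrix (Fin 2) (Fin 2) K).map K.subtype) = -1
    ext a b
    fin_cases a <;> fin_cases b <;> simp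
  · have h3 : (3 : F) = 0 := by
      have hp3 : p = 3 := by
        obtain ⟨n, hp, hn⟩ := FiniteField.card K p
        have : p ∣ 3 ^ 2 := by
          rw [show (3 : ℕ) ^ 2 = Fintype.card K by rw [h9]; norm_num, hn]
          exact dvd_pow_self p n.pos.ne'
        exact (Nat.prime_dvd_prime_iff_eq hp Nat.prime_three).1 (hp.dvd_of_dvd_pow this)
      subst hp3
      exact_mod_cast CharP.cast_eq_zero F 3
    have hl' : lam ^ 2 = -1 := by simpa [l] using congrArg K.subtype hl
    set U : SL(2, F) := Steinberg.R1Data.dn 1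
    set V : SL(2, F) := Steinberg.R1Data.up lam
    set s := U * V * (U * V⁻¹) with hs
    have hsS : s ∈ S := mul_mem (mul_mem (hU U rfl) (hV V rfl)) (mul_mem (hU U rfl) (inv_mem (hV V rfl)))
    have htr : (s : Matrix (Fin 2) (Fin 2) F).trace = 0 := by
      simp only [hs, U, V, Matrix.SpecialLinearGroup.coe_mul, Matrix.SpecialLinearGroup.coe_inv,
        Steinberg.R1Data.up_val, Steinberg.R1Data.dn_val, Matrix.adjugate_fin_two, Matrix.trace_fin_two]
      simp [Matrix.mul_apply, Fin.sum_univ_two]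
      linear_combination h3 - hl'
    exact ⟨s * s, mul_mem hsS hsS, (Matrix.SpecialLinearGroup.coe_mul s s).trans
      ((PSL2.Gen.sl_mul_self s).trans (by rw [htr, zero_smul, zero_sub]))⟩

/-- shifting the last coordinate -/
theorem pw_top (g : Good D A) (s : F) : ∀ {L : List ℕ}, L.Pairwise (· < ·) → (∀ r ∈ L, r ≤ top D) →
    top D ∈ L → ∀ T : ℕ → F,
      pw g L T * xG g (top D) s = pw g L (Function.update T (top D) (T (top D) + s))
  | [], _, _, h, _ => absurd h List.not_mem_nil
  | x :: L, hs, hle, hm, T => by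
    by_cases e : x = top D
    · have hL : L = [] := List.eq_nil_iff_forall_not_mem.2 fun r hr => by
        have := (List.pairwise_cons.1 hs).1 r hr
        have := hle r (List.mem_cons_of_mem _ hr)
        omega
      subst e hL
      simp [pw, xG_add]
    · have := pw_top g s (List.pairwise_cons.1 hs).2 (fun r hr => hle r (List.mem_cons_of_mem _ hr))
        ((List.mem_cons.1 hm).resolve_left (Ne.symm e)) T
      simp only [pw, List.map_cons, List.prod_cons] at this ⊢
      rw [Function.update_of_ne e, mul_assoc, this]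

variable {hP : Para D A} {σ : F →+* F} {H : Subgroup (GL D.Idx F)} {sh : List ℕ} [Fintype F]
  {p : ℕ} [Fact p.Prime] [CharP F p]

include p in
/-- odd characteristic: an opposite conjugate of a highest root element is rational -/
theorem opp_odd (C : Ctx hP σ H sh) (T : TopFix hP σ H) (X : TopFacts D A) (h2 : (2 : F) ≠ 0)
    {u : GL D.Idx F} (hu : u ∈ D.posUnipotent F) {k : F} (hk : k ≠ 0)
    (hz : u * xG hP.std.good (A.neg (top D)) k * u⁻¹ ∈ H) :
    Matrix.GeneralLinearGroup.map σ (u * xG hP.std.good (A.neg (top D)) k * u⁻¹) =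
      u * xG hP.std.good (A.neg (top D)) k * u⁻¹ := by
  classical
  have h := hP.std
  have g := h.good
  have L := C.L
  have hθ := top_lt L
  set θ := top D with hθdef
  have hnθ := g.neg_lt θ hθ
  obtain ⟨φ, hφ⟩ := Steinberg.exists_sl2 (F := F) g θ hθ
  -- the central element belongs to the subgroup
  set S : Subgroup (SL(2, F)) := (H.comap ((MulAut.conj u).toMonoidHom.comp φ)).comap
    (MulAut.conj (Steinberg.R1Data.wS : SL(2, F))).toMonoidHom with hS
  have hmemS : ∀ s, s ∈ S ↔ u * φ (Steinberg.R1Data.wS * s * Steinberg.R1Data.wS⁻¹) * u⁻¹ ∈ H :=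
    fun s => Iff.rfl
  have hθC := top_central h L hu
  have hzθ : ∀ t, u * xG g θ t * u⁻¹ = xG g θ t := fun t => by rw [(hθC t).eq, mul_inv_cancel_right]
  have hgU : ∀ s : SL(2, F), (s : Matrix (Fin 2) (Fin 2) F) = !![1, 0; 1, 1] → s ∈ S := fun s hs => by
    rw [hmemS, (hφ _ (-1)).1 ?_, hzθ]
    · exact C.S.gen θ (-1) (by simp)
    · simp only [Matrix.SpecialLinearGroup.coe_mul, Matrix.SpecialLinearGroup.coe_inv, hs, Steinberg.R1Data.wS_val,
        Matrix.adjugate_fin_two]
      ext a b
      fin_cases a <;> fin_cases b <;> simp [Matrix.mul_apply, Fin.sum_univ_two]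
  have hgV : ∀ s : SL(2, F), (s : Matrix (Fin 2) (Fin 2) F) = !![1, -k; 0, 1] → s ∈ S := fun s hs => by
    rw [hmemS, (hφ _ k).2 ?_]
    · exact hz
    · simp only [Matrix.SpecialLinearGroup.coe_mul, Matrix.SpecialLinearGroup.coe_inv, hs, Steinberg.R1Data.wS_val,
        Matrix.adjugate_fin_two]
      ext a b
      fin_cases a <;> fin_cases b <;> simp [Matrix.mul_apply, Fin.sum_univ_two]
  obtain ⟨e, heS, he⟩ := neg_one_mem (p := p) h2 (neg_ne_zero.2 hk) S hgU hgV
  rw [hmemS, sl2_neg_one g hθ hφ (e := Steinberg.R1Data.wS * e * Steinberg.R1Data.wS⁻¹) (by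
    simp only [Matrix.SpecialLinearGroup.coe_mul, Matrix.SpecialLinearGroup.coe_inv, he, Steinberg.R1Data.wS_val,
      Matrix.adjugate_fin_two]
    ext a b
    fin_cases a <;> fin_cases b <;> simp [Matrix.mul_apply, Fin.sum_univ_two])] at heS
  set c : Fin D.rank → Fˣ := fun i => (-1 : Fˣ) ^ A.coro θ i.val
  set t0 : GL D.Idx F := tor D A c with ht0
  have hchi : ∀ r, (chi D A c r : F) = (-1 : F) ^ pr D A θ r := fun r => by
    rw [chi_coro g]; push_cast; rfl
  have hcomm : ∀ r < D.nroots, pr D A θ r = 0 ∨ pr D A θ r = 2 → ∀ x : F, Commute t0 (xG g r x) := by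
    intro r hr hpr x
    show _ * _ = _ * _
    rw [← mul_inv_eq_iff_eq_mul, ht0, tor_conj_xG g c hr, hchi r]
    rcases hpr with e | e <;> simp [e]
  have htz : Commute (u * t0 * u⁻¹) (xG g θ 1) :=
    ((hθC 1).mul_left (hcomm θ hθ (Or.inr X.self) 1)).mul_left (hθC 1).inv_left
  have htfix := rat_of_commute C T heS one_ne_zero htz
  -- splitting off the Levi part
  set J : Set ℕ := {j | j ∈ topJ D A}
  set P0 : ℕ → Prop := fun r => D.IsPosRoot r ∧ pr D A θ r = 0
  have hout : ∀ r, D.IsPosRoot r → pr D A θ r ≠ 0 → OutJ D A J r := by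
    intro r hr hne
    refine ⟨hr, ?_⟩
    by_contra hcon
    push Not at hcon
    refine hne ?_
    rw [pr_linear g θ hr.1]
    refine Finset.sum_eq_zero fun l hl => ?_
    by_cases hlJ : l ∈ J
    · obtain ⟨-, h0⟩ := List.mem_filter.1 hlJ
      simp only [decide_eq_true_eq] at h0
      rw [h0, mul_zero]
    · have := (g.pos_iff r hr.1).1 hr l
      have := hcon l (Finset.mem_range.1 hl) hlJ
      rw [show A.a r l = 0 by omega, zero_mul]
  have hsup : u ∈ UP F g (OutJ D A J) ⊔ UP F g P0 := by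
    have hu' := hu
    rw [posUnipotent_eq g] at hu'
    refine UP_le (fun r x hr => ?_) hu'
    by_cases e : pr D A θ r = 0
    · exact Subgroup.mem_sup_right (xG_mem_UP g (P := P0) ⟨hr, e⟩ x)
    · exact Subgroup.mem_sup_left (xG_mem_UP g (hout r hr e) x)
  have hnorm : UP F g P0 ≤ Subgroup.normalizer (UP F g (OutJ D A J) : Set (GL D.Idx F)) := by
    exact le_trans (le_trans (UP_le fun r x hr => xG_mem_borel g hr.1 x) (borel_le_parabolic J))
      (parabolic_le_normalizer hP J)
  rw [← SetLike.mem_coe, Subgroup.coe_mul_of_right_le_normalizer_left _ _ hnorm] at hsup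
  obtain ⟨v, hv, l, hl, rfl⟩ := hsup
  simp only [SetLike.mem_coe] at hv hl
  have hgen0 : ∀ a ∈ UP F g P0, Commute a (xG g (A.neg θ) k) ∧ Commute a t0 := by
    intro a ha
    induction ha using Subgroup.closure_induction with
    | one => exact ⟨Commute.one_left _, Commute.one_left _⟩
    | mul a b _ _ ha hb => exact ⟨ha.1.mul_left hb.1, ha.2.mul_left hb.2⟩
    | inv a _ ha => exact ⟨ha.1.inv_left, ha.2.inv_left⟩
    | mem a ha =>
      obtain ⟨r, x, hr, rfl⟩ := ha
      refine ⟨(commute_xG h hnθ hr.1.1 (fun e' => ?_) (X.low_terms r hr.1.1 (pos_coords g hr.1) hr.2)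
        k x).symm, (hcomm r hr.1.1 (Or.inl hr.2) x).symm⟩
      rw [g.neg_neg θ hθ] at e'
      have := hr.2
      rw [e', X.self] at this
      omega
  have hlneg := hgen0 l hl
  have ez : v * l * xG g (A.neg θ) k * (v * l)⁻¹ = v * xG g (A.neg θ) k * v⁻¹ := by
    rw [show v * l * xG g (A.neg θ) k * (v * l)⁻¹ = v * (l * xG g (A.neg θ) k * l⁻¹) * v⁻¹ by group,
      hlneg.1.eq, mul_inv_cancel_right]
  have et : v * l * t0 * (v * l)⁻¹ = v * t0 * v⁻¹ := by
    rw [show v * l * t0 * (v * l)⁻¹ = v * (l * t0 * l⁻¹) * v⁻¹ by group, hlneg.2.eq, mul_inv_cancel_right]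
  rw [et] at htfix
  rw [ez] at hz ⊢
  have ht0fix : Matrix.GeneralLinearGroup.map σ t0 = t0 := by
    refine tor_fix g σ fun i hi => ?_
    rw [hchi, map_zpow₀, map_neg, map_one]
  have hσv : Matrix.GeneralLinearGroup.map σ v ∈ UP F g (OutJ D A J) :=
    UP_map_le g σ _ ⟨v, hv, rfl⟩
  set d := v⁻¹ * Matrix.GeneralLinearGroup.map σ v with hd
  have hdV : d ∈ UP F g (OutJ D A J) := mul_mem (inv_mem hv) hσv
  have hdc : t0 * d * t0⁻¹ = d := by
    rw [map_mul, map_mul, map_inv, ht0fix] at htfix
    rw [hd]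
    calc t0 * (v⁻¹ * Matrix.GeneralLinearGroup.map σ v) * t0⁻¹
        = v⁻¹ * (v * t0 * v⁻¹) * Matrix.GeneralLinearGroup.map σ v * t0⁻¹ := by group
      _ = _ := by rw [← htfix]; group
  have hdU : d ∈ UL F g D.posRoots := by
    rw [UL_posRoots g]
    exact UP_le (fun r x hr => xG_mem_posUnipotent g hr.1 x) hdV
  obtain ⟨Tc, hTc⟩ := exists_pw h upList_posRoots hdU
  have hpwc : ∀ M : List ℕ, (∀ r ∈ M, r < D.nroots) → t0 * pw g M Tc * t0⁻¹ =
      pw g M (fun r => (-1 : F) ^ pr D A θ r * Tc r) := by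
    intro M
    induction M with
    | nil => intro _; simp [pw]
    | cons x M ih =>
      intro hM
      have := ih fun r hr => hM r (List.mem_cons_of_mem _ hr)
      simp only [pw, List.map_cons, List.prod_cons] at this ⊢
      rw [← this, show t0 * (xG g x (Tc x) * (M.map fun r => xG g r (Tc r)).prod) * t0⁻¹ =
        (t0 * xG g x (Tc x) * t0⁻¹) * (t0 * (M.map fun r => xG g r (Tc r)).prod * t0⁻¹) by group,
        ht0, tor_conj_xG g c (hM x List.mem_cons_self), hchi]
  have hzero : ∀ r ∈ D.posRoots, pr D A θ r = 1 → Tc r = 0 := by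
    intro r hr e1
    have e := hdc
    rw [hTc, hpwc _ fun r hr => (upList_posRoots.pos r hr).1] at e
    have := pw_inj h upList_posRoots e r hr
    rw [e1] at this
    simp only [zpow_one] at this
    have h0 : (2 : F) * Tc r = 0 := by linear_combination -this
    exact (mul_eq_zero.1 h0).resolve_left h2
  obtain ⟨l', hl', s, hls⟩ : ∃ l' ∈ UP F g P0, ∃ s, d = l' * xG g θ s := by
    rw [hTc]
    suffices ∀ M : List ℕ, (∀ r ∈ M, r ∈ D.posRoots) → ∃ l' ∈ UP F g P0, ∃ s,
        pw g M Tc = l' * xG g θ s from this _ fun r hr => hr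
    intro M
    induction M with
    | nil => intro _; exact ⟨1, one_mem _, 0, by simp [pw, xG_zero]⟩
    | cons x M ih =>
      intro hM
      obtain ⟨l', hl', s, e⟩ := ih fun r hr => hM r (List.mem_cons_of_mem _ hr)
      have hxp := upList_posRoots.pos x (hM x List.mem_cons_self)
      simp only [pw, List.map_cons, List.prod_cons] at e ⊢
      rw [e]
      by_cases ex : x = θ
      · subst ex
        refine ⟨l', hl', Tc θ + s, ?_⟩
        have hc := top_central h L (UP_le (fun r x hr => xG_mem_posUnipotent g hr.1 x) hl') (Tc θ)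
        rw [← mul_assoc, ← hc.eq, mul_assoc, xG_add]
      · rcases L.pr_pos x hxp.1 (pos_coords g hxp) ex with e0 | e1
        · exact ⟨xG g x (Tc x) * l', mul_mem (xG_mem_UP g (P := P0) ⟨hxp, e0⟩ _) hl', s, by group⟩
        · exact ⟨l', hl', s, by rw [hzero x (hM x List.mem_cons_self) e1, xG_zero, one_mul]⟩
  have hθpos := top_isPos g L
  have hl1 : l' = 1 := by
    rw [← Subgroup.mem_bot, ← radical_inf_levi hP J]
    refine ⟨?_, ?_⟩
    · show l' ∈ D.unipotentRadical F J
      rw [radical_eq hP, show l' = d * (xG g θ s)⁻¹ by rw [hls]; group]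
      exact mul_mem hdV (inv_mem (xG_mem_UP g (hout θ hθpos (by rw [X.self]; omega)) s))
    · show l' ∈ D.leviSubgroup F J
      rw [levi_eq hP]
      refine Subgroup.mem_sup_right (UP_le (fun r x hr => xG_mem_UP g ?_ x) hl')
      refine ⟨hr.1.1, fun j hj hjJ => ?_⟩
      have hsum := hr.2
      rw [pr_linear g θ hr.1.1] at hsum
      have hnn : ∀ i ∈ Finset.range D.rank, 0 ≤ A.a r i * pr D A θ (D.simple i) := fun i hi =>
        mul_nonneg (pos_coords g hr.1 i (Finset.mem_range.1 hi)) (L.pr_simple i (Finset.mem_range.1 hi))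
      have := (Finset.sum_eq_zero_iff_of_nonneg hnn).1 hsum j (Finset.mem_range.2 hj)
      refine (mul_eq_zero.1 this).resolve_right fun e0 => hjJ ?_
      exact List.mem_filter.2 ⟨List.mem_range.2 hj, by simp [θ] at e0 ⊢; exact e0⟩
  have hσv' : Matrix.GeneralLinearGroup.map σ v = v * xG g θ s := by
    rw [hl1, one_mul] at hls
    rw [← hls, hd]; group
  obtain ⟨Tv, rfl⟩ := exists_pw h upList_posRoots (show v ∈ UL F g D.posRoots by
    rw [UL_posRoots g]; exact UP_le (fun r x hr => xG_mem_posUnipotent g hr.1 x) hv)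
  have hmem : θ ∈ D.posRoots := by
    rcases mem_posRoots_drop h hθpos with ⟨m, hm1, hm2, -, -⟩
    exact List.mem_of_mem_drop hm1
  have hsorted := (upList_posRoots (D := D)).sorted
  have hle : ∀ r ∈ D.posRoots, r ≤ θ := fun r hr => by
    have : r < D.nroots := (upList_posRoots.pos r hr).1
    rw [hθdef, top]; omega
  rw [map_pw, pw_top g s hsorted hle hmem] at hσv'
  have hT : ∀ r ∈ D.posRoots, r ≠ θ → σ (Tv r) = Tv r := fun r hr hne => by
    have := pw_inj h upList_posRoots hσv' r hr
    rwa [Function.update_of_ne hne] at this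
  set T0 : ℕ → F := Function.update Tv θ 0
  have ev : pw g D.posRoots Tv = pw g D.posRoots T0 * xG g θ (Tv θ) := by
    rw [pw_top g _ hsorted hle hmem]
    congr 1
    funext r
    by_cases e : r = θ
    · subst e; simp [T0, θ]
    · have e' : r ≠ top D := e
      simp [T0, e, e']
  set m := pw g D.posRoots T0
  have hm : m ∈ ratG g σ := by
    refine list_prod_mem fun z hz' => ?_
    obtain ⟨r, hr, rfl⟩ := List.mem_map.1 hz'
    refine xG_mem_ratG g ?_ r
    by_cases e : r = θ
    · subst e; simp [T0]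
    · simp only [T0, Function.update_of_ne e]; exact hT r hr e
  -- the conjugate commuting with an orthogonal root element
  obtain ⟨j, hj, hj0⟩ := X.orth
  have hjp := simple_pos g hj
  set z2 := xG g θ (Tv θ) * xG g (A.neg θ) k * (xG g θ (Tv θ))⁻¹
  have e2 : pw g D.posRoots Tv * xG g (A.neg θ) k * (pw g D.posRoots Tv)⁻¹ = m * z2 * m⁻¹ := by
    rw [ev]; simp only [z2]; group
  rw [e2] at hz ⊢
  have hz2H : z2 ∈ H := by
    have := mul_mem (mul_mem (inv_mem (C.S.rat_le hm)) hz) (C.S.rat_le hm)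
    rwa [show m⁻¹ * (m * z2 * m⁻¹) * m = z2 by group] at this
  have hc : Commute z2 (xG g (D.simple j) 1) := by
    have c1 := top_central h L (xG_mem_posUnipotent g hjp (1 : F)) (Tv θ)
    refine (c1.symm.mul_left (commute_xG h hnθ hjp.1 (fun e' => ?_)
      (X.low_terms _ hjp.1 (pos_coords g hjp) hj0) k 1)).mul_left c1.symm.inv_left
    rw [g.neg_neg θ hθ] at e'
    rw [e', X.self] at hj0
    omega
  have hne1 : xG g (D.simple j) (1 : F) ≠ 1 := fun e => one_ne_zero (xG_eq_one h hjp.1 e)
  have hfix := cent_fix C T (p := p) (xG_mem_posUnipotent g hjp 1) hne1 (by rw [map_xG, map_one]) hz2H hc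
  rw [map_mul, map_mul, map_inv, hfix, mem_fixG.1 (ratG_le_fixG g σ hm)]

/-- an involution of `U` that is no conjugate of a long root element -/
theorem exists_witness (h : Std D A) (L : LongFacts D A sh) (W : TwoFacts D A sh) (h2 : (2 : F) = 0) :
    ∃ w ∈ D.posUnipotent F, w ≠ 1 ∧ w * w = 1 ∧ w ∈ ratG h.good σ ∧
      ∀ y ∈ D.group F, ∀ k : F, k ≠ 0 → y * xG h.good (top D) k * y⁻¹ ≠ w := by
  have g := h.good
  have sq : ∀ r : ℕ, xG g r (1 : F) * xG g r 1 = 1 := fun r => by
    rw [xG_add, one_add_one_eq_two, h2, xG_zero]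
  -- a conjugate in `U` has at most one fundamental coordinate, at a long root
  have key : ∀ w ∈ D.posUnipotent F, ∀ y ∈ D.group F, ∀ k : F, k ≠ 0 →
      y * xG g (top D) k * y⁻¹ = w → ∀ i < D.rank, w ∉ UP F g (posBut D i) →
      D.simple i ∉ sh ∧ ∀ j < D.rank, w ∉ UP F g (posBut D j) → D.simple i = D.simple j := by
    intro w hw y hy k hk e
    obtain ⟨b, hb, n, hn, τ, hτ, v, hv, rfl⟩ := normal_form_exists h hy
    obtain ⟨k2, hk2, hconj⟩ := hτ.conj (top D) (top_lt L)
    set q := τ (top D)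
    have hq : q < D.nroots := hτ.map.1 _ (top_lt L)
    have ew : w = b * xG g q (k2 * k) * b⁻¹ := by
      rw [← e, ← hconj, show b * n * v * xG g (top D) k * (b * n * v)⁻¹ =
        b * (n * (v * xG g (top D) k * v⁻¹) * n⁻¹) * b⁻¹ by group,
        (top_central h L (UP_toNeg_le g τ hv) k).eq, mul_inv_cancel_right]
    have hqpos : D.IsPosRoot q := by
      rcases pos_or_pos_neg g hq with h' | h'
      · exact h'
      exfalso
      refine mul_ne_zero hk2 hk (xG_eq_one h hq ?_)
      rw [← Subgroup.mem_bot, ← borel_inf_negUnipotent h]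
      refine ⟨?_, xG_mem_negUnipotent g (isNeg_of_not_pos g hq fun h'' => not_pos_neg g h'' h') _⟩
      have h1 := mul_mem (mul_mem (inv_mem hb) (pos_le_borel hw)) hb
      rwa [ew, show b⁻¹ * (b * xG g q (k2 * k) * b⁻¹) * b = xG g q (k2 * k) by group] at h1
    have hcoord : ∀ i < D.rank, w ∉ UP F g (posBut D i) → q = D.simple i := by
      intro i hi hni
      by_contra hne
      refine hni ?_
      rw [ew]
      exact posBut_borel h hi hb (xG_mem_UP g (P := posBut D i) ⟨hqpos, hne⟩ _)
    intro i hi hni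
    refine ⟨fun hs => L.top_long ((long_acts h L hn hτ (top_lt L)).1 ?_), fun j hj hnj => ?_⟩
    · show q ∈ sh
      rw [hcoord i hi hni]; exact hs
    · rw [← hcoord i hi hni, hcoord j hj hnj]
  rcases W with ⟨i, hi, his⟩ | ⟨i, hi, j, hj, hij, hijn, hterms⟩
  · have hp := simple_pos g hi
    have hni : xG g (D.simple i) (1 : F) ∉ UP F g (posBut D i) := fun e =>
      one_ne_zero (posBut_coord h hi e)
    exact ⟨_, xG_mem_posUnipotent g hp 1, fun e => one_ne_zero (xG_eq_one h hp.1 e), sq _,
      xG_mem_ratG g (map_one σ) _,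
      fun y hy k hk e => (key _ (xG_mem_posUnipotent g hp 1) y hy k hk e i hi hni).1 his⟩
  · have hpi := simple_pos g hi
    have hpj := simple_pos g hj
    set a := xG g (D.simple i) (1 : F)
    set b := xG g (D.simple j) (1 : F)
    have hc : Commute a b := commute_xG h hpi.1 hpj.1 hijn hterms 1 1
    have hbi : b ∈ UP F g (posBut D i) := xG_mem_UP g (P := posBut D i) ⟨hpj, Ne.symm hij⟩ 1
    have haj : a ∈ UP F g (posBut D j) := xG_mem_UP g (P := posBut D j) ⟨hpi, hij⟩ 1
    have hni : a * b ∉ UP F g (posBut D i) := fun e =>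
      one_ne_zero (posBut_coord h hi (by simpa [mul_assoc] using mul_mem e (inv_mem hbi)))
    have hnj : a * b ∉ UP F g (posBut D j) := fun e =>
      one_ne_zero (posBut_coord h hj (by simpa [← mul_assoc] using mul_mem (inv_mem haj) e))
    have hw : a * b ∈ D.posUnipotent F :=
      mul_mem (xG_mem_posUnipotent g hpi 1) (xG_mem_posUnipotent g hpj 1)
    refine ⟨a * b, hw, fun e => hni (e ▸ one_mem _), ?_,
      mul_mem (xG_mem_ratG g (map_one σ) _) (xG_mem_ratG g (map_one σ) _),
      fun y hy k hk e => hij ((key _ hw y hy k hk e i hi hni).2 j hj hnj)⟩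
    rw [hc.eq]
    calc b * a * (b * a) = b * (a * b) * a := by group
      _ = b * (b * a) * a := by rw [hc.eq]
      _ = (b * b) * (a * a) := by group
      _ = 1 := by rw [sq, sq, one_mul]

include p in
/-- characteristic two: a conjugate of a highest root element is rational -/
theorem opp_two (C : Ctx hP σ H sh) (T : TopFix hP σ H) (W : TwoFacts D A sh) (h2 : (2 : F) = 0)
    {y : GL D.Idx F} (hy : y ∈ H) :
    Matrix.GeneralLinearGroup.map σ (y * xG hP.std.good (top D) 1 * y⁻¹) =
      y * xG hP.std.good (top D) 1 * y⁻¹ := by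
  classical
  haveI : Finite (GL D.Idx F) := finite_GL
  have hp2 : p = 2 := by
    refine (Nat.prime_dvd_prime_iff_eq Fact.out Nat.prime_two).1 ((CharP.cast_eq_zero_iff F p 2).1 ?_)
    exact_mod_cast h2
  subst hp2
  have h := hP.std
  have g := h.good
  obtain ⟨w, hwU, hw1, hw2, hwR, hwn⟩ := exists_witness (σ := σ) h C.L W h2
  set z := y * xG g (top D) (1 : F) * y⁻¹
  have hzH : z ∈ H := mul_mem (mul_mem hy (C.S.gen _ 1 (map_one σ))) (inv_mem hy)
  have hz2 : z * z = 1 := by
    simp only [z]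
    rw [show y * xG g (top D) (1 : F) * y⁻¹ * (y * xG g (top D) 1 * y⁻¹) =
      y * (xG g (top D) 1 * xG g (top D) 1) * y⁻¹ by group, xG_add, one_add_one_eq_two, h2, xG_zero]
    group
  have hwH : w ∈ H := C.S.rat_le hwR
  have hwfix : Matrix.GeneralLinearGroup.map σ w = w := ratG_le_fixG g σ hwR
  have hwinv : w⁻¹ = w := inv_eq_of_mul_eq_one_right hw2
  have hzinv : z⁻¹ = z := inv_eq_of_mul_eq_one_right hz2
  set d := w * z with hd
  have hinv : ∀ n : ℤ, w * d ^ n * w⁻¹ = d ^ (-n) := fun n => by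
    rw [← conj_zpow, _root_.zpow_neg, ← _root_.inv_zpow]
    congr 1
    rw [hd, _root_.mul_inv_rev, hwinv, hzinv, ← mul_assoc, hw2, one_mul]
  set n := orderOf d
  have hn0 : 0 < n := orderOf_pos d
  rcases Nat.even_or_odd n with ⟨m, hm⟩ | ⟨m, hm⟩
  · -- a central involution
    have hm0 : 0 < m := by omega
    set t := d ^ (m : ℤ) with ht
    have hdH : d ∈ H := mul_mem hwH hzH
    have ht1 : t ≠ 1 := fun e => by
      rw [ht, zpow_natCast] at e
      exact pow_ne_one_of_lt_orderOf (by omega) (by omega) e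
    have ht2 : t * t = 1 := by
      rw [ht, ← _root_.zpow_add, ← Nat.cast_add, zpow_natCast, ← hm, pow_orderOf_eq_one]
    have htinv : t⁻¹ = t := inv_eq_of_mul_eq_one_right ht2
    have hct : Commute t w := by
      have := hinv m
      rw [_root_.zpow_neg, ← ht, htinv, mul_inv_eq_iff_eq_mul] at this
      exact this.symm
    have hczt : Commute z t := by
      rw [show z = w⁻¹ * d by rw [hd, inv_mul_cancel_left]]
      exact hct.symm.inv_left.mul_left (Commute.self_zpow d m)
    have htH : t ∈ H := zpow_mem hdH _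
    have htfix := cent_fix C T (p := 2) hwU hw1 hwfix htH hct
    have ho : IsPGroup 2 (Subgroup.zpowers t) := by
      refine IsPGroup.of_card (n := 1) ?_
      rw [Nat.card_zpowers, pow_one]
      exact orderOf_eq_prime (by rw [sq, ht2]) ht1
    obtain ⟨x, hx, hxU⟩ := exists_conj_pos (p := 2) h (H := H ⊓ fixG σ)
      (inf_le_left.trans C.S.le)
      (fun i _ => ⟨C.S.gen _ 1 (map_one σ), mem_fixG.2 (by rw [map_xG, map_one])⟩)
      (t := t) ⟨htH, htfix⟩ ho
    have hxfix : Matrix.GeneralLinearGroup.map σ x = x := hx.2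
    have hne : x * t * x⁻¹ ≠ 1 := fun e => ht1 (by simpa using e)
    have hfix := cent_fix C T (p := 2) hxU hne (by rw [map_mul, map_mul, map_inv, hxfix, htfix])
      (y := x * z * x⁻¹) (mul_mem (mul_mem hx.1 hzH) (inv_mem hx.1))
      (by
        show _ * _ = _ * _
        rw [show x * z * x⁻¹ * (x * t * x⁻¹) = x * (z * t) * x⁻¹ by group, hczt.eq]; group)
    rw [map_mul, map_mul, map_inv, hxfix] at hfix
    exact mul_left_cancel (mul_right_cancel hfix)
  · exfalso
    refine hwn (d ^ (-(m : ℤ)) * y) (mul_mem (zpow_mem (mul_mem (C.S.le hwH) (C.S.le hzH)) _) (C.S.le hy))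
      1 one_ne_zero ?_
    rw [show d ^ (-(m : ℤ)) * y * xG g (top D) 1 * (d ^ (-(m : ℤ)) * y)⁻¹ =
      d ^ (-(m : ℤ)) * z * (d ^ (-(m : ℤ)))⁻¹ by simp only [z]; group,
      show z = w * d by rw [hd, ← mul_assoc, hw2, one_mul]]
    have e1 : d ^ (-(m : ℤ)) * w = w * d ^ (m : ℤ) := by
      rw [← hinv]; group
    rw [← mul_assoc, e1, show w * d ^ (m : ℤ) * d * (d ^ (-(m : ℤ)))⁻¹ = w * d ^ ((2 * m + 1 : ℕ) : ℤ) by
      push_cast; group, zpow_natCast, ← hm, pow_orderOf_eq_one, mul_one]

include p in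
/-- the subgroup is rational -/
theorem all_fix (C : Ctx hP σ H sh) (T : TopFix hP σ H) (X : TopFacts D A) (W : TwoFacts D A sh)
    {y : GL D.Idx F} (hy : y ∈ H) : Matrix.GeneralLinearGroup.map σ y = y := by
  classical
  have h := hP.std
  have g := h.good
  have L := C.L
  have hθ := top_lt L
  refine rat_of_line C T hy (line_of_top h L σ (C.S.le hy) (k := 1) one_ne_zero ?_)
  by_cases h2 : (2 : F) = 0
  · exact opp_two (p := p) C T W h2 hy
  obtain ⟨b, hb, n, hn, τ, hτ, v, hv, rfl⟩ := normal_form_exists h (C.S.le hy)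
  set q := τ (top D)
  have hq : q < D.nroots := hτ.map.1 _ hθ
  have hvU := UP_toNeg_le g τ hv
  by_cases hqn : q = A.neg (top D)
  · obtain ⟨u, hu, c, rfl⟩ := (mem_borel_iff g).1 hb
    obtain ⟨k2, hk2, hconj⟩ := hτ.conj (top D) hθ
    have e : u * tor D A c * n * v * xG g (top D) 1 * (u * tor D A c * n * v)⁻¹ =
        u * xG g (A.neg (top D)) ((chi D A c q : F) * (k2 * 1)) * u⁻¹ := by
      rw [show u * tor D A c * n * v * xG g (top D) 1 * (u * tor D A c * n * v)⁻¹ =
        u * (tor D A c * (n * (v * xG g (top D) 1 * v⁻¹) * n⁻¹) * (tor D A c)⁻¹) * u⁻¹ by group,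
        (top_central h L hvU 1).eq, mul_inv_cancel_right, hconj, tor_conj_xG g c hq, ← hqn]
    rw [e]
    exact opp_odd (p := p) C T X h2 hu (mul_ne_zero (Units.ne_zero _) (mul_ne_zero hk2 one_ne_zero))
      (e ▸ mul_mem (mul_mem hy (C.S.gen _ 1 (map_one σ))) (inv_mem hy))
  · obtain ⟨l, hl, hlt⟩ := X.low q hq hqn
    have h0 : vec (b * n * v) (top D) (Sum.inr ⟨A.neg (top D), g.neg_lt _ hθ⟩) = 0 := by
      obtain ⟨k3, -, e3⟩ := vec_acts hτ hθ
      rw [vec_mul, vec_top g L hvU,
        show ((b * n : GL D.Idx F) : Matrix D.Idx D.Idx F) *ᵥ ev D F (D.rank + top D) = vec (b * n) (top D) from rfl,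
        vec_mul, e3, Matrix.mulVec_smul, Pi.smul_apply,
        show D.rank + τ (top D) = idx D (Sum.inr ⟨q, hq⟩ : D.Idx) from rfl, mulVec_ev]
      by_contra hne
      set f : Fin D.rank → ℝ := fun j => if j.val = l then 1 else 0 with hf
      have hev : ∀ s, evR D A s f = (A.a s l : ℝ) := fun s => by
        rw [evR, Finset.sum_eq_single ⟨l, hl⟩]
        · simp [hf]
        · intro j _ hj; simp [hf, show j.val ≠ l from fun e => hj (Fin.ext e)]
        · simp
      have hlo := borel_lo g (y := f) (fun j => by simp only [hf]; split <;> norm_num) hb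
        (Sum.inr ⟨A.neg (top D), g.neg_lt _ hθ⟩) (Sum.inr ⟨q, hq⟩) (fun e => hne (by simp [e]))
      simp only [wR, hev, add_zero, g.a_neg _ hθ] at hlo
      have : A.a q l ≤ -A.a (top D) l := by exact_mod_cast hlo
      omega
    have hfix := rat_of_coord C T hy h0
    rw [map_mul, map_mul, map_inv, hfix, map_xG, map_one]

end CfsgLib.Chev.Subfield
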