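import Cfsg.Agent.Lib.Chev.Subfield.Local

/-!
Over a finite field: unipotent elements of the subgroup are conjugate into the positive unipotent group, and
their centralisers are rational.
-/

set_option autoImplicit false
set_option linter.style.haveILetI false
set_option maxRecDepth 100000

namespace CfsgLib.Chev.Subfield

open Cfsg.Lie Matrix CfsgLib.KnownB.ChevField CfsgLib.Chev.Grade

variable {D : ChevalleyDatum} {A : Aux} {F : Type*} [Field F]

theorem posBut_borel (h : Std D A) {i : ℕ} (hi : i < D.rank) {b w : GL D.Idx F}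
    (hb : b ∈ D.borelSubgroup F) (hw : w ∈ UP F h.good (posBut D i)) :
    b * w * b⁻¹ ∈ UP F h.good (posBut D i) := by
  have g := h.good
  obtain ⟨u, hu, c, rfl⟩ := (mem_borel_iff g).1 hb
  have hnorm : D.rootSubgroup F (D.simple i) ≤
      Subgroup.normalizer (UP F g (posBut D i) : Set (GL D.Idx F)) :=
    le_trans le_sup_left (rankOne_le_normalizer h hi)
  have huN : u ∈ Subgroup.normalizer (UP F g (posBut D i) : Set (GL D.Idx F)) := by
    obtain ⟨v, hv, a, rfl⟩ := pos_decomp h hi hu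
    exact mul_mem (Subgroup.le_normalizer hv) (hnorm (xG_mem_rootSubgroup g _ a))
  have hw' : tor D A c * w * (tor D A c)⁻¹ ∈ UP F g (posBut D i) := by
    refine conj_UP_le (acts_tor g c) (fun r hr => hr.1.1) (fun r t hr => ?_) hw
    exact xG_mem_UP g (P := posBut D i) hr t
  rw [show u * tor D A c * w * (u * tor D A c)⁻¹ = u * (tor D A c * w * (tor D A c)⁻¹) * u⁻¹ by group]
  exact (Subgroup.mem_normalizer_iff.1 huN _).1 hw'

/-- the coordinate at a fundamental root is well defined -/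
theorem posBut_coord (h : Std D A) {i : ℕ} (hi : i < D.rank) {a : F}
    (ha : xG h.good (D.simple i) a ∈ UP F h.good (posBut D i)) : a = 0 := by
  have g := h.good
  have hp := g.simple_lt i hi
  have h1 := pos_le_borel (UP_posBut_le g i (nS_conj_posBut h hi ha))
  rw [nS_conj_xG g hi hp, refl_simple g hi, g.eta_simple i hi] at h1
  have h2 : xG g (A.neg (D.simple i)) (((-1 : ℤ) : F) * a) = 1 := by
    rw [← Subgroup.mem_bot, ← borel_inf_negUnipotent h]
    refine ⟨h1, xG_mem_negUnipotent g ?_ _⟩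
    refine isNeg_of_not_pos g (g.neg_lt _ hp) fun hpos => ?_
    exact not_pos_neg g (simple_pos g hi) hpos
  simpa using xG_eq_one h (g.neg_lt _ hp) h2

/-- monomial elements preserving positivity lie in the Borel subgroup -/
theorem monomial_mem_borel (h : Std D A) {n : GL D.Idx F} {τ : ℕ → ℕ} (hn : n ∈ D.monomialSubgroup F)
    (hτ : Acts h.good n τ) (hall : ∀ r, D.IsPosRoot r → D.IsPosRoot (τ r)) :
    n ∈ D.borelSubgroup F := by
  have g := h.good
  have hnG := monomialSubgroup_le_group g hn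
  have key : ∀ b ∈ D.borelSubgroup F, n * b * n⁻¹ ∈ D.borelSubgroup F := by
    intro b hb
    obtain ⟨u, hu, c, rfl⟩ := (mem_borel_iff g).1 hb
    obtain ⟨d, hd⟩ := monomial_conj_tor g hn c
    rw [show n * (u * tor D A c) * n⁻¹ = (n * u * n⁻¹) * (n * tor D A c * n⁻¹) by group, hd]
    refine mul_mem ?_ (tor_mem_borel g d)
    rw [posUnipotent_eq g] at hu
    exact conj_UP_le hτ (fun r hr => hr.1) (fun r t hr => xG_mem_borel g (hall r hr) t) hu
  exact BN.mem_of_conj_B_le (P := bnPair h) (g := (⟨n, hnG⟩ : ↥(D.group F)))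
    (H := (bnPair h).B) le_rfl (fun b hb => key b hb)

/-- only the Borel subgroup carries all fundamental root elements into `U` -/
theorem mem_borel_of_conj (h : Std D A) {y : GL D.Idx F} (hy : y ∈ D.group F)
    (hc : ∀ i < D.rank, y * xG h.good (D.simple i) 1 * y⁻¹ ∈ D.posUnipotent F) :
    y ∈ D.borelSubgroup F := by
  have g := h.good
  obtain ⟨b, hb, n, hn, τ, hτ, v, hv, rfl⟩ := normal_form_exists h hy
  have hvU : v ∈ D.posUnipotent F := UP_toNeg_le g τ hv
  by_cases hall : ∀ i < D.rank, D.IsPosRoot (τ (D.simple i))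
  · refine mul_mem (mul_mem hb (monomial_mem_borel h hn hτ fun r hr => ?_)) (pos_le_borel hvU)
    refine (g.pos_iff _ (hτ.map.1 r hr.1)).2 fun l => ?_
    by_cases hl : l < D.rank
    · rw [simple_eq_sum g hτ.map hr.1 l hl]
      refine Finset.sum_nonneg fun k hk => ?_
      have hp := hall k (Finset.mem_range.1 hk)
      exact mul_nonneg ((g.pos_iff r hr.1).1 hr k) ((g.pos_iff _ hp.1).1 hp l)
    · rw [g.a_zero _ (hτ.map.1 r hr.1) l (not_lt.1 hl)]
  push Not at hall
  obtain ⟨i, hi, hneg⟩ := hall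
  exfalso
  have hsi := simple_pos g hi
  -- the conjugated element
  set e := v * xG g (D.simple i) 1 * v⁻¹ with he
  have hne : n * e * n⁻¹ ∈ D.posUnipotent F := by
    have := conj_posUnipotent g (inv_mem hb) (hc i hi)
    rw [inv_inv] at this
    rwa [show b⁻¹ * (b * n * v * xG g (D.simple i) 1 * (b * n * v)⁻¹) * b = n * e * n⁻¹ by
      rw [he]; group] at this
  have heU : e ∈ D.posUnipotent F :=
    mul_mem (mul_mem hvU (xG_mem_posUnipotent g hsi 1)) (inv_mem hvU)
  have heU' : e ∈ UL F g D.posRoots := by rwa [UL_posRoots g]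
  obtain ⟨p, hp, q, hq, epq⟩ := pos_split h τ hτ.map.1 upList_posRoots heU'
  have hp' : n * p * n⁻¹ ∈ D.borelSubgroup F :=
    conj_UP_le hτ (fun r hr => hr.1.1) (fun r t hr => xG_mem_borel g hr.2 t) hp
  have hq' : n * q * n⁻¹ ∈ D.negUnipotent F :=
    conj_UP_le hτ (fun r hr => hr.1.1) (fun r t hr => xG_mem_negUnipotent g hr.2 t) hq
  have hq1 : q = 1 := by
    have h1 : n * q * n⁻¹ = 1 := by
      rw [← Subgroup.mem_bot, ← borel_inf_negUnipotent h]
      refine ⟨?_, hq'⟩
      have := mul_mem (inv_mem hp') (pos_le_borel hne)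
      rwa [epq, show (n * p * n⁻¹)⁻¹ * (n * (p * q) * n⁻¹) = n * q * n⁻¹ by group] at this
    simpa using h1
  have heP : e ∈ UP F g (posBut D i) := by
    rw [epq, hq1, mul_one]
    refine UP_le (fun r t hr => xG_mem_UP g (P := posBut D i) ?_ t) hp
    exact ⟨hr.1, fun e' => hneg (e' ▸ hr.2)⟩
  have := posBut_borel h hi (inv_mem (pos_le_borel hvU)) heP
  rw [he, inv_inv, show v⁻¹ * (v * xG g (D.simple i) 1 * v⁻¹) * v = xG g (D.simple i) 1 by group] at this
  exact one_ne_zero (posBut_coord h hi this)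

set_option maxHeartbeats 1000000 in
/-- the unipotent elements of a subgroup with the fundamental root elements are conjugate into `U` -/
theorem exists_conj_pos [Fintype F] {p : ℕ} [Fact p.Prime] [CharP F p] (h : Std D A)
    {H : Subgroup (GL D.Idx F)} (hle : H ≤ D.group F)
    (hgen : ∀ i < D.rank, xG h.good (D.simple i) 1 ∈ H) {t : GL D.Idx F} (ht : t ∈ H)
    (hp : IsPGroup p (Subgroup.zpowers t)) : ∃ y ∈ H, y * t * y⁻¹ ∈ D.posUnipotent F := by
  classical
  haveI : Finite (GL D.Idx F) := finite_GL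
  have g := h.good
  set U0 : Subgroup H := (D.posUnipotent F).subgroupOf H with hU0
  have hUp : IsPGroup p (D.posUnipotent F) := by
    obtain ⟨n, -, hq⟩ := FiniteField.card F p
    exact IsPGroup.of_card (n := n * (D.nroots / 2)) (by rw [card_posUnipotent h, hq, ← pow_mul])
  have hU0p : IsPGroup p U0 := hUp.comap_of_injective H.subtype Subtype.val_injective
  obtain ⟨S, hS⟩ := hU0p.exists_le_sylow
  have hSU : (S : Subgroup H) ≤ U0 := by
    set P1 : Subgroup (GL D.Idx F) := (S : Subgroup H).map H.subtype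
    obtain ⟨k, hk, hkU⟩ := exists_conj_posUnipotent (p := p) h P1
      ((Subgroup.map_subtype_le _).trans hle) (S.isPGroup'.map _)
    have hkB : k⁻¹ ∈ D.borelSubgroup F := by
      refine mem_borel_of_conj h (inv_mem hk) fun i hi => ?_
      rw [inv_inv]
      refine hkU _ ⟨⟨_, hgen i hi⟩, hS ?_, rfl⟩
      exact xG_mem_posUnipotent g (simple_pos g hi) 1
    intro x hx
    show (x : GL D.Idx F) ∈ D.posUnipotent F
    have := conj_posUnipotent g (inv_mem hkB) (hkU _ ⟨x, hx, rfl⟩)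
    simpa [mul_assoc] using this
  have hzp : IsPGroup p (Subgroup.zpowers (⟨t, ht⟩ : H)) :=
    (hp.comap_of_injective H.subtype Subtype.val_injective).to_le
      (Subgroup.zpowers_le.2 (Subgroup.mem_zpowers t))
  obtain ⟨T, hT⟩ := hzp.exists_le_sylow
  obtain ⟨x, hx⟩ := MulAction.exists_smul_eq H T S
  have hmem : x * ⟨t, ht⟩ * x⁻¹ ∈ ((x • T : Sylow p H) : Subgroup H) := by
    rw [Sylow.coe_subgroup_smul]
    exact Subgroup.smul_mem_pointwise_smul _ (MulAut.conj x) _ (hT (Subgroup.mem_zpowers _))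
  rw [hx] at hmem
  have hU' := hSU hmem
  rw [hU0, Subgroup.mem_subgroupOf] at hU'
  exact ⟨x, x.2, hU'⟩

/-! ### Rational cosets of parabolic subgroups -/

theorem parabolic_lo (h : Std D A) {J : Set ℕ} {f : Fin D.rank → ℝ} (hf : ∀ j, 0 ≤ f j)
    (hfJ : ∀ (i : ℕ) (hi : i < D.rank), i ∈ J → f ⟨i, hi⟩ = 0) {y : GL D.Idx F}
    (hy : y ∈ D.parabolicSubgroup F J) : Lo A f 0 (y : Matrix D.Idx D.Idx F) := by
  have g := h.good
  have hx : ∀ r, r < D.nroots → evR D A r f = 0 → ∀ t : F,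
      Lo A f 0 (xG g r t : Matrix D.Idx D.Idx F) := by
    intro r hr h0 t u v hne
    by_cases e : u = v
    · subst e; simp
    rw [xG_val] at hne
    have hne' : D.x F r t u v ≠ (1 : Matrix D.Idx D.Idx F) u v := by
      rwa [Matrix.one_apply_ne e]
    obtain ⟨m, -, he⟩ := x_entry_step g hr t hne'
    rw [he f, h0]; simp
  have hmul : ∀ {a b : GL D.Idx F}, Lo A f 0 (a : Matrix D.Idx D.Idx F) →
      Lo A f 0 (b : Matrix D.Idx D.Idx F) → Lo A f 0 ((a * b : GL D.Idx F) : Matrix D.Idx D.Idx F) := by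
    intro a b ha hb
    rw [Units.val_mul]
    simpa using lo_mul ha hb
  have hnS : ∀ j ∈ J, j < D.rank → Lo A f 0 (nS F g j : Matrix D.Idx D.Idx F) ∧
      Lo A f 0 (((nS F g j)⁻¹ : GL D.Idx F) : Matrix D.Idx D.Idx F) := by
    intro j hjJ hj
    have hs := g.simple_lt j hj
    have h0 : evR D A (D.simple j) f = 0 := by rw [evR_simple g hj, hfJ j hj hjJ]
    have h0' : evR D A (A.neg (D.simple j)) f = 0 := by rw [evR_neg g hs, h0, neg_zero]
    have h0'' : evR D A (D.neg (D.simple j)) f = 0 := by rw [g.neg_eq _ hs, h0']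
    have hlt : D.neg (D.simple j) < D.nroots := by rw [g.neg_eq _ hs]; exact g.neg_lt _ hs
    constructor
    · rw [nS, nG]; exact hmul (hmul (hx _ hs h0 _) (hx _ hlt h0'' _)) (hx _ hs h0 _)
    · rw [nS, nG, _root_.mul_inv_rev, _root_.mul_inv_rev, xG_inv, xG_inv]
      exact hmul (hx _ hs h0 _) (hmul (hx _ hlt h0'' _) (hx _ hs h0 _))
  rw [parabolic_eq g, ← Subgroup.closure_eq (D.borelSubgroup F), ← Subgroup.closure_union] at hy
  induction hy using Subgroup.closure_induction_left with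
  | one => simpa using lo_one (A := A) f
  | mul_left a ha b _ ih =>
    rcases ha with ha | ⟨j, hjJ, hj, rfl⟩
    · exact hmul (borel_lo g hf ha) ih
    · exact hmul (hnS j hjJ hj).1 ih
  | inv_mul_cancel a ha b _ ih =>
    rcases ha with ha | ⟨j, hjJ, hj, rfl⟩
    · exact hmul (borel_lo g hf (inv_mem ha)) ih
    · exact hmul (hnS j hjJ hj).2 ih

/-- the opposite radical meets the parabolic subgroup trivially -/
theorem negOut_inf_parabolic (h : Std D A) {J : Set ℕ} {P : ℕ → Prop}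
    (hP : ∀ r, P r → r < D.nroots ∧ D.IsNegRoot r ∧ ∃ l < D.rank, l ∉ J ∧ A.a r l ≠ 0)
    {z : GL D.Idx F} (hz : z ∈ UP F h.good P) (hzJ : z ∈ D.parabolicSubgroup F J) : z = 1 := by
  classical
  have g := h.good
  set f : Fin D.rank → ℝ := fun j => if j.val ∈ J then 0 else 1 with hf
  have hlo : Lo A f 0 (z : Matrix D.Idx D.Idx F) :=
    parabolic_lo h (fun j => by simp only [hf]; split <;> norm_num) (fun i hi hiJ => by simp [hf, hiJ]) hzJ
  have hT : T1 A (fun j => -f j) z := by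
    refine T1_of_mem_UP g (fun r hr => ?_) hz
    obtain ⟨h1, h2, l, hl, hlJ, hl0⟩ := hP r hr
    refine ⟨h1, ?_⟩
    have hneg := (g.negRoot_iff r h1).1 h2
    have hterm : ∀ j : Fin D.rank, 0 ≤ (A.a r j : ℝ) * -f j := fun j =>
      mul_nonneg_of_nonpos_of_nonpos (by exact_mod_cast hneg j)
        (by simp only [hf]; split <;> norm_num)
    refine le_trans ?_ (Finset.single_le_sum (fun j _ => hterm j) (Finset.mem_univ (⟨l, hl⟩ : Fin D.rank)))
    have : A.a r l ≤ -1 := by have := hneg l; omega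
    simp only [hf, if_neg hlJ, mul_neg, mul_one]
    have : (A.a r l : ℝ) ≤ -1 := by exact_mod_cast this
    linarith
  apply Units.ext
  ext u v
  by_contra hne
  have hne' : ((z : Matrix D.Idx D.Idx F) - 1) u v ≠ 0 := by
    rw [Matrix.sub_apply, sub_ne_zero]; simpa using hne
  have hw : ∀ x, wR D A (fun j => -f j) x = - wR D A f x := by
    intro x; cases x <;> simp [wR, evR, ← Finset.sum_neg_distrib]
  have h1 := hT u v hne'
  rw [hw, hw] at h1
  by_cases e : u = v
  · subst e; linarith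
  · have h2 := hlo u v (by simpa [Matrix.one_apply_ne e] using hne)
    linarith

/-- rational cosets of parabolic subgroups have rational representatives -/
theorem rat_coset (h : Std D A) (σ : F →+* F) {J : Set ℕ} {k : GL D.Idx F} (hk : k ∈ D.group F)
    (hσk : k⁻¹ * Matrix.GeneralLinearGroup.map σ k ∈ D.parabolicSubgroup F J) :
    ∃ m ∈ ratG h.good σ, m⁻¹ * k ∈ D.parabolicSubgroup F J := by
  classical
  have g := h.good
  -- a monomial factor of least length
  let Q : ℕ → Prop := fun c => ∃ b ∈ D.borelSubgroup F, ∃ n ∈ D.monomialSubgroup F, ∃ τ,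
    Acts g n τ ∧ n⁻¹ * b⁻¹ * k ∈ D.parabolicSubgroup F J ∧
      ((Finset.range D.nroots).filter fun r => D.IsPosRoot r ∧ ¬ D.IsPosRoot (τ r)).card = c
  have hQ : ∃ c, Q c := by
    obtain ⟨b, hb, n, hn, τ, hτ, v, hv, e⟩ := normal_form_exists h hk
    refine ⟨_, b, hb, n, hn, τ, hτ, ?_, rfl⟩
    rw [e, show n⁻¹ * b⁻¹ * (b * n * v) = v by group]
    exact borel_le_parabolic J (pos_le_borel (UP_toNeg_le g τ hv))
  obtain ⟨b, hb, n, hn, τ, hτ, hP, hc⟩ := Nat.find_spec hQ
  have hJpos : ∀ j ∈ J, j < D.rank → D.IsPosRoot (τ (D.simple j)) := by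
    intro j hjJ hj
    by_contra hneg
    refine Nat.find_min hQ ?_ ⟨b, hb, n * nS F g j, mul_mem hn (nS_mem_monomial g hj), τ ∘ A.refl j,
      hτ.mul (acts_nS g hj), ?_, rfl⟩
    · rw [← hc]
      refine card_refl_lt g hj (σ := τ) (fun r => ¬ D.IsPosRoot r) hneg (not_not.2 ?_)
      rw [hτ.map.map_neg g (g.simple_lt j hj)]
      rcases pos_or_pos_neg g (hτ.map.1 _ (g.simple_lt j hj)) with hp | hp
      · exact absurd hp hneg
      · exact hp
    · rw [show (n * nS F g j)⁻¹ * b⁻¹ * k = (nS F g j)⁻¹ * (n⁻¹ * b⁻¹ * k) by group]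
      exact mul_mem (inv_mem (nS_mem_parabolic g hj hjJ)) hP
  obtain ⟨w, hw, c, rfl⟩ := monomial_exists_word g hn
  obtain ⟨u0, hu0, d, rfl⟩ := (mem_borel_iff g).1 hb
  -- absorb the diagonal factors
  obtain ⟨τ', hτ'⟩ := exists_acts g (inv_mem (nW_mem (F := F) g hw))
  have hid : Acts g (1 : GL D.Idx F) id := by simpa using acts_tor (F := F) g 1
  have hwτ : ∀ r < D.nroots, τ r = wf A w r := fun r hr =>
    hτ.unique ((acts_tor g c).mul (nW_acts g hw)) hr
  have hinv : ∀ r < D.nroots, wf A w (τ' r) = r := fun r hr => by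
    have h1 := (nW_acts (F := F) g hw).mul hτ'
    rw [mul_inv_cancel] at h1
    exact h1.unique hid hr
  obtain ⟨d', hd'⟩ := monomial_conj_tor g (inv_mem (nW_mem (F := F) g hw)) (d * c)
  rw [inv_inv] at hd'
  have hu0' : u0 ∈ UL F g D.posRoots := by rwa [UL_posRoots g]
  -- split off what moves into the parabolic subgroup
  obtain ⟨a0, ha0, q0, hq0, epq⟩ := pos_split h τ' hτ'.map.1 upList_posRoots
    (inv_mem hu0')
  have ha0' : (nW F g w)⁻¹ * a0 * ((nW F g w)⁻¹)⁻¹ ∈ D.borelSubgroup F :=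
    conj_UP_le hτ' (fun r hr => hr.1.1) (fun r t hr => xG_mem_borel g hr.2 t) ha0
  set u := q0⁻¹ with hu
  have hP' : (nW F g w)⁻¹ * u⁻¹ * k ∈ D.parabolicSubgroup F J := by
    have h1 := mul_mem (mul_mem (borel_le_parabolic J (inv_mem ha0'))
      (borel_le_parabolic J (tor_mem_borel g d'))) hP
    rwa [show ((nW F g w)⁻¹ * a0 * ((nW F g w)⁻¹)⁻¹)⁻¹ * tor D A d' *
        ((tor D A c * nW F g w)⁻¹ * (u0 * tor D A d)⁻¹ * k) = (nW F g w)⁻¹ * u⁻¹ * k by
      rw [← hd', map_mul, hu, inv_inv, show q0 = a0⁻¹ * u0⁻¹ by rw [epq]; group]; group] at h1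
  have huU : u ∈ D.posUnipotent F := inv_mem (UP_toNeg_le g τ' hq0)
  have huσ : Matrix.GeneralLinearGroup.map σ u = u := by
    have hσu : Matrix.GeneralLinearGroup.map σ u ∈ UP F g (toNeg D τ') :=
      UP_map_le g σ (toNeg D τ') ⟨u, inv_mem hq0, rfl⟩
    have hrat := ratG_le_fixG g σ (nW_mem_ratG g σ w)
    have hmem : u⁻¹ * Matrix.GeneralLinearGroup.map σ u ∈ UP F g (toNeg D τ') := mul_mem hq0 hσu |> fun h' => by
      rwa [hu, inv_inv]
    have hz : (nW F g w)⁻¹ * (u⁻¹ * Matrix.GeneralLinearGroup.map σ u) * ((nW F g w)⁻¹)⁻¹ ∈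
        UP F g (fun r => r < D.nroots ∧ D.IsNegRoot r ∧ ∃ l < D.rank, l ∉ J ∧ A.a r l ≠ 0) := by
      refine conj_UP_le hτ' (fun r hr => hr.1.1) (fun r t hr => xG_mem_UP g
        (P := fun r => r < D.nroots ∧ D.IsNegRoot r ∧ ∃ l < D.rank, l ∉ J ∧ A.a r l ≠ 0) ?_ t) hmem
      have hlt := hτ'.map.1 r hr.1.1
      refine ⟨hlt, hr.2, ?_⟩
      by_contra hall
      push Not at hall
      -- such a root would keep its sign
      have hp : D.IsPosRoot (A.neg (τ' r)) := by
        rcases pos_or_pos_neg g hlt with hp | hp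
        · exact absurd ((g.negRoot_iff _ hlt).1 hr.2) fun hn' => by
            obtain ⟨l, hl⟩ : ∃ l : Fin D.rank, A.a (τ' r) l ≠ 0 := by
              by_contra hcon
              push Not at hcon
              refine g.neg_ne _ hlt (g.a_inj _ (g.neg_lt _ hlt) _ hlt fun j hj => ?_)
              rw [g.a_neg _ hlt, hcon ⟨j, hj⟩, neg_zero]
            have h2 := (g.pos_iff _ hlt).1 hp l.val
            have h3 := hn' l.val
            omega
        · exact hp
      have hn0 := g.neg_lt _ hlt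
      have hpos : D.IsPosRoot (τ (A.neg (τ' r))) := by
        refine (g.pos_iff _ (hτ.map.1 _ hn0)).2 fun l => ?_
        by_cases hl : l < D.rank
        · rw [simple_eq_sum g hτ.map hn0 l hl]
          refine Finset.sum_nonneg fun i hi => ?_
          have hi' := Finset.mem_range.1 hi
          by_cases hiJ : i ∈ J
          · exact mul_nonneg ((g.pos_iff _ hn0).1 hp i) ((g.pos_iff _ (hJpos i hiJ hi').1).1 (hJpos i hiJ hi') l)
          · rw [g.a_neg _ hlt, hall i hi' hiJ]; simp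
        · rw [g.a_zero _ (hτ.map.1 _ hn0) l (not_lt.1 hl)]
      rw [hτ.map.map_neg g hlt, hwτ _ hlt, hinv r hr.1.1] at hpos
      exact not_pos_neg g hr.1 hpos
    have hz1 := negOut_inf_parabolic h (J := J) (P := fun r => r < D.nroots ∧ D.IsNegRoot r ∧ ∃ l < D.rank, l ∉ J ∧ A.a r l ≠ 0) (fun r hr => hr) hz (by
      have h1 : Matrix.GeneralLinearGroup.map σ ((nW F g w)⁻¹ * u⁻¹ * k) ∈ D.parabolicSubgroup F J := by
        rw [parabolic_eq g] at hP' ⊢
        refine Subgroup.mem_comap.1 ((Subgroup.map_le_iff_le_comap (f := Matrix.GeneralLinearGroup.map σ)).1 ?_ hP')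
        rw [Subgroup.map_sup, MonoidHom.map_closure]
        refine sup_le (le_trans ?_ le_sup_left) (le_trans ((Subgroup.closure_le _).2 ?_) le_sup_right)
        · rintro _ ⟨z, hz, rfl⟩
          obtain ⟨z1, hz1, z2, rfl⟩ := (mem_borel_iff g).1 hz
          rw [map_mul, map_tor]
          refine mul_mem (pos_le_borel ?_) (tor_mem_borel g _)
          rw [posUnipotent_eq g] at hz1 ⊢
          exact UP_map_le g σ _ ⟨z1, hz1, rfl⟩
        · rintro _ ⟨_, ⟨j, hjJ, hj, rfl⟩, rfl⟩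
          exact Subgroup.subset_closure ⟨j, hjJ, hj, map_nS g σ j⟩
      rw [show (nW F g w)⁻¹ * (u⁻¹ * Matrix.GeneralLinearGroup.map σ u) * ((nW F g w)⁻¹)⁻¹ =
        ((nW F g w)⁻¹ * u⁻¹ * k) * (k⁻¹ * Matrix.GeneralLinearGroup.map σ k) *
          (Matrix.GeneralLinearGroup.map σ ((nW F g w)⁻¹ * u⁻¹ * k))⁻¹ by
        rw [map_mul, map_mul, map_inv, map_inv, mem_fixG.1 hrat]; simp only [hu, map_inv]; group]
      exact mul_mem (mul_mem hP' hσk) (inv_mem h1))
    have h2 : u⁻¹ * Matrix.GeneralLinearGroup.map σ u = 1 := by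
      calc u⁻¹ * Matrix.GeneralLinearGroup.map σ u = nW F g w * ((nW F g w)⁻¹ *
            (u⁻¹ * Matrix.GeneralLinearGroup.map σ u) * ((nW F g w)⁻¹)⁻¹) * (nW F g w)⁻¹ := by group
        _ = 1 := by rw [hz1]; group
    exact (inv_mul_eq_one.1 h2).symm
  refine ⟨u * nW F g w, mul_mem (pos_fix_mem_rat h σ huU huσ) (nW_mem_ratG g σ w), ?_⟩
  rwa [_root_.mul_inv_rev]

/-! ### Centralisers of unipotent elements -/

/-- centralisers of rational unipotent elements are rational -/
theorem cent_fix [Fintype F] {p : ℕ} [Fact p.Prime] [CharP F p] {hP : Para D A} {σ : F →+* F}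
    {H : Subgroup (GL D.Idx F)} {sh : List ℕ} (C : Ctx hP σ H sh) (T : TopFix hP σ H)
    {t : GL D.Idx F} (htU : t ∈ D.posUnipotent F) (ht1 : t ≠ 1)
    (htσ : Matrix.GeneralLinearGroup.map σ t = t) {y : GL D.Idx F} (hy : y ∈ H) (hc : Commute y t) :
    Matrix.GeneralLinearGroup.map σ y = y := by
  classical
  haveI : Finite (GL D.Idx F) := finite_GL
  have h := hP.std
  have g := h.good
  set P₀ : Subgroup (GL D.Idx F) := Subgroup.zpowers t
  have htG : t ∈ D.group F := posUnipotent_le_group g htU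
  set x₀ : Fin D.rank → ℝ := fun _ => 1
  have hc₀ : Cand A P₀ (1 : GL D.Idx F) x₀ := by
    refine ⟨fun _ => zero_le_one, fun z hz => ?_⟩
    have hzU : z ∈ D.posUnipotent F := (Subgroup.zpowers_le.2 htU) hz
    rw [inv_one, one_mul, mul_one]
    refine ⟨hzU, T1_of_mem_UP g (P := fun r => D.IsPosRoot r) (fun r hr => ⟨hr.1, ?_⟩)
      (by rwa [posUnipotent_eq g] at hzU)⟩
    have h1 := (g.pos_iff r hr.1).1 hr
    obtain ⟨j, hj⟩ : ∃ j : Fin D.rank, A.a r j ≠ 0 := by
      by_contra hcon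
      push Not at hcon
      refine g.neg_ne r hr.1 (g.a_inj _ (g.neg_lt r hr.1) r hr.1 fun j hj => ?_)
      rw [g.a_neg r hr.1, hcon ⟨j, hj⟩, neg_zero]
    have h2 : (1 : ℝ) ≤ A.a r j := by
      have := h1 j.val
      exact_mod_cast (show (1 : ℤ) ≤ A.a r j.val by omega)
    simp only [evR, x₀, mul_one]
    exact h2.trans (Finset.single_le_sum (f := fun j : Fin D.rank => (A.a r j : ℝ))
      (fun k _ => by exact_mod_cast h1 k.val) (Finset.mem_univ j))
  set Λ : Set (Fin D.rank → ℝ) := ⋃ k : ↥(D.group F), {x | Cand A P₀ (k : GL D.Idx F) x}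
  have hΛ : IsClosed Λ := isClosed_iUnion_of_finite fun k => isClosed_cand P₀ _
  have hq : Continuous (qR D A) := by unfold qR evR; fun_prop
  have hqx : ∀ (x : Fin D.rank → ℝ) (j : Fin D.rank), x j ^ 2 ≤ qR D A x := fun x j => by
    have hs := simple_pos g j.isLt
    have := Finset.single_le_sum (f := fun r => evR D A r x ^ 2) (fun r _ => sq_nonneg _)
      (Finset.mem_range.2 hs.1)
    rwa [evR_simple g j.isLt] at this
  set K := Λ ∩ {x | qR D A x ≤ qR D A x₀}
  have hKc : IsCompact K := by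
    refine Metric.isCompact_of_isClosed_isBounded (hΛ.inter (isClosed_le hq continuous_const)) ?_
    refine (Metric.isBounded_closedBall (x := (0 : Fin D.rank → ℝ))
      (r := Real.sqrt (qR D A x₀))).subset fun x hx => ?_
    rw [mem_closedBall_zero_iff, pi_norm_le_iff_of_nonneg (Real.sqrt_nonneg _)]
    intro j
    rw [Real.norm_eq_abs]
    exact Real.abs_le_sqrt ((hqx x j).trans hx.2)
  have hx₀K : x₀ ∈ K := ⟨Set.mem_iUnion.2 ⟨⟨1, one_mem _⟩, hc₀⟩, le_refl (qR D A x₀)⟩
  obtain ⟨x, hxK, hmin'⟩ := hKc.exists_isMinOn ⟨x₀, hx₀K⟩ hq.continuousOn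
  have hmin : ∀ k ∈ D.group F, ∀ x', Cand A P₀ k x' → qR D A x ≤ qR D A x' := by
    intro k hk x' hx'
    by_cases hle' : qR D A x' ≤ qR D A x₀
    · exact hmin' ⟨Set.mem_iUnion.2 ⟨⟨k, hk⟩, hx'⟩, hle'⟩
    · exact hxK.2.trans (not_le.1 hle').le
  obtain ⟨⟨k, hk⟩, hck⟩ := Set.mem_iUnion.1 hxK.1
  have hck : Cand A P₀ k x := hck
  set J : Set ℕ := {i | ∃ hi : i < D.rank, x ⟨i, hi⟩ = 0}
  obtain ⟨i0, hi0, hi0J⟩ : ∃ i, i < D.rank ∧ i ∉ J := by
    by_contra hall
    push Not at hall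
    obtain ⟨hzU, hzT⟩ := hck.2 t (Subgroup.mem_zpowers t)
    refine ht1 ?_
    have h1 : k⁻¹ * t * k = 1 := by
      have h2 := mem_UP_of_T1 h hzU hzT hzT
      rw [← Subgroup.mem_bot]
      refine UP_le (fun r t' hr => ?_) h2
      exfalso
      have h0 : evR D A r x = 0 := Finset.sum_eq_zero fun j _ => by
        obtain ⟨hj, e⟩ := hall j.val j.isLt
        rw [show x j = 0 from e, mul_zero]
      linarith [hr.2.1]
    calc t = k * (k⁻¹ * t * k) * k⁻¹ := by group
      _ = _ := by rw [h1]; group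
  have hJ : ∀ (i : ℕ) (hi : i < D.rank), x ⟨i, hi⟩ = 0 → i ∈ J := fun i hi e => ⟨hi, e⟩
  have hPy : k⁻¹ * (y * k) ∈ D.parabolicSubgroup F J := by
    refine mem_parabolic_of_cand h hJ hmin hk (mul_mem (C.S.le hy) hk) hck ⟨hck.1, fun z hz => ?_⟩
    obtain ⟨j, rfl⟩ := hz
    rw [show (y * k)⁻¹ * t ^ j * (y * k) = k⁻¹ * (y⁻¹ * (t ^ j * y)) * k by group,
      ← (hc.zpow_right j).eq, inv_mul_cancel_left]
    exact hck.2 _ ⟨j, rfl⟩
  have hPσ : k⁻¹ * Matrix.GeneralLinearGroup.map σ k ∈ D.parabolicSubgroup F J := by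
    refine mem_parabolic_of_cand h hJ hmin hk (group_map_le g σ ⟨k, hk, rfl⟩) hck
      ⟨hck.1, fun z hz => ?_⟩
    obtain ⟨hzU, hzT⟩ := hck.2 z hz
    have ez : Matrix.GeneralLinearGroup.map σ z = z := by
      obtain ⟨j, rfl⟩ := hz
      rw [map_zpow, htσ]
    rw [show (Matrix.GeneralLinearGroup.map σ k)⁻¹ * z * Matrix.GeneralLinearGroup.map σ k =
      Matrix.GeneralLinearGroup.map σ (k⁻¹ * z * k) by rw [map_mul, map_mul, map_inv, ez]]
    refine ⟨?_, fun u v hne => hzT u v fun h0 => hne ?_⟩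
    · rw [posUnipotent_eq g] at hzU ⊢
      exact UP_map_le g σ _ ⟨_, hzU, rfl⟩
    · rw [Matrix.sub_apply] at h0 ⊢
      change σ ((k⁻¹ * z * k : GL D.Idx F).val u v) - _ = 0
      rw [show ((1 : Matrix D.Idx D.Idx F) u v) = σ ((1 : Matrix D.Idx D.Idx F) u v) by
        rw [Matrix.one_apply]; split <;> simp, ← map_sub, h0, map_zero]
  obtain ⟨m, hm, hmk⟩ := rat_coset h σ hk hPσ
  have hy'H : m⁻¹ * y * m ∈ H := mul_mem (mul_mem (inv_mem (C.S.rat_le hm)) hy) (C.S.rat_le hm)
  have hy'P : m⁻¹ * y * m ∈ D.parabolicSubgroup F J := by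
    rw [show m⁻¹ * y * m = (m⁻¹ * k) * (k⁻¹ * (y * k)) * (m⁻¹ * k)⁻¹ by group]
    exact mul_mem (mul_mem hmk hPy) (inv_mem hmk)
  have hfix := rat_of_parabolic C T hi0 hi0J hy'H hy'P
  have hmfix : Matrix.GeneralLinearGroup.map σ m = m := ratG_le_fixG g σ hm
  rw [map_mul, map_mul, map_inv, hmfix] at hfix
  calc Matrix.GeneralLinearGroup.map σ y
      = m * (m⁻¹ * Matrix.GeneralLinearGroup.map σ y * m) * m⁻¹ := by group
    _ = _ := by rw [hfix]; group

end CfsgLib.Chev.Subfield
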