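import Cfsg.Agent.Lib.Chev.Subfield.Data

/-!
In a finite subgroup containing the root elements with parameter `1`, all roots carry the same field of
parameters.
-/

set_option autoImplicit false
set_option linter.style.haveILetI false

namespace CfsgLib.Chev.Subfield

open Cfsg.Lie

variable {D : ChevalleyDatum} {A : Aux} {F : Type*} [Field F]

/-- a finite additive subgroup closed under products that contains `1` is a subfield -/
theorem exists_subfield (S : AddSubgroup F) [Finite S] (h1 : (1 : F) ∈ S)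
    (hm : ∀ a b, a ∈ S → b ∈ S → a * b ∈ S) : ∃ E : Subfield F, ∀ t, t ∈ E ↔ t ∈ S := by
  refine ⟨{ carrier := S, mul_mem' := fun {a b} ha hb => hm a b ha hb, one_mem' := h1,
            add_mem' := fun {a b} ha hb => S.add_mem ha hb, zero_mem' := S.zero_mem,
            neg_mem' := fun {a} ha => S.neg_mem ha, inv_mem' := fun a ha => ?_ }, fun t => Iff.rfl⟩
  rcases eq_or_ne a 0 with rfl | ha0
  · simp
  obtain ⟨b, hb⟩ := (Finite.injective_iff_surjective (f := fun x : S => (⟨a * x.1, hm _ _ ha x.2⟩ : S))).1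
    (fun x y e => Subtype.ext (mul_left_cancel₀ ha0 (congrArg Subtype.val e))) ⟨1, h1⟩
  have e := congrArg Subtype.val hb
  simp only at e
  rw [inv_eq_of_mul_eq_one_right e]
  exact b.2

theorem mem_of_two_mul {p : ℕ} [CharP F p] (hp : Odd p) (S : AddSubgroup F) {x : F}
    (hx : 2 * x ∈ S) : x ∈ S := by
  obtain ⟨k, hk⟩ := hp
  have h := S.nsmul_mem hx (k + 1)
  rw [nsmul_eq_mul, ← mul_assoc, show ((k + 1 : ℕ) : F) * 2 = ((2 * k + 1 : ℕ) : F) + 1 by push_cast; ring,
    ← hk, CharP.cast_eq_zero, zero_add, one_mul] at h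
  exact h

/-- all long roots share their parameters -/
theorem lam_long (h : Std D A) {sh : List ℕ} (L : LongFacts D A sh) {H : Subgroup (GL D.Idx F)}
    (U : Units1 h.good H) {r : ℕ} (hr : r < D.nroots) (hs : r ∉ sh) :
    lam h.good H r = lam h.good H (top D) := by
  obtain ⟨w, hw, e⟩ := exists_word_top h L hr hs
  rw [← e, lam_wf U hw (top_lt L)]

variable (D A) in
/-- two long roots with a long sum -/
noncomputable def tripleCheck (r s u : ℕ) : Bool :=
  decide (r < D.nroots ∧ s < D.nroots ∧ u < D.nroots ∧ s ≠ r ∧ s ≠ A.neg r ∧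
    (A.terms r s = [(u, 1, 1, 1)] ∨ A.terms r s = [(u, -1, 1, 1)]))

theorem long_mul (h : Std D A) {sh : List ℕ} (L : LongFacts D A sh) {H : Subgroup (GL D.Idx F)}
    (U : Units1 h.good H) {r s u : ℕ} (hT : tripleCheck D A r s u = true) (hr' : r ∉ sh)
    (hs' : s ∉ sh) (hu' : u ∉ sh) {a b : F} (ha : a ∈ lam h.good H (top D))
    (hb : b ∈ lam h.good H (top D)) : a * b ∈ lam h.good H (top D) := by
  simp only [tripleCheck, decide_eq_true_eq] at hT
  obtain ⟨hr, hs, hu, h1, h2, h3⟩ := hT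
  rw [← lam_long h L U hu hu']
  rcases h3 with h3 | h3
  · exact lam_mul h hr hs h1 h2 h3 (Or.inl rfl) (by rwa [lam_long h L U hr hr'])
      (by rwa [lam_long h L U hs hs'])
  · exact lam_mul h hr hs h1 h2 h3 (Or.inr rfl) (by rwa [lam_long h L U hr hr'])
      (by rwa [lam_long h L U hs hs'])

/-! ### Two root lengths, ratio two -/

variable (D A) in
/-- a subsystem of type `B₂` on two fundamental roots: `a` long, `b` short, `c = a + b`, `d = a + 2b` -/
noncomputable def blkCheck (ia ib a b c d : ℕ) : Bool :=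
  decide (ia < D.rank ∧ ib < D.rank ∧ a < D.nroots ∧ b < D.nroots ∧ c < D.nroots ∧ d < D.nroots ∧
    D.simple ia = a ∧ D.simple ib = b ∧
    (b ≠ a ∧ b ≠ A.neg a ∧ b ≠ c ∧ b ≠ A.neg c ∧ d ≠ A.neg a ∧ d ≠ A.neg c ∧ d ≠ A.neg b ∧
      c ≠ A.neg a ∧ c ≠ d)) &&
  decide (A.terms a b = [(c, 1, 1, 1), (d, -1, 1, 2)] ∧ A.terms c b = [(d, -2, 1, 1)] ∧
    A.terms a d = [] ∧ A.terms c d = [] ∧ A.terms b d = [] ∧ A.terms a c = [] ∧
    A.refl ib c = c ∧ A.refl ib d = a ∧ A.refl ia c = b ∧ A.refl ia d = d)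

/-- the pairs of parameters on `c` and `d` -/
def Pr2 (g : Good D A) (H : Subgroup (GL D.Idx F)) (c d : ℕ) (x y : F) : Prop :=
  xG g c x * xG g d y ∈ H

theorem blk_field (h : Std D A) {ia ib a b c d : ℕ} (hB : blkCheck D A ia ib a b c d = true)
    {H : Subgroup (GL D.Idx F)} [Finite H] (U : Units1 h.good H) {p : ℕ} [Fact p.Prime] [CharP F p] :
    lam h.good H b = lam h.good H a ∧
      (∀ x y, x ∈ lam h.good H a → y ∈ lam h.good H a → x * y ∈ lam h.good H a) ∧
      ∀ x y, Pr2 h.good H c d x y → x ∈ lam h.good H a ∧ y ∈ lam h.good H a := by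
  have g := h.good
  simp only [blkCheck, Bool.and_eq_true, decide_eq_true_eq] at hB
  obtain ⟨⟨hia, hib, ha, hb, hc, hd, hsa, hsb, n1, n2, n3, n4, n5, n6, n7, n8, n9⟩,
    t1, t2, t3, t4, t5, t6, r1, r2, r3, r4⟩ := hB
  set LL := lam g H a with hLL
  set SS := lam g H b with hSS
  have eC : lam g H c = SS := by
    have e := lam_refl U hia hc
    rw [r3] at e; exact e.symm
  have eD : lam g H d = LL := by
    have e := lam_refl U hib hd
    rw [r2] at e; exact e.symm
  have cad : ∀ x y : F, Commute (xG g a x) (xG g d y) := commute_xG h ha hd n5 t3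
  have ccd : ∀ x y : F, Commute (xG g c x) (xG g d y) := commute_xG h hc hd n6 t4
  have cbd : ∀ x y : F, Commute (xG g b x) (xG g d y) := commute_xG h hb hd n7 t5
  have cac : ∀ x y : F, Commute (xG g a x) (xG g c y) := commute_xG h ha hc n8 t6
  have hab : ∀ t u : F, xG g b u * xG g a t =
      xG g a t * xG g b u * (xG g c (-(t * u)) * xG g d (t * u ^ 2)) := by
    intro t u
    rw [comm_eq h ha hb n1 n2 t u]
    simp [tword, t1]
  have hcb : ∀ v u : F, xG g b u * xG g c v = xG g c v * xG g b u * xG g d (2 * v * u) := by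
    intro v u
    rw [comm_eq h hc hb n3 n4 v u]
    simp [tword, t2]
  have Padd : ∀ x y x' y', Pr2 g H c d x y → Pr2 g H c d x' y' → Pr2 g H c d (x + x') (y + y') := by
    intro x y x' y' e e'
    show _ ∈ H
    rw [← xG_add, ← xG_add, show xG g c x * xG g c x' * (xG g d y * xG g d y') =
      xG g c x * (xG g c x' * xG g d y) * xG g d y' by group, (ccd x' y).eq,
      show xG g c x * (xG g d y * xG g c x') * xG g d y' =
        (xG g c x * xG g d y) * (xG g c x' * xG g d y') by group]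
    exact mul_mem e e'
  have Pneg : ∀ x y, Pr2 g H c d x y → Pr2 g H c d (-x) (-y) := by
    intro x y e
    show _ ∈ H
    rw [← xG_inv, ← xG_inv, (ccd x y).inv_inv.eq, ← _root_.mul_inv_rev]
    exact inv_mem e
  have P0d : ∀ y, Pr2 g H c d 0 y ↔ y ∈ LL := fun y => by
    rw [Pr2, xG_zero, one_mul, ← eD]; exact Iff.rfl
  have Pc0 : ∀ x, Pr2 g H c d x 0 ↔ x ∈ SS := fun x => by
    rw [Pr2, xG_zero, mul_one, ← eC]; exact Iff.rfl
  have one_L : (1 : F) ∈ LL := U.one_mem a
  have one_S : (1 : F) ∈ SS := U.one_mem b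
  have hP1 : ∀ t u, t ∈ LL → u ∈ SS → Pr2 g H c d (-(t * u)) (t * u ^ 2) := by
    intro t u ht hu
    show _ ∈ H
    rw [show xG g c (-(t * u)) * xG g d (t * u ^ 2) = (xG g a t * xG g b u)⁻¹ * (xG g b u * xG g a t) by
      rw [hab]; group]
    exact mul_mem (inv_mem (mul_mem ht hu)) (mul_mem hu ht)
  haveI : Finite LL := lam_finite h H ha
  haveI : Finite SS := lam_finite h H hb
  by_cases hp2 : p = 2
  swap
  · have hodd : Odd p := (Fact.out : p.Prime).odd_of_ne_two hp2
    have h1 : ∀ t u, t ∈ LL → u ∈ SS → t * u ^ 2 ∈ LL ∧ t * u ∈ SS := by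
      intro t u ht hu
      have e := Padd _ _ _ _ (hP1 t u ht hu) (hP1 t (-u) ht (SS.neg_mem hu))
      rw [mul_neg, neg_neg, neg_add_cancel, neg_sq, P0d, ← two_mul] at e
      have e2 := mem_of_two_mul hodd LL e
      have e3 := Padd _ _ _ _ (hP1 t (-u) ht (SS.neg_mem hu)) (Pneg _ _ ((P0d _).2 e2))
      rw [mul_neg, neg_neg, neg_zero, add_zero, neg_sq, add_neg_cancel, Pc0] at e3
      exact ⟨e2, e3⟩
    have h2 : ∀ v u, v ∈ SS → u ∈ SS → v * u ∈ LL := by
      intro v u hv hu
      refine mem_of_two_mul hodd LL ?_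
      rw [← mul_assoc, ← eD]
      show _ ∈ H
      rw [show xG g d (2 * v * u) = (xG g c v * xG g b u)⁻¹ * (xG g b u * xG g c v) by rw [hcb]; group]
      have hv' : xG g c v ∈ H := by rw [← eC] at hv; exact hv
      exact mul_mem (inv_mem (mul_mem hv' hu)) (mul_mem hu hv')
    have hLS : SS = LL := le_antisymm (fun u hu => by simpa using h2 u 1 hu one_S)
      fun t ht => by simpa using (h1 t 1 ht one_S).2
    refine ⟨hLS, fun x y hx hy => h2 x y (hLS ▸ hx) (hLS ▸ hy), fun x y e => ?_⟩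
    have hx : x ∈ LL := by
      refine mem_of_two_mul hodd LL ?_
      rw [← eD]
      show _ ∈ H
      rw [show xG g d (2 * x) = (xG g c x * xG g d y * xG g b 1)⁻¹ * (xG g b 1 * (xG g c x * xG g d y)) by
        rw [← mul_assoc (xG g b 1), hcb x 1, mul_one,
          show xG g c x * xG g b 1 * xG g d (2 * x) * xG g d y =
            xG g c x * xG g b 1 * (xG g d (2 * x) * xG g d y) by group, xG_add,
          show xG g c x * xG g d y * xG g b 1 = xG g c x * (xG g d y * xG g b 1) by group,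
          ← (cbd 1 y).eq, add_comm, ← xG_add]
        group]
      exact mul_mem (inv_mem (mul_mem e (U.one_mem b))) (mul_mem (U.one_mem b) e)
    refine ⟨hx, ?_⟩
    have := Padd _ _ _ _ e (Pneg _ _ ((Pc0 x).2 (hLS ▸ hx)))
    rwa [add_neg_cancel, neg_zero, add_zero, P0d] at this
  subst hp2
  have two0 : (2 : F) = 0 := CharP.cast_eq_zero F 2
  have ns : ∀ z : F, -z = z := fun z => CharTwo.neg_eq z
  have cbc : ∀ x y : F, Commute (xG g b x) (xG g c y) := fun x y => by
    show _ * _ = _ * _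
    rw [hcb y x, two0, zero_mul, zero_mul, xG_zero, mul_one]
  have hT1 : ∀ x y, Pr2 g H c d x y → xG g c x * xG g a y ∈ H := by
    intro x y e
    have m := mul_mem (mul_mem (U.nS_mem ib) e) (inv_mem (U.nS_mem ib))
    rw [show nS F g ib * (xG g c x * xG g d y) * (nS F g ib)⁻¹ = (nS F g ib * xG g c x * (nS F g ib)⁻¹) *
      (nS F g ib * xG g d y * (nS F g ib)⁻¹) by group, nS_conj_xG g hib hc, nS_conj_xG g hib hd, r1, r2] at m
    rcases g.eta_sign ib hib c hc with e1 | e1 <;> rcases g.eta_sign ib hib d hd with e2 | e2 <;>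
      simpa [e1, e2, ns] using m
  have hT2 : ∀ x, Pr2 g H c d x x → xG g b x * xG g d x ∈ H := by
    intro x e
    have m := mul_mem (mul_mem (U.nS_mem ia) e) (inv_mem (U.nS_mem ia))
    rw [show nS F g ia * (xG g c x * xG g d x) * (nS F g ia)⁻¹ = (nS F g ia * xG g c x * (nS F g ia)⁻¹) *
      (nS F g ia * xG g d x * (nS F g ia)⁻¹) by group, nS_conj_xG g hia hc, nS_conj_xG g hia hd, r3, r4] at m
    rcases g.eta_sign ia hia c hc with e1 | e1 <;> rcases g.eta_sign ia hia d hd with e2 | e2 <;>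
      simpa [e1, e2, ns] using m
  have hdiag : ∀ x y, Pr2 g H c d x y → Pr2 g H c d y y := by
    intro x y e
    have m := hT1 x y e
    have key : xG g b 1 * (xG g c x * xG g a y) = (xG g c x * xG g a y) * xG g b 1 *
        (xG g c y * xG g d y) := by
      rw [← mul_assoc, (cbc 1 x).eq, mul_assoc, hab y 1, mul_one, ns, one_pow, mul_one]; group
    show _ ∈ H
    rw [show xG g c y * xG g d y = ((xG g c x * xG g a y) * xG g b 1)⁻¹ *
      (xG g b 1 * (xG g c x * xG g a y)) by rw [key]; group]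
    exact mul_mem (inv_mem (mul_mem m (U.one_mem b))) (mul_mem (U.one_mem b) m)
  set TT : Set F := {y | ∃ x, Pr2 g H c d x y} with hTT
  have hprod : ∀ t w, t ∈ TT → w ∈ TT → Pr2 g H c d (t * w) (t * w ^ 2) := by
    rintro t w ⟨x, hx⟩ ⟨x', hx'⟩
    have m1 := hT1 x t hx
    have m2 := hT2 w (hdiag x' w hx')
    have key : xG g b w * xG g d w * (xG g c x * xG g a t) = (xG g c x * xG g a t) *
        (xG g b w * xG g d w) * (xG g c (t * w) * xG g d (t * w ^ 2)) := by
      calc xG g b w * xG g d w * (xG g c x * xG g a t)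
          = xG g b w * (xG g d w * xG g c x) * xG g a t := by group
        _ = xG g b w * (xG g c x * xG g d w) * xG g a t := by rw [(ccd x w).eq]
        _ = (xG g b w * xG g c x) * (xG g d w * xG g a t) := by group
        _ = (xG g c x * xG g b w) * (xG g a t * xG g d w) := by rw [(cbc w x).eq, (cad t w).eq]
        _ = xG g c x * (xG g b w * xG g a t) * xG g d w := by group
        _ = xG g c x * (xG g a t * xG g b w * (xG g c (t * w) * xG g d (t * w ^ 2))) * xG g d w := by
          rw [hab, ns]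
        _ = xG g c x * xG g a t * xG g b w * xG g c (t * w) * (xG g d (t * w ^ 2) * xG g d w) := by group
        _ = xG g c x * xG g a t * xG g b w * (xG g c (t * w) * xG g d w) * xG g d (t * w ^ 2) := by
          rw [xG_add, add_comm, ← xG_add]; group
        _ = _ := by rw [(ccd (t * w) w).eq]; group
    show _ ∈ H
    rw [show xG g c (t * w) * xG g d (t * w ^ 2) = ((xG g c x * xG g a t) * (xG g b w * xG g d w))⁻¹ *
      (xG g b w * xG g d w * (xG g c x * xG g a t)) by rw [key]; group]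
    exact mul_mem (inv_mem (mul_mem m1 m2)) (mul_mem m2 m1)
  have L_T : ∀ t, t ∈ LL → t ∈ TT := fun t ht => ⟨0, (P0d t).2 ht⟩
  have L_S : ∀ t, t ∈ LL → t ∈ SS := fun t ht => by
    have e := Padd _ _ _ _ (hP1 t 1 ht one_S) ((P0d t).2 ht)
    rw [add_zero, mul_one, one_pow, mul_one, CharTwo.add_self_eq_zero, ns, Pc0] at e
    exact e
  have sq : ∀ u, u ∈ SS → u ^ 2 ∈ LL := fun u hu => by
    have e := Padd _ _ _ _ (hP1 1 u one_L hu) ((Pc0 u).2 hu)
    rw [one_mul, one_mul, ns, CharTwo.add_self_eq_zero, add_zero, P0d] at e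
    exact e
  have hTadd : ∀ s t, s ∈ TT → t ∈ TT → s + t ∈ TT := fun s t ⟨x, hx⟩ ⟨y, hy⟩ => ⟨x + y, Padd _ _ _ _ hx hy⟩
  let T' : AddSubgroup F :=
    { carrier := TT, zero_mem' := L_T 0 LL.zero_mem, add_mem' := fun {a b} => hTadd a b
      neg_mem' := fun {a} ha => by rwa [ns] }
  have hdia : ∀ t, t ∈ TT → Pr2 g H c d t t := fun t ⟨x, hx⟩ => hdiag x t hx
  haveI : Finite T' := Finite.of_injective
    (fun t : T' => (⟨_, hdia t.1 t.2⟩ : H)) fun s t e => by
      by_contra hne
      have e' : xG g c s.1 * xG g d s.1 = xG g c t.1 * xG g d t.1 := congrArg Subtype.val e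
      have e2 : xG g c (s.1 - t.1) = xG g d (t.1 - s.1) := by
        rw [show s.1 - t.1 = -t.1 + s.1 by ring, show t.1 - s.1 = t.1 + -s.1 by ring, ← xG_add, ← xG_add,
          ← xG_inv, ← xG_inv]
        calc (xG g c t.1)⁻¹ * xG g c s.1 = (xG g c t.1)⁻¹ * (xG g c s.1 * xG g d s.1) * (xG g d s.1)⁻¹ := by
              group
          _ = _ := by rw [e']; group
      have hne' : s.1 - t.1 ≠ 0 := fun e0 => hne (Subtype.ext (sub_eq_zero.1 e0))
      exact n9 (xG_inj_root g hc hd hne' e2)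
  have hsq : ∀ w, w ∈ TT → w ^ 2 ∈ TT := fun w hw => by
    have e := hprod 1 w (L_T 1 one_L) hw
    rw [one_mul, one_mul] at e
    exact ⟨_, e⟩
  have hmulT : ∀ s t, s ∈ TT → t ∈ TT → s * t ∈ TT := by
    intro s t hs ht
    obtain ⟨w, hw⟩ := (Finite.injective_iff_surjective
      (f := fun x : T' => (⟨x.1 ^ 2, hsq _ x.2⟩ : T'))).1
      (fun x y e => Subtype.ext (frobenius_inj F 2 (congrArg Subtype.val e))) ⟨t, ht⟩
    have e := congrArg Subtype.val hw
    simp only at e
    exact ⟨_, e ▸ hprod s w.1 hs w.2⟩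
  obtain ⟨E, hE⟩ := exists_subfield T' (L_T 1 one_L) hmulT
  have hcomb : ∀ s w, s ∈ TT → w ∈ TT → s * (w + w ^ 2) ∈ SS := by
    intro s w hs hw
    have e := Padd _ _ _ _ (hprod s w hs hw) (hdia _ (hmulT _ _ hs (hsq w hw)))
    rw [CharTwo.add_self_eq_zero, Pc0, ← mul_add] at e
    exact e
  have hTL : ∀ y, y ∈ TT → y ∈ LL := by
    intro y hy
    by_cases hbig : ∃ w ∈ TT, w + w ^ 2 ≠ 0
    · obtain ⟨w, hw, hw0⟩ := hbig
      have hz : w + w ^ 2 ∈ E := (hE _).2 (hTadd _ _ hw (hsq w hw))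
      have hyE : y * (w + w ^ 2)⁻¹ ∈ TT := (hE _).1 (mul_mem ((hE y).2 hy) (inv_mem hz))
      have hyS := hcomb _ w hyE hw
      rw [mul_assoc, inv_mul_cancel₀ hw0, mul_one] at hyS
      have e := Padd _ _ _ _ (hdia y hy) ((Pc0 y).2 hyS)
      rw [CharTwo.add_self_eq_zero, add_zero, P0d] at e
      exact e
    · push Not at hbig
      have e := hbig y hy
      rw [show y + y ^ 2 = y * (1 + y) by ring, mul_eq_zero] at e
      rcases e with rfl | e
      · exact LL.zero_mem
      · rw [show y = 1 by rw [← CharTwo.add_eq_zero.1 e]]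
        exact one_L
  have hmulL : ∀ x y, x ∈ LL → y ∈ LL → x * y ∈ LL := fun x y hx hy => hTL _ (hmulT _ _ (L_T x hx) (L_T y hy))
  have hLS : SS = LL := by
    refine le_antisymm (fun u hu => ?_) L_S
    obtain ⟨w, hw⟩ := (Finite.injective_iff_surjective
      (f := fun x : SS => (⟨x.1 ^ 2, L_S _ (sq _ x.2)⟩ : SS))).1
      (fun x y e => Subtype.ext (frobenius_inj F 2 (congrArg Subtype.val e))) ⟨u, hu⟩
    have e := congrArg Subtype.val hw
    simp only at e
    exact e ▸ sq _ w.2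
  refine ⟨hLS, hmulL, fun x y e => ?_⟩
  have hy := hTL y ⟨x, e⟩
  have e2 := Padd _ _ _ _ e ((P0d y).2 hy)
  rw [add_zero, CharTwo.add_self_eq_zero, Pc0] at e2
  exact ⟨hLS ▸ e2, hy⟩

end CfsgLib.Chev.Subfield
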