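import Cfsg.Agent.Lib.Chev.Subfield.Rings

/-!
The parameters of the short and of the long roots of `G₂` agree.
-/

set_option autoImplicit false
set_option linter.style.haveILetI false

namespace CfsgLib.Chev.Subfield

open Cfsg.Lie

variable {F : Type*} [Field F]

theorem g2_field {H : Subgroup (GL chevG2.Idx F)} [Finite H] (U : Units1 stdG2.good H) {p : ℕ}
    [Fact p.Prime] [CharP F p] :
    lam stdG2.good H 7 = lam stdG2.good H 6 ∧
      ∀ x y, x ∈ lam stdG2.good H 6 → y ∈ lam stdG2.good H 6 → x * y ∈ lam stdG2.good H 6 := by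
  have h := stdG2
  have g := h.good
  have lt : ∀ r, r < 12 → r < chevG2.nroots := fun r hr => hr
  have d1 : auxG2.refl 1 8 = 7 ∧ auxG2.refl 0 8 = 9 ∧ auxG2.refl 0 6 = 10 ∧ auxG2.refl 1 10 = 11 ∧
      auxG2.refl 1 9 = 9 := by decide +kernel
  have d2 : auxG2.terms 6 7 = [(8, 1, 1, 1), (9, 1, 1, 2), (10, -1, 1, 3), (11, -2, 2, 3)] ∧
      auxG2.terms 7 8 = [(9, -2, 1, 1), (10, -3, 2, 1), (11, 3, 1, 2)] ∧
      auxG2.terms 6 10 = [(11, 1, 1, 1)] ∧ auxG2.terms 8 9 = [(11, 3, 1, 1)] ∧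
      auxG2.terms 9 10 = [] ∧ auxG2.terms 9 11 = [] ∧ auxG2.terms 10 11 = [] ∧ auxG2.terms 8 10 = [] ∧
      auxG2.terms 8 11 = [] ∧ auxG2.terms 6 9 = [] := by decide +kernel
  have d3 : auxG2.neg 6 = 5 ∧ auxG2.neg 7 = 4 ∧ auxG2.neg 8 = 3 ∧ auxG2.neg 9 = 2 ∧ auxG2.neg 10 = 1 := by
    decide +kernel
  have d4 : chevG2.rank = 2 := by decide +kernel
  obtain ⟨r1, r2, r3, r4, r5⟩ := d1
  obtain ⟨t67, t78, t610, t89, t910, t911, t1011, t810, t811, t69⟩ := d2
  obtain ⟨m6, m7, m8, m9, m10⟩ := d3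
  set LL := lam g H 6 with hLL
  set SS := lam g H 7 with hSS
  have e8 : lam g H 8 = SS := by
    have e := lam_refl U (i := 1) (r := 8) (by omega) (lt 8 (by omega))
    rw [r1] at e; exact e.symm
  have e9 : lam g H 9 = SS := by
    have e := lam_refl U (i := 0) (r := 8) (by omega) (lt 8 (by omega))
    rw [r2] at e; rw [e, e8]
  have e10 : lam g H 10 = LL := by
    have e := lam_refl U (i := 0) (r := 6) (by omega) (lt 6 (by omega))
    rw [r3] at e; exact e
  have e11 : lam g H 11 = LL := by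
    have e := lam_refl U (i := 1) (r := 10) (by omega) (lt 10 (by omega))
    rw [r4] at e; rw [e, e10]
  have one_S : (1 : F) ∈ SS := U.one_mem 7
  have one_L : (1 : F) ∈ LL := U.one_mem 6
  have hmulL : ∀ x y, x ∈ LL → y ∈ LL → x * y ∈ LL := fun x y hx hy => by
    rw [← e11]
    exact lam_mul h (lt 6 (by omega)) (lt 10 (by omega)) (by omega) (by omega) t610 (Or.inl rfl) hx
      (by rw [e10]; exact hy)
  refine ⟨?_, hmulL⟩
  have int_L : ∀ (k : ℤ) x, x ∈ LL → (k : F) * x ∈ LL := fun k x hx => by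
    rw [← zsmul_eq_mul]; exact LL.zsmul_mem hx k
  have long_mem : ∀ x y, x ∈ LL → y ∈ LL → xG g 10 x * xG g 11 y ∈ H := fun x y hx hy =>
    mul_mem (by rw [← e10] at hx; exact hx) (by rw [← e11] at hy; exact hy)
  have c := fun (r s : ℕ) (hr : r < 12) (hs : s < 12) (hn : s ≠ auxG2.neg r)
    (ht : auxG2.terms r s = []) => commute_xG (F := F) h (lt r hr) (lt s hs) hn ht
  have c910 := c 9 10 (by omega) (by omega) (by omega) t910
  have c911 := c 9 11 (by omega) (by omega) (by omega) t911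
  have c1011 := c 10 11 (by omega) (by omega) (by omega) t1011
  have c810 := c 8 10 (by omega) (by omega) (by omega) t810
  have c811 := c 8 11 (by omega) (by omega) (by omega) t811
  have c69 := c 6 9 (by omega) (by omega) (by omega) t69
  have h67 : ∀ t u : F, xG g 7 u * xG g 6 t = xG g 6 t * xG g 7 u *
      (xG g 8 (-(t * u)) * xG g 9 (-(t * u ^ 2)) * (xG g 10 (t * u ^ 3) * xG g 11 (-(2 * t ^ 2 * u ^ 3)))) := by
    intro t u
    rw [comm_eq h (lt 6 (by omega)) (lt 7 (by omega)) (by omega) (by omega) t u]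
    simp [tword, t67, mul_assoc]
  have h78 : ∀ v u : F, xG g 8 u * xG g 7 v = xG g 7 v * xG g 8 u *
      (xG g 9 (2 * v * u) * (xG g 10 (-(3 * v ^ 2 * u)) * xG g 11 (-(3 * v * u ^ 2)))) := by
    intro v u
    rw [comm_eq h (lt 7 (by omega)) (lt 8 (by omega)) (by omega) (by omega) v u]
    simp [tword, t78, mul_assoc]
  have h89 : ∀ x y : F, xG g 9 y * xG g 8 x = xG g 8 x * xG g 9 y * xG g 11 (-(3 * x * y)) := by
    intro x y
    rw [comm_eq h (lt 8 (by omega)) (lt 9 (by omega)) (by omega) (by omega) x y]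
    simp [tword, t89, mul_assoc]
  have hW : ∀ v u, v ∈ SS → u ∈ SS →
      xG g 9 (2 * v * u) * (xG g 10 (-(3 * v ^ 2 * u)) * xG g 11 (-(3 * v * u ^ 2))) ∈ H := by
    intro v u hv hu
    rw [← e8] at hu
    rw [show xG g 9 (2 * v * u) * (xG g 10 (-(3 * v ^ 2 * u)) * xG g 11 (-(3 * v * u ^ 2))) =
      (xG g 7 v * xG g 8 u)⁻¹ * (xG g 8 u * xG g 7 v) by rw [h78]; group]
    exact mul_mem (inv_mem (mul_mem hv hu)) (mul_mem hu hv)
  have hQ : ∀ t u, t ∈ LL → u ∈ SS → xG g 8 (-(t * u)) * xG g 9 (-(t * u ^ 2)) *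
      (xG g 10 (t * u ^ 3) * xG g 11 (-(2 * t ^ 2 * u ^ 3))) ∈ H := by
    intro t u ht hu
    rw [show xG g 8 (-(t * u)) * xG g 9 (-(t * u ^ 2)) *
      (xG g 10 (t * u ^ 3) * xG g 11 (-(2 * t ^ 2 * u ^ 3))) = (xG g 6 t * xG g 7 u)⁻¹ *
        (xG g 7 u * xG g 6 t) by rw [h67]; group]
    exact mul_mem (inv_mem (mul_mem ht hu)) (mul_mem hu ht)
  have hpair : ∀ t, t ∈ LL → xG g 8 (-t) * xG g 9 (-t) ∈ H ∧ xG g 8 t * xG g 9 (-t) ∈ H := by
    intro t ht
    have m1 := hQ t 1 ht one_S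
    have m2 := hQ t (-1) ht (SS.neg_mem one_S)
    simp only [mul_one, one_pow] at m1
    simp only [mul_neg, mul_one, neg_neg, neg_sq, one_pow, Odd.neg_one_pow (by decide : Odd 3)] at m2
    have h2 : (2 : F) * t ^ 2 ∈ LL := by simpa [sq] using int_L 2 _ (hmulL t t ht ht)
    have a1 := long_mem t (-(2 * t ^ 2)) ht (LL.neg_mem h2)
    have a2 := long_mem (-t) (2 * t ^ 2) (LL.neg_mem ht) h2
    refine ⟨?_, ?_⟩
    · simpa [mul_assoc] using mul_mem m1 (inv_mem a1)
    · simpa [mul_assoc] using mul_mem m2 (inv_mem a2)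
  -- the short parameters are long ones
  have hSL : ∀ u, u ∈ SS → u ∈ LL ∨ p = 3 := by
    intro u hu
    by_cases h3 : p = 3
    · exact Or.inr h3
    left
    by_cases h2 : p = 2
    · subst h2
      have two0 : (2 : F) = 0 := CharP.cast_eq_zero F 2
      have m := hW 1 u one_S hu
      rw [mul_one, two0, zero_mul, xG_zero, one_mul, one_pow, mul_one] at m
      have e : xG g 6 1 * (xG g 10 (-(3 * u)) * xG g 11 (-(3 * u ^ 2))) =
          (xG g 10 (-(3 * u)) * xG g 11 (-(3 * u ^ 2))) * xG g 6 1 * xG g 11 (-(3 * u)) := by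
        have e1 := comm_eq (F := F) h (lt 10 (by omega)) (lt 6 (by omega)) (by omega) (by omega) (-(3 * u)) 1
        have t106 : auxG2.terms 10 6 = [(11, -1, 1, 1)] := by decide +kernel
        simp only [tword, t106, List.map_cons, List.map_nil, List.prod_cons, List.prod_nil, mul_one,
          pow_one, Int.cast_neg, Int.cast_one, neg_neg, neg_mul, one_mul] at e1
        have c611 := c 6 11 (by omega) (by omega) (by omega) (by decide +kernel)
        calc xG g 6 1 * (xG g 10 (-(3 * u)) * xG g 11 (-(3 * u ^ 2)))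
            = (xG g 6 1 * xG g 10 (-(3 * u))) * xG g 11 (-(3 * u ^ 2)) := by group
          _ = xG g 10 (-(3 * u)) * xG g 6 1 * (xG g 11 (-(3 * u)) * xG g 11 (-(3 * u ^ 2))) := by
            rw [e1]; group
          _ = xG g 10 (-(3 * u)) * (xG g 6 1 * xG g 11 (-(3 * u ^ 2))) * xG g 11 (-(3 * u)) := by
            rw [xG_add, add_comm, ← xG_add]; group
          _ = _ := by rw [(c611 1 (-(3 * u ^ 2))).eq]; group
      have m' : xG g 11 (-(3 * u)) ∈ H := by
        rw [show xG g 11 (-(3 * u)) = (xG g 10 (-(3 * u)) * xG g 11 (-(3 * u ^ 2)) * xG g 6 1)⁻¹ *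
          (xG g 6 1 * (xG g 10 (-(3 * u)) * xG g 11 (-(3 * u ^ 2)))) by rw [e]; group]
        exact mul_mem (inv_mem (mul_mem m (U.one_mem 6))) (mul_mem (U.one_mem 6) m)
      rw [show -(3 * u) = u by linear_combination (-2 * u) * two0, ← mem_lam, e11] at m'
      exact m'
    · have hodd : Odd p := (Fact.out : p.Prime).odd_of_ne_two h2
      have m := mul_mem (hW u 1 hu one_S) (hW u (-1) hu (SS.neg_mem one_S))
      simp only [mul_one, one_pow, mul_neg, neg_sq, neg_neg] at m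
      rw [show xG g 9 (2 * u) * (xG g 10 (-(3 * u ^ 2)) * xG g 11 (-(3 * u))) *
          (xG g 9 (-(2 * u)) * (xG g 10 (3 * u ^ 2) * xG g 11 (-(3 * u)))) =
          xG g 11 (-(3 * u) + -(3 * u)) by
        calc _ = xG g 9 (2 * u) * xG g 10 (-(3 * u ^ 2)) * (xG g 11 (-(3 * u)) * xG g 9 (-(2 * u))) *
                xG g 10 (3 * u ^ 2) * xG g 11 (-(3 * u)) := by group
          _ = xG g 9 (2 * u) * (xG g 10 (-(3 * u ^ 2)) * xG g 9 (-(2 * u))) *
                (xG g 11 (-(3 * u)) * xG g 10 (3 * u ^ 2)) * xG g 11 (-(3 * u)) := by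
            rw [← (c911 (-(2 * u)) (-(3 * u))).eq]; group
          _ = xG g 9 (2 * u) * xG g 9 (-(2 * u)) * (xG g 10 (-(3 * u ^ 2)) * xG g 10 (3 * u ^ 2)) *
                (xG g 11 (-(3 * u)) * xG g 11 (-(3 * u))) := by
            rw [← (c910 (-(2 * u)) (-(3 * u ^ 2))).eq, ← (c1011 (3 * u ^ 2) (-(3 * u))).eq]; group
          _ = _ := by simp [xG_add, xG_zero]] at m
      rw [← mem_lam, e11, show -(3 * u) + -(3 * u) = -(2 * (3 * u)) by ring] at m
      have m3 : (3 : F) * u ∈ LL := mem_of_two_mul hodd LL (by simpa using LL.neg_mem m)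
      -- `3` is invertible
      have hp3 : ¬ p ∣ 3 := fun hd => h3 ((Nat.prime_dvd_prime_iff_eq Fact.out (by decide)).1 hd)
      obtain ⟨k, m', hk⟩ : ∃ k m' : ℕ, 3 * k = m' * p + 1 := by
        have hne : p % 3 ≠ 0 := fun e => h3 (((Nat.prime_dvd_prime_iff_eq (by decide) Fact.out).1
          (Nat.dvd_of_mod_eq_zero e)).symm)
        rcases (show p % 3 = 1 ∨ p % 3 = 2 by omega) with e | e
        · exact ⟨2 * (p / 3) + 1, 2, by omega⟩
        · exact ⟨p / 3 + 1, 1, by omega⟩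
      have := LL.nsmul_mem m3 k
      rw [nsmul_eq_mul, ← mul_assoc, show ((k : F) * 3) = ((3 * k : ℕ) : F) by push_cast; ring,
        hk, Nat.cast_add, Nat.cast_mul, CharP.cast_eq_zero F p, mul_zero, zero_add, Nat.cast_one, one_mul] at this
      exact this
  -- the long parameters are short ones
  have hLS : ∀ t, t ∈ LL → t ∈ SS := by
    intro t ht
    by_cases h2 : p = 2
    swap
    · have hodd : Odd p := (Fact.out : p.Prime).odd_of_ne_two h2
      have m := mul_mem (hpair t ht).1 (hpair t ht).2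
      rw [show xG g 8 (-t) * xG g 9 (-t) * (xG g 8 t * xG g 9 (-t)) =
          xG g 8 (-t) * (xG g 9 (-t) * xG g 8 t) * xG g 9 (-t) by group, h89,
        show xG g 8 (-t) * (xG g 8 t * xG g 9 (-t) * xG g 11 (-(3 * t * -t))) * xG g 9 (-t) =
          xG g 8 (-t) * xG g 8 t * xG g 9 (-t) * (xG g 11 (-(3 * t * -t)) * xG g 9 (-t)) by group,
        ← (c911 (-t) _).eq, xG_add, neg_add_cancel, xG_zero, one_mul, ← mul_assoc, xG_add] at m
      have h3t : -(3 * t * -t) ∈ LL := by
        simpa [mul_assoc] using int_L 3 _ (hmulL t t ht ht)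
      rw [← e11] at h3t
      have m9 := mul_mem m (inv_mem h3t)
      rw [mul_inv_cancel_right, ← mem_lam, e9, show -t + -t = -(2 * t) by ring] at m9
      exact mem_of_two_mul hodd SS (by simpa using SS.neg_mem m9)
    subst h2
    have ns : ∀ z : F, -z = z := fun z => CharTwo.neg_eq z
    haveI : Finite LL := lam_finite h H (lt 6 (by omega))
    obtain ⟨E, hE⟩ := exists_subfield LL one_L hmulL
    have hcomb : ∀ t s, t ∈ LL → s ∈ LL → t * (s + s ^ 2) ∈ SS := by
      intro t s ht hs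
      have hts2 : t * s ^ 2 ∈ LL := by rw [sq]; exact hmulL _ _ ht (hmulL _ _ hs hs)
      -- the conjugate pair at `7, 9`
      have m2 : xG g 7 s * xG g 9 s ∈ H := by
        have m := (hpair s hs).1
        rw [ns] at m
        have m' := mul_mem (mul_mem (U.nS_mem 1) m) (inv_mem (U.nS_mem 1))
        rw [show nS F g 1 * (xG g 8 s * xG g 9 s) * (nS F g 1)⁻¹ = (nS F g 1 * xG g 8 s * (nS F g 1)⁻¹) *
          (nS F g 1 * xG g 9 s * (nS F g 1)⁻¹) by group,
          nS_conj_xG g (by omega) (lt 8 (by omega)), nS_conj_xG g (by omega) (lt 9 (by omega)), r1, r5] at m'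
        rcases g.eta_sign 1 (by omega) 8 (lt 8 (by omega)) with e1 | e1 <;>
          rcases g.eta_sign 1 (by omega) 9 (lt 9 (by omega)) with e2 | e2 <;> simpa [e1, e2, ns] using m'
      have hz : xG g 8 (t * s) * xG g 9 (t * s ^ 2) ∈ H := by
        obtain ⟨al, hal⟩ : ∃ al, t * s ^ 3 = al := ⟨_, rfl⟩
        obtain ⟨be, hbe⟩ : ∃ be, -(2 * t ^ 2 * s ^ 3) = be := ⟨_, rfl⟩
        obtain ⟨ga, hga⟩ : ∃ ga, -(3 * (t * s) * -s) = ga := ⟨_, rfl⟩
        have hkey : (xG g 6 t * (xG g 7 s * xG g 9 s))⁻¹ * ((xG g 7 s * xG g 9 s) * xG g 6 t) =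
            xG g 8 (t * s) * xG g 9 (t * s ^ 2) * (xG g 10 al * xG g 11 (be + ga)) := by
          rw [show (xG g 7 s * xG g 9 s) * xG g 6 t = xG g 7 s * (xG g 9 s * xG g 6 t) by group,
            ← (c69 t s).eq, show xG g 7 s * (xG g 6 t * xG g 9 s) = xG g 7 s * xG g 6 t * xG g 9 s by group,
            h67, ns (t * s), ns (t * s ^ 2), hal, hbe]
          have e1 : xG g 10 al * xG g 11 be * xG g 9 s = xG g 9 s * (xG g 10 al * xG g 11 be) := by
            rw [mul_assoc, ← (c911 s be).eq, ← mul_assoc, ← (c910 s al).eq]; group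
          calc _ = (xG g 9 s)⁻¹ * (xG g 8 (t * s) * xG g 9 (t * s ^ 2) *
                (xG g 10 al * xG g 11 be * xG g 9 s)) := by group
            _ = (xG g 9 s)⁻¹ * xG g 8 (t * s) * (xG g 9 (t * s ^ 2) * xG g 9 s) *
                (xG g 10 al * xG g 11 be) := by rw [e1]; group
            _ = (xG g 9 (-s) * xG g 8 (t * s)) * xG g 9 s * xG g 9 (t * s ^ 2) *
                (xG g 10 al * xG g 11 be) := by
              rw [xG_add, add_comm (t * s ^ 2) s, ← xG_add, xG_inv]; group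
            _ = xG g 8 (t * s) * xG g 9 (-s) * (xG g 11 ga * xG g 9 s) * xG g 9 (t * s ^ 2) *
                (xG g 10 al * xG g 11 be) := by rw [h89, hga]; group
            _ = xG g 8 (t * s) * (xG g 9 (-s) * xG g 9 s) * (xG g 11 ga * xG g 9 (t * s ^ 2)) *
                (xG g 10 al * xG g 11 be) := by rw [← (c911 s ga).eq]; group
            _ = xG g 8 (t * s) * xG g 9 (t * s ^ 2) * (xG g 11 ga * xG g 10 al) * xG g 11 be := by
              rw [xG_add, neg_add_cancel, xG_zero, mul_one, ← (c911 (t * s ^ 2) ga).eq]; group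
            _ = _ := by rw [← (c1011 al ga).eq, add_comm be ga, ← xG_add]; group
        have hm : _ ∈ H := hkey ▸ mul_mem (inv_mem (mul_mem (show xG g 6 t ∈ H from ht) m2))
          (mul_mem m2 (show xG g 6 t ∈ H from ht))
        have hL : al ∈ LL ∧ be + ga ∈ LL := by
          have hts : t * s ∈ LL := hmulL _ _ ht hs
          refine ⟨?_, LL.add_mem (hbe ▸ LL.neg_mem ?_) (hga ▸ LL.neg_mem ?_)⟩
          · rw [show al = t * s ^ 2 * s by rw [← hal]; ring]; exact hmulL _ _ hts2 hs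
          · rw [show 2 * t ^ 2 * s ^ 3 = ((2 : ℤ) : F) * (t * s ^ 2 * (t * s)) by push_cast; ring]
            exact int_L _ _ (hmulL _ _ hts2 hts)
          · rw [show 3 * (t * s) * -s = ((-3 : ℤ) : F) * (t * s * s) by push_cast; ring]
            exact int_L _ _ (hmulL _ _ hts hs)
        simpa [mul_assoc] using mul_mem hm (inv_mem (long_mem _ _ hL.1 hL.2))
      have m3 := (hpair _ hts2).1
      rw [ns] at m3
      have m := mul_mem hz m3
      rw [show xG g 8 (t * s) * xG g 9 (t * s ^ 2) * (xG g 8 (t * s ^ 2) * xG g 9 (t * s ^ 2)) =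
          xG g 8 (t * s) * (xG g 9 (t * s ^ 2) * xG g 8 (t * s ^ 2)) * xG g 9 (t * s ^ 2) by group, h89,
        show xG g 8 (t * s) * (xG g 8 (t * s ^ 2) * xG g 9 (t * s ^ 2) *
            xG g 11 (-(3 * (t * s ^ 2) * (t * s ^ 2)))) * xG g 9 (t * s ^ 2) =
          xG g 8 (t * s) * xG g 8 (t * s ^ 2) * xG g 9 (t * s ^ 2) *
            (xG g 11 (-(3 * (t * s ^ 2) * (t * s ^ 2))) * xG g 9 (t * s ^ 2)) by group,
        ← (c911 _ _).eq, xG_add, ← mul_assoc, mul_assoc (xG g 8 _) (xG g 9 _) (xG g 9 _), xG_add,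
        CharTwo.add_self_eq_zero, xG_zero, mul_one] at m
      have h11 : -(3 * (t * s ^ 2) * (t * s ^ 2)) ∈ lam g H 11 := by
        rw [e11, mul_assoc]
        exact LL.neg_mem (by simpa using int_L 3 _ (hmulL _ _ hts2 hts2))
      have m8 := mul_mem m (inv_mem h11)
      rw [mul_inv_cancel_right, ← mem_lam, e8, ← mul_add] at m8
      exact m8
    by_cases hbig : ∃ s ∈ LL, s + s ^ 2 ≠ 0
    · obtain ⟨s, hs, hs0⟩ := hbig
      have hz : s + s ^ 2 ∈ E := (hE _).2 (LL.add_mem hs (by rw [sq]; exact hmulL s s hs hs))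
      have e := hcomb (t * (s + s ^ 2)⁻¹) s ((hE _).1 (mul_mem ((hE t).2 ht) (inv_mem hz))) hs
      rwa [mul_assoc, inv_mul_cancel₀ hs0, mul_one] at e
    · push Not at hbig
      have e := hbig t ht
      rw [show t + t ^ 2 = t * (1 + t) by ring, mul_eq_zero] at e
      rcases e with rfl | e
      · exact SS.zero_mem
      · rw [show t = 1 by rw [← CharTwo.add_eq_zero.1 e]]
        exact one_S
  refine le_antisymm (fun u hu => ?_) hLS
  rcases hSL u hu with hL | h3
  · exact hL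
  subst h3
  have three0 : (3 : F) = 0 := CharP.cast_eq_zero F 3
  have hmulS : ∀ x y, x ∈ SS → y ∈ SS → x * y ∈ SS := by
    intro x y hx hy
    have m := hW x y hx hy
    simp only [three0, zero_mul, neg_zero, xG_zero, mul_one] at m
    rw [← mem_lam, e9] at m
    have h2 : 2 * (x * y) ∈ SS := by rwa [← mul_assoc]
    exact mem_of_two_mul (by decide : Odd 3) SS h2
  have hcube : ∀ x, x ∈ SS → x ^ 3 ∈ LL := by
    intro x hx
    have m := hQ 1 x one_L hx
    simp only [one_mul, one_pow, mul_one] at m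
    have a1 : xG g 8 (-x) * xG g 9 (-(x ^ 2)) ∈ H := by
      refine mul_mem ?_ ?_
      · rw [← mem_lam, e8]; exact SS.neg_mem hx
      · rw [← mem_lam, e9, sq]; exact SS.neg_mem (hmulS x x hx hx)
    have m' := mul_mem (inv_mem a1) m
    rw [inv_mul_cancel_left] at m'
    have e1 := comm_eq (F := F) h (lt 10 (by omega)) (lt 6 (by omega)) (by omega) (by omega) (x ^ 3) 1
    have t106 : auxG2.terms 10 6 = [(11, -1, 1, 1)] := by decide +kernel
    simp only [tword, t106, List.map_cons, List.map_nil, List.prod_cons, List.prod_nil, mul_one,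
      pow_one, Int.cast_neg, Int.cast_one, neg_neg, neg_mul, one_mul] at e1
    have c611 := c 6 11 (by omega) (by omega) (by omega) (by decide +kernel)
    set b' := -(2 * x ^ 3)
    have e2 : xG g 6 1 * (xG g 10 (x ^ 3) * xG g 11 b') =
        xG g 10 (x ^ 3) * xG g 11 b' * xG g 6 1 * xG g 11 (x ^ 3) := by
      calc _ = xG g 10 (x ^ 3) * xG g 6 1 * (xG g 11 (x ^ 3) * xG g 11 b') := by rw [← mul_assoc, e1]; group
        _ = xG g 10 (x ^ 3) * (xG g 6 1 * xG g 11 b') * xG g 11 (x ^ 3) := by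
          rw [xG_add, add_comm, ← xG_add]; group
        _ = _ := by rw [(c611 1 b').eq]; group
    rw [← e11, mem_lam, show xG g 11 (x ^ 3) = (xG g 10 (x ^ 3) * xG g 11 b' * xG g 6 1)⁻¹ *
      (xG g 6 1 * (xG g 10 (x ^ 3) * xG g 11 b')) by rw [e2]; group]
    exact mul_mem (inv_mem (mul_mem m' (U.one_mem 6))) (mul_mem (U.one_mem 6) m')
  haveI : Finite SS := lam_finite h H (lt 7 (by omega))
  obtain ⟨w, hw⟩ := (Finite.injective_iff_surjective
    (f := fun x : SS => (⟨x.1 ^ 3, hLS _ (hcube _ x.2)⟩ : SS))).1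
    (fun x y e => Subtype.ext (frobenius_inj F 3 (congrArg Subtype.val e))) ⟨u, hu⟩
  have e := congrArg Subtype.val hw
  simp only at e
  exact e ▸ hcube _ w.2

end CfsgLib.Chev.Subfield
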