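import Cfsg.Agent.Lib.Chev.Subfield.Local

/-!
The parabolic subgroup of the highest root of `B₂`.
-/

set_option autoImplicit false
set_option linter.style.haveILetI false
set_option maxRecDepth 100000

namespace CfsgLib.Chev.Subfield

open Cfsg.Lie Matrix CfsgLib.KnownB.ChevField CfsgLib.Chev.Grade

variable {F : Type*} [Field F]

theorem topJ_B2 : topJ chevB2 auxB2 = [1] := by decide +kernel

set_option maxHeartbeats 1600000 in
theorem topFix_B2 {hP : Para chevB2 auxB2} {σ : F →+* F} {H : Subgroup (GL chevB2.Idx F)}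
    (C : Ctx hP σ H shB2) : TopFix hP σ H := by
  have h := hP.std
  have g := h.good
  intro y hy hyP
  have hj : 1 < chevB2.rank := by decide +kernel
  obtain ⟨s1, r6, r7⟩ : chevB2.simple 1 = 4 ∧ auxB2.refl 1 6 = 5 ∧ auxB2.refl 1 7 = 7 := by
    decide +kernel
  have lt : ∀ r, r < 8 → r < chevB2.nroots := fun r hr => hr
  have pos : ∀ r, 4 ≤ r → r < 8 → chevB2.IsPosRoot r := fun r h1 h2 => (g.pos_iff r (lt r h2)).2 <| by
    intro j
    by_cases hj' : j < chevB2.rank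
    · have : ∀ r < 8, 4 ≤ r → ∀ j < chevB2.rank, 0 ≤ auxB2.a r j := by decide +kernel
      exact this r h2 h1 j hj'
    · rw [g.a_zero _ (lt r h2) j (not_lt.1 hj')]
  have split2 : y ∈ chevB2.borelSubgroup F ∨ ∃ b₁ ∈ chevB2.borelSubgroup F,
      ∃ b₂ ∈ chevB2.borelSubgroup F, y = b₁ * nS F g 1 * b₂ := by
    clear hy
    rw [parabolic_eq g, ← Subgroup.closure_eq (chevB2.borelSubgroup F), ← Subgroup.closure_union] at hyP
    have key : ∀ z : GL chevB2.Idx F, (z ∈ chevB2.borelSubgroup F ∨ ∃ b₁ ∈ chevB2.borelSubgroup F,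
        ∃ b₂ ∈ chevB2.borelSubgroup F, z = b₁ * nS F g 1 * b₂) →
        (nS F g 1 * z ∈ chevB2.borelSubgroup F ∨ ∃ b₁ ∈ chevB2.borelSubgroup F,
        ∃ b₂ ∈ chevB2.borelSubgroup F, nS F g 1 * z = b₁ * nS F g 1 * b₂) := by
      rintro z (hz | ⟨b₁, h1, b₂, h2, rfl⟩)
      · exact Or.inr ⟨1, one_mem _, z, hz, by group⟩
      · rcases bn_rule h hj (nS_mem_monomial g hj) h1 with h' | h'
        · obtain ⟨x, hx, w, hw, e⟩ := DoubleCoset.mem_doubleCoset.1 h'
          obtain ⟨c, hc⟩ := nS_sq_mem (F := F) g hj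
          refine Or.inl ?_
          rw [show nS F g 1 * (b₁ * nS F g 1 * b₂) = (nS F g 1 * b₁ * nS F g 1) * b₂ by group, e, ← hc]
          exact mul_mem (mul_mem (mul_mem hx (tor_mem_borel g c)) hw) h2
        · obtain ⟨x, hx, w, hw, e⟩ := DoubleCoset.mem_doubleCoset.1 h'
          exact Or.inr ⟨x, hx, w * b₂, mul_mem hw h2, by
            rw [show nS F g 1 * (b₁ * nS F g 1 * b₂) = (nS F g 1 * b₁ * nS F g 1) * b₂ by group, e]; group⟩
    have lmul : ∀ (a z : GL chevB2.Idx F), a ∈ chevB2.borelSubgroup F → (z ∈ chevB2.borelSubgroup F ∨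
        ∃ b₁ ∈ chevB2.borelSubgroup F, ∃ b₂ ∈ chevB2.borelSubgroup F, z = b₁ * nS F g 1 * b₂) →
        (a * z ∈ chevB2.borelSubgroup F ∨ ∃ b₁ ∈ chevB2.borelSubgroup F,
        ∃ b₂ ∈ chevB2.borelSubgroup F, a * z = b₁ * nS F g 1 * b₂) := by
      rintro a z ha (hz | ⟨b₁, h1, b₂, h2, rfl⟩)
      · exact Or.inl (mul_mem ha hz)
      · exact Or.inr ⟨a * b₁, mul_mem ha h1, b₂, h2, by group⟩
    induction hyP using Subgroup.closure_induction_left with
    | one => exact Or.inl (one_mem _)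
    | mul_left a ha z _ ih =>
      rcases ha with ha | ⟨j, hjJ, -, rfl⟩
      · exact lmul a z ha ih
      · obtain rfl : j = 1 := by simpa [topJ_B2] using hjJ
        exact key z ih
    | inv_mul_cancel a ha z _ ih =>
      rcases ha with ha | ⟨j, hjJ, -, rfl⟩
      · exact lmul _ z (inv_mem ha) ih
      · obtain rfl : j = 1 := by simpa [topJ_B2] using hjJ
        obtain ⟨c, hc⟩ := nS_sq_mem (F := F) g hj
        have := lmul _ _ (inv_mem (tor_mem_borel g c)) (key z ih)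
        rwa [show (tor chevB2 auxB2 c)⁻¹ * (nS F g 1 * z) = (nS F g 1)⁻¹ * z by rw [hc]; group] at this
  rcases split2 with hyB | ⟨b₁, hb₁, b₂, hb₂, rfl⟩
  · exact C.borel hy hyB
  obtain ⟨u, hu, c, rfl⟩ := (mem_borel_iff g).1 hb₁
  obtain ⟨w, hw, a0, hwa⟩ := pos_decomp h hj (inv_mem hu)
  have hu' : u = xG g 4 (-a0) * w⁻¹ := by
    rw [← s1, ← inv_inv u, hwa, _root_.mul_inv_rev, xG_inv]
  set a : F := -a0 with ha0
  obtain ⟨d, hd⟩ := monomial_conj_tor g (inv_mem (nS_mem_monomial (F := F) g hj)) c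
  rw [inv_inv] at hd
  obtain ⟨b₃, hb₃, hy3⟩ : ∃ b₃ ∈ chevB2.borelSubgroup F,
      u * tor chevB2 auxB2 c * nS F g 1 * b₂ = xG g 4 a * nS F g 1 * b₃ := by
    refine ⟨(nS F g 1)⁻¹ * w⁻¹ * nS F g 1 * tor chevB2 auxB2 d * b₂, mul_mem (mul_mem ?_
      (tor_mem_borel g d)) hb₂, by rw [hu', ← hd]; group⟩
    refine pos_le_borel (UP_posBut_le g 1 ?_)
    have := (Subgroup.mem_normalizer_iff.1 (rankOne_le_normalizer h hj
      (inv_mem (nS_mem_rankOne g 1))) w⁻¹).1 (inv_mem hw)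
    rwa [inv_inv] at this
  rw [hy3] at hy ⊢
  -- the conjugate of the short root element
  have hup : UpList chevB2 [5, 6, 7] := by
    refine ⟨by decide, fun r hr => ?_, fun r hr q hq hrq => ?_⟩
    · simp only [List.mem_cons, List.not_mem_nil, or_false] at hr
      exact pos r (by omega) (by omega)
    · simp only [List.mem_cons, List.not_mem_nil, or_false] at hr ⊢
      have : q < 8 := hq.1
      omega
  have hm7 : ∀ q, chevB2.IsPosRoot q → 6 < q → q ∈ [7] := fun q hq h1 => by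
    have : q < 8 := hq.1
    simp; omega
  obtain ⟨u₃, hu₃, c₃, rfl⟩ := (mem_borel_iff g).1 hb₃
  set k : F := (chi chevB2 auxB2 c₃ 6 : F) * 1 with hkdef
  have hk : k ≠ 0 := mul_ne_zero (Units.ne_zero _) one_ne_zero
  have hdrop : chevB2.posRoots.drop (2 + 1) = [7] := by decide +kernel
  obtain ⟨T, hT⟩ := exists_pw h hup.tail.tail (hdrop ▸ pos_comm_mem h (m := 2) (hdrop ▸ hup.tail.tail)
    (pos 6 (by omega) (by omega)) (hdrop ▸ hm7) hu₃ k)
  have h6 : u₃ * tor chevB2 auxB2 c₃ * xG g 6 1 * (u₃ * tor chevB2 auxB2 c₃)⁻¹ =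
      xG g 7 (T 7) * xG g 6 k := by
    rw [show u₃ * tor chevB2 auxB2 c₃ * xG g 6 1 * (u₃ * tor chevB2 auxB2 c₃)⁻¹ =
      u₃ * (tor chevB2 auxB2 c₃ * xG g 6 1 * (tor chevB2 auxB2 c₃)⁻¹) * u₃⁻¹ by group,
      tor_conj_xG g c₃ (lt 6 (by omega)), ← hkdef,
      show xG g 7 (T 7) = u₃ * xG g 6 k * u₃⁻¹ * (xG g 6 k)⁻¹ by rw [hT]; simp [pw]]
    group
  set c' : F := (auxB2.eta 1 6 : F) * k with hcdef
  have hc' : c' ≠ 0 := mul_ne_zero (by rcases g.eta_sign 1 hj 6 (lt 6 (by omega)) with e | e <;> simp [e]) hk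
  set d' : F := (auxB2.eta 1 7 : F) * T 7
  have ht : ∃ α β : ℤ, ∃ i : ℕ, ∃ l : ℕ, (α = 1 ∨ α = -1) ∧
      auxB2.terms 4 5 = [(6, α, 1, 1), (7, β, i, l)] := by
    first
      | exact ⟨1, 1, 1, 2, Or.inl rfl, by decide +kernel⟩
      | exact ⟨1, -1, 1, 2, Or.inl rfl, by decide +kernel⟩
      | exact ⟨-1, 1, 1, 2, Or.inr rfl, by decide +kernel⟩
      | exact ⟨-1, -1, 1, 2, Or.inr rfl, by decide +kernel⟩
  obtain ⟨α, β, i, l, hα, ht⟩ := ht
  obtain ⟨n4, t46, t47, t57, t67⟩ : auxB2.neg 4 = 3 ∧ auxB2.terms 4 6 = [] ∧ auxB2.terms 4 7 = [] ∧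
      auxB2.terms 5 7 = [] ∧ auxB2.terms 6 7 = [] := by decide +kernel
  obtain ⟨n5, n6⟩ : auxB2.neg 5 = 2 ∧ auxB2.neg 6 = 1 := by decide +kernel
  have c46 := commute_xG (F := F) h (lt 4 (by omega)) (lt 6 (by omega)) (by omega) t46
  have c47 := commute_xG (F := F) h (lt 4 (by omega)) (lt 7 (by omega)) (by omega) t47
  have c57 := commute_xG (F := F) h (lt 5 (by omega)) (lt 7 (by omega)) (by omega) t57
  have c67 := commute_xG (F := F) h (lt 6 (by omega)) (lt 7 (by omega)) (by omega) t67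
  set γ : F := -((α : F) * (-a) * c')
  set δ : F := -((β : F) * (-a) ^ i * c' ^ l) + d'
  have hz : xG g 4 a * nS F g 1 * (u₃ * tor chevB2 auxB2 c₃) * xG g 6 1 *
      (xG g 4 a * nS F g 1 * (u₃ * tor chevB2 auxB2 c₃))⁻¹ = xG g 5 c' * (xG g 6 γ * xG g 7 δ) := by
    have e := comm_eq h (lt 4 (by omega)) (lt 5 (by omega)) (by omega) (by omega) a c'
    simp only [tword, ht, List.map_cons, List.map_nil, List.prod_cons, List.prod_nil, mul_one,
      pow_one] at e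
    set X := xG g 6 ((α : F) * -a * c')
    set Y := xG g 7 ((β : F) * (-a) ^ i * c' ^ l)
    calc _ = xG g 4 a * nS F g 1 * (u₃ * tor chevB2 auxB2 c₃ * xG g 6 1 *
          (u₃ * tor chevB2 auxB2 c₃)⁻¹) * (nS F g 1)⁻¹ * (xG g 4 a)⁻¹ := by group
      _ = xG g 4 a * (nS F g 1 * xG g 7 (T 7) * (nS F g 1)⁻¹) *
          (nS F g 1 * xG g 6 k * (nS F g 1)⁻¹) * (xG g 4 a)⁻¹ := by rw [h6]; group
      _ = xG g 7 d' * (xG g 4 a * xG g 5 c') * (xG g 4 a)⁻¹ := by
        rw [nS_conj_xG g hj (lt 7 (by omega)), nS_conj_xG g hj (lt 6 (by omega)), r6, r7, ← hcdef,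
          show ((auxB2.eta 1 7 : F) * T 7) = d' from rfl, (c47 a d').eq]
        group
      _ = xG g 7 d' * xG g 5 c' * (xG g 4 a * (X * Y)⁻¹) * (xG g 4 a)⁻¹ := by
        rw [show xG g 4 a * xG g 5 c' = xG g 5 c' * xG g 4 a * (X * Y)⁻¹ by rw [e]; group]; simp only [X, Y]; group
      _ = xG g 7 d' * xG g 5 c' * (X * Y)⁻¹ := by
        rw [(((c46 a _).mul_right (c47 a _)).inv_right).eq]; simp only [X, Y]; group
      _ = xG g 5 c' * (xG g 7 d' * (Y⁻¹ * X⁻¹)) := by rw [← (c57 c' d').eq]; group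
      _ = _ := by
        rw [show Y⁻¹ = xG g 7 (-((β : F) * (-a) ^ i * c' ^ l)) from xG_inv g _ _,
          show X⁻¹ = xG g 6 γ from xG_inv g _ _, ← mul_assoc (xG g 7 d'), xG_add,
          ← (c67 γ _).eq, add_comm]
  have hzU : xG g 5 c' * (xG g 6 γ * xG g 7 δ) ∈ chevB2.posUnipotent F :=
    mul_mem (xG_mem_posUnipotent g (pos 5 (by omega) (by omega)) _)
      (mul_mem (xG_mem_posUnipotent g (pos 6 (by omega) (by omega)) _)
        (xG_mem_posUnipotent g (pos 7 (by omega) (by omega)) _))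
  have hfix := C.U _ hzU (push_of_mem C.S (hz ▸
    mul_mem (mul_mem hy (C.S.gen 6 1 (map_one σ))) (inv_mem hy)))
  have hc : σ c' = c' := head_fix h σ hup
    (mul_mem (xG_mem_UL g (by simp) γ) (xG_mem_UL g (by simp) δ)) hfix
  have hγ : σ γ = γ := by
    rw [map_mul, map_xG, hc] at hfix
    exact head_fix h σ hup.tail (xG_mem_UL g (by simp) δ) (mul_left_cancel hfix)
  have haσ : σ a = a := by
    simp only [γ, map_neg, map_mul, map_intCast, hc] at hγ
    rcases hα with rfl | rfl <;> simpa [hc'] using hγ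
  have hm : xG g 4 a * nS F g 1 ∈ ratG g σ := mul_mem (xG_mem_ratG g haσ _) (nS_mem_ratG g σ 1)
  have hb3H : u₃ * tor chevB2 auxB2 c₃ ∈ H := by
    have := mul_mem (inv_mem (C.S.rat_le hm)) hy
    rwa [inv_mul_cancel_left] at this
  rw [map_mul, mem_fixG.1 (ratG_le_fixG g σ hm), C.borel hb3H hb₃]

end CfsgLib.Chev.Subfield
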