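import Cfsg.Agent.Lib.Chev.Subfield.Field
import Cfsg.Agent.Lib.Chev.ParaFStar

/-!
The unipotent and Borel parts of a finite subgroup without further root elements are rational.
-/

set_option autoImplicit false
set_option linter.style.haveILetI false
set_option maxRecDepth 100000

namespace CfsgLib.Chev.Subfield

open Cfsg.Lie CfsgLib.KnownB.ChevField

variable {D : ChevalleyDatum} {A : Aux} {F : Type*} [Field F]

/-- an element conjugating the rational elements into the subgroup -/
def Push (g : Good D A) (σ : F →+* F) (H : Subgroup (GL D.Idx F)) (y : GL D.Idx F) : Prop :=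
  ∀ z ∈ ratG g σ, y * z * y⁻¹ ∈ H

theorem push_of_mem {h : Std D A} {σ : F →+* F} {H : Subgroup (GL D.Idx F)} (S : Sub h σ H)
    {y : GL D.Idx F} (hy : y ∈ H) : Push h.good σ H y :=
  fun z hz => mul_mem (mul_mem hy (S.rat_le hz)) (inv_mem hy)

theorem push_rat_mul {h : Std D A} {σ : F →+* F} {H : Subgroup (GL D.Idx F)} (S : Sub h σ H)
    {y m : GL D.Idx F} (hy : Push h.good σ H y) (hm : m ∈ ratG h.good σ) :
    Push h.good σ H (m * y) := fun z hz => by
  rw [show m * y * z * (m * y)⁻¹ = m * (y * z * y⁻¹) * m⁻¹ by group]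
  exact mul_mem (mul_mem (S.rat_le hm) (hy z hz)) (inv_mem (S.rat_le hm))

theorem push_mul_rat {g : Good D A} {σ : F →+* F} {H : Subgroup (GL D.Idx F)} {y m : GL D.Idx F}
    (hy : Push g σ H y) (hm : m ∈ ratG g σ) : Push g σ H (y * m) := fun z hz => by
  rw [show y * m * z * (y * m)⁻¹ = y * (m * z * m⁻¹) * y⁻¹ by group]
  exact hy _ (mul_mem (mul_mem hm hz) (inv_mem hm))

theorem push_root {g : Good D A} {σ : F →+* F} {H : Subgroup (GL D.Idx F)} {y : GL D.Idx F}
    (hy : Push g σ H y) (s : ℕ) : y * xG g s 1 * y⁻¹ ∈ H := hy _ (xG_mem_ratG g (map_one σ) s)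

/-- a rational element with a given leading root element has a rational leading parameter -/
theorem head_fix (h : Std D A) (σ : F →+* F) {u : ℕ} {L : List ℕ} (hL : UpList D (u :: L)) {k : F}
    {z : GL D.Idx F} (hz : z ∈ UL F h.good L)
    (e : Matrix.GeneralLinearGroup.map σ (xG h.good u k * z) = xG h.good u k * z) : σ k = k := by
  have g := h.good
  have hu := hL.pos u List.mem_cons_self
  rw [map_mul, map_xG] at e
  have hz' : Matrix.GeneralLinearGroup.map σ z ∈ UL F g L :=
    UP_map_le g σ (fun r => r ∈ L) ⟨z, hz, rfl⟩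
  have e2 : xG g u (-k + σ k) = z * (Matrix.GeneralLinearGroup.map σ z)⁻¹ := by
    rw [← xG_add, ← xG_inv, eq_mul_inv_iff_mul_eq, mul_assoc, e, inv_mul_cancel_left]
  have hcx : 0 ≤ 1 * code D A u := by
    rw [one_mul]; exact (code_pos h hu.1 ((g.pos_iff u hu.1).1 hu)).le
  have h0 : (-k + σ k : F) = 0 := by
    refine eq_zero_of_mem_triG g hu.1 _ hcx ?_
    rw [e2]
    refine UL_le_triG h hcx (fun r hr => (hL.tail.pos r hr).1) (fun r hr => ?_)
      (mul_mem hz (inv_mem hz'))
    rw [one_mul]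
    exact code_mono h ((List.pairwise_cons.1 hL.sorted).1 r hr) (hL.tail.pos r hr).1
  linear_combination h0

/-- the induction hypothesis: such elements in the subgroup generated by a list are rational -/
def Fixes (g : Good D A) (σ : F →+* F) (H : Subgroup (GL D.Idx F)) (L : List ℕ) : Prop :=
  ∀ y ∈ UL F g L, Push g σ H y → Matrix.GeneralLinearGroup.map σ y = y

/-- a root with a fundamental commutator above it -/
theorem step_gen {h : Std D A} {σ : F →+* F} {H : Subgroup (GL D.Idx F)} (S : Sub h σ H)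
    {x : ℕ} {L : List ℕ} (hL : UpList D (x :: L)) (ih : Fixes h.good σ H L) {s u : ℕ} {c : ℤ}
    {more : List (ℕ × ℤ × ℕ × ℕ)} (hs : D.IsPosRoot s) (hsx : x ≠ s)
    (ht : A.terms s x = (u, c, 1, 1) :: more) (hmore : ∀ q ∈ more, u < q.1) (hc : (c : F) ≠ 0)
    {t : F} {rest : GL D.Idx F} (hrest : rest ∈ UL F h.good L)
    (hp : Push h.good σ H (xG h.good x t * rest)) : σ t = t := by
  have g := h.good
  have hx := hL.pos x List.mem_cons_self
  have hmem : ((u, c, 1, 1) : ℕ × ℤ × ℕ × ℕ) ∈ A.terms s x := by rw [ht]; exact List.mem_cons_self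
  obtain ⟨hu1, -, -, hua⟩ := terms_mem g hs.1 hx.1 hmem
  dsimp only at hu1 hua
  have hcu : code D A u = code D A s + code D A x := by
    have := code_lin (D := D) (A := A) (r := s) (s := x) (u := u) _ _ hua
    simpa using this
  have hcs := (pos_iff_code h hs.1).1 hs
  have hcx := (pos_iff_code h hx.1).1 hx
  have hu : D.IsPosRoot u := (pos_iff_code h hu1).2 (by omega)
  have hxu : x < u := (code_lt_iff h hx.1 hu1).1 (by omega)
  obtain ⟨m, hm1, hm2, hm3, hm4⟩ := mem_posRoots_drop h hu
  set M := D.posRoots.drop (m + 1) with hM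
  have hMup := upList_posRoots.drop (D := D) (m + 1)
  have huM : UpList D (u :: M) :=
    ⟨List.pairwise_cons.2 ⟨hm3, hMup.sorted⟩, fun r hr => by
      rcases List.mem_cons.1 hr with rfl | hr
      · exact hu
      · exact hMup.pos r hr,
    fun r hr q hq hrq => by
      refine List.mem_cons_of_mem _ (hm4 q hq ?_)
      rcases List.mem_cons.1 hr with rfl | hr
      · exact hrq
      · exact (hm3 r hr).trans hrq⟩
  have hbor : ∀ {b z : GL D.Idx F}, b ∈ D.posUnipotent F → z ∈ UL F g M → b * z * b⁻¹ ∈ UL F g M :=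
    fun hb hz => borel_conj_UL h hMup (pos_le_borel hb) hz
  have hup : ∀ q, D.IsPosRoot q → u < q → ∀ w : F, xG g q w ∈ UL F g M :=
    fun q hq hlt w => xG_mem_UL g (hm4 q hq hlt) w
  have hLpos : ∀ {z : GL D.Idx F}, z ∈ UL F g L → z ∈ D.posUnipotent F := fun hz =>
    (Subgroup.closure_le _).2 (by rintro _ ⟨r, w, hr, rfl⟩; exact xG_mem_posUnipotent g (hL.tail.pos r hr) w) hz
  have hcomm : rest * xG g s 1 * rest⁻¹ * (xG g s 1)⁻¹ ∈ UL F g M := by
    clear hp
    induction hrest using Subgroup.closure_induction_left with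
    | one => simp [one_mem]
    | mul_left a ha b hb ihb =>
      obtain ⟨q, w, hq, rfl⟩ := ha
      rw [show xG g q w * b * xG g s 1 * (xG g q w * b)⁻¹ * (xG g s 1)⁻¹ =
        (xG g q w * (b * xG g s 1 * b⁻¹ * (xG g s 1)⁻¹) * (xG g q w)⁻¹) *
          (xG g q w * xG g s 1 * (xG g q w)⁻¹ * (xG g s 1)⁻¹) by group]
      exact mul_mem (hbor (xG_mem_posUnipotent g (hL.tail.pos q hq) w) ihb) (one hup hbor q w hq)
    | inv_mul_cancel a ha b hb ihb =>
      obtain ⟨q, w, hq, rfl⟩ := ha
      rw [xG_inv, show xG g q (-w) * b * xG g s 1 * (xG g q (-w) * b)⁻¹ * (xG g s 1)⁻¹ =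
        (xG g q (-w) * (b * xG g s 1 * b⁻¹ * (xG g s 1)⁻¹) * (xG g q (-w))⁻¹) *
          (xG g q (-w) * xG g s 1 * (xG g q (-w))⁻¹ * (xG g s 1)⁻¹) by group]
      exact mul_mem (hbor (xG_mem_posUnipotent g (hL.tail.pos q hq) (-w)) ihb) (one hup hbor q (-w) hq)
  have hswap := comm_eq h hs.1 hx.1 hsx (fun e => not_pos_neg g hs (e ▸ hx)) (1 : F) t
  rw [tword, ht, List.map_cons, List.map_cons, List.prod_cons] at hswap
  simp only [pow_one] at hswap
  set W := ((more.map fun q => (q.1, (q.2.1 : F) * (-1 : F) ^ q.2.2.1 * t ^ q.2.2.2)).map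
    fun q => xG g q.1 q.2).prod with hW
  have hWm : W ∈ UL F g M := by
    refine list_prod_mem fun z hz => ?_
    obtain ⟨p, hp', rfl⟩ := List.mem_map.1 hz
    obtain ⟨q, hq, rfl⟩ := List.mem_map.1 hp'
    obtain ⟨h1, h2, h3, h4⟩ := terms_mem g hs.1 hx.1 (ht ▸ List.mem_cons_of_mem _ hq)
    refine hup q.1 ((pos_iff_code h h1).2 ?_) (hmore q hq) _
    have := code_mono h (hmore q hq) h1
    have := (pos_iff_code h hu1).1 hu
    omega
  set k : F := (c : F) * -1 * t with hk
  set b := xG g s 1 * xG g x t with hb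
  have hb_pos : b ∈ D.posUnipotent F :=
    mul_mem (xG_mem_posUnipotent g hs 1) (xG_mem_posUnipotent g hx t)
  set yy := xG g x t * rest
  have hval : yy * xG g s 1 * yy⁻¹ * (xG g s 1)⁻¹ =
      (xG g x t * (rest * xG g s 1 * rest⁻¹ * (xG g s 1)⁻¹) * (xG g x t)⁻¹) *
        (b * (xG g u k * W) * b⁻¹) := by
    rw [show xG g u k * W = b⁻¹ * (xG g x t * xG g s 1) by rw [hswap, hb]; group]
    rw [hb, show yy = xG g x t * rest from rfl]; group
  have hc0 : yy * xG g s 1 * yy⁻¹ * (xG g s 1)⁻¹ ∈ H :=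
    mul_mem (push_root hp s) (inv_mem (S.gen s 1 (map_one σ)))
  -- the conjugated leading element
  obtain ⟨z, hz, hzeq⟩ : ∃ z ∈ UL F g M, b * (xG g u k * W) * b⁻¹ = xG g u k * z := by
    have hd := pos_comm_mem h hMup hu hm4 hb_pos k
    refine ⟨(xG g u k)⁻¹ * (b * xG g u k * b⁻¹ * (xG g u k)⁻¹) * xG g u k * (b * W * b⁻¹),
      mul_mem ?_ (hbor hb_pos hWm), by group⟩
    have h1 := hbor (inv_mem (xG_mem_posUnipotent g hu k)) hd
    rwa [inv_inv] at h1
  set d := xG g x t * (rest * xG g s 1 * rest⁻¹ * (xG g s 1)⁻¹) * (xG g x t)⁻¹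
  have hdM : d ∈ UL F g M := hbor (xG_mem_posUnipotent g hx t) hcomm
  have hform : yy * xG g s 1 * yy⁻¹ * (xG g s 1)⁻¹ = xG g u k * (((xG g u k)⁻¹ * d * xG g u k) * z) := by
    rw [hval, hzeq]; group
  have hrem : ((xG g u k)⁻¹ * d * xG g u k) * z ∈ UL F g M := by
    refine mul_mem ?_ hz
    have h1 := hbor (inv_mem (xG_mem_posUnipotent g hu k)) hdM
    rwa [inv_inv] at h1
  have hsub : ∀ q ∈ u :: M, q ∈ L := fun q hq => by
    have h1 : x < q := by
      rcases List.mem_cons.1 hq with rfl | hq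
      · exact hxu
      · exact hxu.trans (hm3 q hq)
    rcases List.mem_cons.1 (hL.up x List.mem_cons_self q (huM.pos q hq) h1) with e | e
    · omega
    · exact e
  have hin : xG g u k * (((xG g u k)⁻¹ * d * xG g u k) * z) ∈ UL F g L :=
    UL_mono g hsub (mul_mem (xG_mem_UL g List.mem_cons_self k)
      (UL_mono g (fun q hq => List.mem_cons_of_mem _ hq) hrem))
  have hfix := head_fix h σ huM hrem (ih _ hin (push_of_mem S (hform ▸ hc0)))
  rw [hk, map_mul, map_mul, map_intCast, map_neg, map_one] at hfix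
  exact mul_left_cancel₀ (mul_ne_zero hc (neg_ne_zero.2 one_ne_zero)) hfix
where
  one {M : List ℕ} (hup : ∀ q, D.IsPosRoot q → u < q → ∀ w : F, xG h.good q w ∈ UL F h.good M)
      (hbor : ∀ {b z : GL D.Idx F}, b ∈ D.posUnipotent F → z ∈ UL F h.good M →
        b * z * b⁻¹ ∈ UL F h.good M) (q : ℕ) (w : F) (hq : q ∈ L) :
      xG h.good q w * xG h.good s 1 * (xG h.good q w)⁻¹ * (xG h.good s 1)⁻¹ ∈ UL F h.good M := by
    have g := h.good
    have hqp := hL.tail.pos q hq
    by_cases e : q = s
    · subst e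
      rw [xG_inv, xG_inv, xG_add, xG_add, xG_add, show w + 1 + -w + -1 = 0 by ring, xG_zero]
      exact one_mem _
    have hcm : ((u, c, 1, 1) : ℕ × ℤ × ℕ × ℕ) ∈ A.terms s x := by rw [ht]; exact List.mem_cons_self
    have hx := hL.pos x List.mem_cons_self
    obtain ⟨hu1, -, -, hua⟩ := terms_mem g hs.1 hx.1 hcm
    have hcu : code D A u = code D A s + code D A x := by
      have := code_lin (D := D) (A := A) (r := s) (s := x) (u := u) _ _ hua
      simpa using this
    have hcs := (pos_iff_code h hs.1).1 hs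
    have hcq := (pos_iff_code h hqp.1).1 hqp
    have hxq : code D A x < code D A q := code_mono h ((List.pairwise_cons.1 hL.sorted).1 q hq) hqp.1
    have hsw := comm_eq h hs.1 hqp.1 e (fun e' => not_pos_neg g hs (e' ▸ hqp)) (1 : F) w
    have hcx := (pos_iff_code h hx.1).1 hx
    rw [show xG g q w * xG g s 1 * (xG g q w)⁻¹ * (xG g s 1)⁻¹ = (xG g s 1 * xG g q w) *
      ((xG g s 1 * xG g q w)⁻¹ * (xG g q w * xG g s 1)) * (xG g s 1 * xG g q w)⁻¹ by group, hsw,
      inv_mul_cancel_left]
    refine hbor (mul_mem (xG_mem_posUnipotent g hs 1) (xG_mem_posUnipotent g hqp w)) ?_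
    refine list_prod_mem fun z hz => ?_
    obtain ⟨p, hp', rfl⟩ := List.mem_map.1 hz
    obtain ⟨o, ho, rfl⟩ := List.mem_map.1 hp'
    obtain ⟨h1, h2, h3, h4⟩ := terms_mem g hs.1 hqp.1 ho
    have hco := code_lin (D := D) (A := A) (r := s) (s := q) (u := o.1) _ _ h4
    have h2' : (1 : ℤ) ≤ (o.2.2.1 : ℤ) := by exact_mod_cast h2
    have h3' : (1 : ℤ) ≤ (o.2.2.2 : ℤ) := by exact_mod_cast h3
    have hlt : code D A u < code D A o.1 := by rw [hco, hcu]; nlinarith
    exact hup o.1 ((pos_iff_code h h1).2 (by omega)) ((code_lt_iff h hu1 h1).1 hlt) _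

/-- reading a parameter from one conjugate -/
theorem extract {h : Std D A} {σ : F →+* F} {H : Subgroup (GL D.Idx F)} (S : Sub h σ H)
    {s u : ℕ} (hu : u < D.nroots) {k : F} {P Q X : GL D.Idx F} (hp : Push h.good σ H (P * X * Q))
    (hQ : Commute Q (xG h.good s 1)) (hswap : X * xG h.good s 1 = xG h.good s 1 * X * xG h.good u k)
    (hXu : Commute X (xG h.good u k)) (hPs : Commute P (xG h.good s 1))
    (hPu : Commute P (xG h.good u k)) : σ k = k := by
  have g := h.good
  refine S.only u hu k ?_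
  have e : (P * X * Q) * xG g s 1 * (P * X * Q)⁻¹ = xG g s 1 * xG g u k := by
    calc (P * X * Q) * xG g s 1 * (P * X * Q)⁻¹ = P * X * (Q * xG g s 1) * Q⁻¹ * X⁻¹ * P⁻¹ := by group
      _ = P * (X * xG g s 1) * X⁻¹ * P⁻¹ := by rw [hQ.eq]; group
      _ = P * (xG g s 1 * (X * xG g u k)) * X⁻¹ * P⁻¹ := by rw [hswap]; group
      _ = (P * xG g s 1) * xG g u k * P⁻¹ := by rw [hXu.eq]; group
      _ = xG g s 1 * (P * xG g u k) * P⁻¹ := by rw [hPs.eq]; group
      _ = _ := by rw [hPu.eq]; group
  have hm := push_root hp s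
  rw [e] at hm
  simpa using mul_mem (inv_mem (S.gen s 1 (map_one σ))) hm

/-- a single term -/
theorem swap_single (h : Std D A) {s q u : ℕ} (hs : s < D.nroots) (hq : q < D.nroots) (hqs : q ≠ s)
    (hn : q ≠ A.neg s) {c : ℤ} (ht : A.terms s q = [(u, c, 1, 1)]) (b : F) :
    xG h.good q b * xG h.good s 1 = xG h.good s 1 * xG h.good q b * xG h.good u (-((c : F) * b)) := by
  rw [comm_eq h hs hq hqs hn (1 : F) b]
  simp [tword, ht]

variable (D A) in
/-- roots handled by `step_gen` with a unit coefficient, all but the listed ones -/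
noncomputable def stepCheck (special : List ℕ) : Bool :=
  (List.range D.nroots).all fun x =>
    decide (∃ j < D.rank, A.a x j < 0) || decide (x ∈ special) ||
      (List.range D.nroots).any fun s =>
        decide (∀ j < D.rank, 0 ≤ A.a s j) &&
          match A.terms s x with
          | [] => false
          | (u, c, i, k) :: more =>
            decide (x ≠ s ∧ (c = 1 ∨ c = -1) ∧ i = 1 ∧ k = 1) && more.all fun q => decide (u < q.1)

variable (D A) in
/-- the highest root and a root moving it down to a root commuting with it -/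
noncomputable def topCheck (s u : ℕ) : Bool :=
  decide (s < D.nroots ∧ u < D.nroots ∧ top D ≠ s ∧ top D ≠ A.neg s ∧ u ≠ A.neg (top D) ∧
    (A.terms s (top D) = [(u, 1, 1, 1)] ∨ A.terms s (top D) = [(u, -1, 1, 1)]) ∧
    A.terms (top D) u = [])

theorem step_top {h : Std D A} {σ : F →+* F} {H : Subgroup (GL D.Idx F)} (S : Sub h σ H)
    (hn : top D < D.nroots) {s u : ℕ} (hC : topCheck D A s u = true) {t : F}
    (hp : Push h.good σ H (xG h.good (top D) t)) : σ t = t := by
  simp only [topCheck, decide_eq_true_eq] at hC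
  obtain ⟨hs, hu, h1, h2, h3, h4, h5⟩ := hC
  have hp' : Push h.good σ H (1 * xG h.good (top D) t * 1) := by simpa using hp
  rcases h4 with h4 | h4
  · have := extract S hu hp' (Commute.one_left _) (swap_single h hs hn h1 h2 h4 t)
      (commute_xG h hn hu h3 h5 _ _) (Commute.one_left _) (Commute.one_left _)
    simpa using this
  · have := extract S hu hp' (Commute.one_left _) (swap_single h hs hn h1 h2 h4 t)
      (commute_xG h hn hu h3 h5 _ _) (Commute.one_left _) (Commute.one_left _)
    simpa using this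

/-- the induction along the positive roots -/
theorem fixes_of_steps {h : Std D A} {σ : F →+* F} {H : Subgroup (GL D.Idx F)} (S : Sub h σ H)
    (special : List ℕ) (hC : stepCheck D A special = true)
    (hspec : ∀ x ∈ special, ∀ L, UpList D (x :: L) → Fixes h.good σ H L → ∀ t, ∀ rest ∈ UL F h.good L,
      Push h.good σ H (xG h.good x t * rest) → σ t = t) :
    ∀ {L : List ℕ}, UpList D L → Fixes h.good σ H L
  | [], _ => fun y hy _ => by
    rw [UL_nil, Subgroup.mem_bot] at hy
    rw [hy, map_one]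
  | x :: L, hL => fun y hy hp => by
    have g := h.good
    have ih := fixes_of_steps S special hC hspec hL.tail
    obtain ⟨T, rfl⟩ := exists_pw h hL hy
    have e0 : pw g (x :: L) T = xG g x (T x) * pw g L T := by simp [pw]
    rw [e0] at hp ⊢
    have hx := hL.pos x List.mem_cons_self
    have hrest := pw_mem_UL g L T
    have ht : σ (T x) = T x := by
      have hC' := hC
      simp only [stepCheck, List.all_eq_true, List.mem_range, Bool.or_eq_true, decide_eq_true_eq,
        List.any_eq_true, Bool.and_eq_true] at hC'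
      rcases hC' x hx.1 with (⟨j, hj, hneg⟩ | hsp) | ⟨s, hs, hspos, hm⟩
      · exact absurd (pos_coords g hx j hj) (by omega)
      · exact hspec x hsp L hL ih _ _ hrest hp
      · have hs' : D.IsPosRoot s := (g.pos_iff s hs).2 fun j => by
          by_cases hj : j < D.rank
          · exact hspos j hj
          · rw [g.a_zero _ hs j (not_lt.1 hj)]
        split at hm
        · simp at hm
        · next u c i k more heq =>
          simp only [Bool.and_eq_true, decide_eq_true_eq, List.all_eq_true] at hm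
          obtain ⟨⟨h1, hc, rfl, rfl⟩, h5⟩ := hm
          exact step_gen S hL ih hs' h1 heq h5 (by rcases hc with rfl | rfl <;> simp) hrest hp
    have h2 : Push g σ H (pw g L T) := by
      have := push_rat_mul S hp (xG_mem_ratG g (show σ (-T x) = -T x by rw [map_neg, ht]) x)
      rwa [← mul_assoc, xG_add, neg_add_cancel, xG_zero, one_mul] at this
    rw [map_mul, map_xG, ht, ih _ hrest h2]

/-- rational elements of `U` are products of rational root elements -/
theorem pos_fix_mem_rat (h : Std D A) (σ : F →+* F) {y : GL D.Idx F} (hy : y ∈ D.posUnipotent F)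
    (e : Matrix.GeneralLinearGroup.map σ y = y) : y ∈ ratG h.good σ := by
  rw [← UL_posRoots h.good] at hy
  obtain ⟨T, rfl⟩ := exists_pw h upList_posRoots hy
  rw [map_pw] at e
  refine list_prod_mem fun z hz => ?_
  obtain ⟨r, hr, rfl⟩ := List.mem_map.1 hz
  exact xG_mem_ratG h.good (pw_inj h upList_posRoots e r hr) r

/-- a rational character at the fundamental roots gives a rational diagonal element -/
theorem tor_fix (g : Good D A) (σ : F →+* F) {c : Fin D.rank → Fˣ}
    (hc : ∀ i < D.rank, σ (chi D A c (D.simple i) : F) = chi D A c (D.simple i)) :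
    Matrix.GeneralLinearGroup.map σ (tor D A c) = tor D A c := by
  rw [map_tor]
  apply Units.ext
  rw [tor_val, tor_val]
  refine dia_congr fun s hs => ?_
  rw [chi_eq_wt g _ hs, chi_eq_wt g c hs]
  simp only [wt]
  congr 1
  refine Finset.prod_congr rfl fun k hk => ?_
  congr 1
  rw [← map_chi]
  exact Units.ext (hc k (Finset.mem_range.1 hk))

/-- the diagonal scalars of an element of `H ∩ B` are rational -/
theorem borel_fix {h : Std D A} {σ : F →+* F} {H : Subgroup (GL D.Idx F)} (S : Sub h σ H)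
    (hU : ∀ y ∈ D.posUnipotent F, Push h.good σ H y → Matrix.GeneralLinearGroup.map σ y = y)
    {b : GL D.Idx F} (hb : b ∈ H) (hbB : b ∈ D.borelSubgroup F) :
    Matrix.GeneralLinearGroup.map σ b = b := by
  have g := h.good
  obtain ⟨u, hu, c, rfl⟩ := (mem_borel_iff g).1 hbB
  have hchi : ∀ i < D.rank, σ (chi D A c (D.simple i) : F) = chi D A c (D.simple i) := by
    intro i hi
    have hp := simple_pos g hi
    set k : F := ((chi D A c (D.simple i) : Fˣ) : F)
    have hm := mul_mem (mul_mem hb (S.gen (D.simple i) 1 (map_one σ))) (inv_mem hb)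
    rw [show u * tor D A c * xG g (D.simple i) 1 * (u * tor D A c)⁻¹ =
      u * (tor D A c * xG g (D.simple i) 1 * (tor D A c)⁻¹) * u⁻¹ by group,
      tor_conj_xG g c hp.1, mul_one] at hm
    have hmU : u * xG g (D.simple i) k * u⁻¹ ∈ D.posUnipotent F :=
      mul_mem (mul_mem hu (xG_mem_posUnipotent g hp k)) (inv_mem hu)
    have hfix := hU _ hmU (push_of_mem S hm)
    obtain ⟨m, hm1, -, hm3, hm4⟩ := mem_posRoots_drop h hp
    have hUp := upList_posRoots.drop (D := D) (m + 1)
    have hd := pos_comm_mem h hUp hp hm4 hu k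
    have hL : UpList D (D.simple i :: D.posRoots.drop (m + 1)) :=
      ⟨List.pairwise_cons.2 ⟨hm3, hUp.sorted⟩, fun r hr => by
        rcases List.mem_cons.1 hr with rfl | hr
        · exact hp
        · exact hUp.pos r hr,
      fun r hr q hq hrq => by
        refine List.mem_cons_of_mem _ (hm4 q hq ?_)
        rcases List.mem_cons.1 hr with rfl | hr
        · exact hrq
        · exact (hm3 r hr).trans hrq⟩
    refine head_fix h σ hL (z := (xG g (D.simple i) k)⁻¹ *
      (u * xG g (D.simple i) k * u⁻¹ * (xG g (D.simple i) k)⁻¹) * xG g (D.simple i) k) ?_ ?_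
    · have h1 := borel_conj_UL h hUp (inv_mem (xG_mem_borel g hp k)) hd
      rwa [inv_inv] at h1
    · simpa [mul_assoc] using hfix
  have ht := tor_fix g σ hchi
  have hpu : Push g σ H u := by
    have hchi' : ∀ r < D.nroots, σ (chi D A c r : F) = chi D A c r := by
      intro r hr
      have e : Matrix.GeneralLinearGroup.map σ (tor D A c * xG g r 1 * (tor D A c)⁻¹) =
          tor D A c * xG g r 1 * (tor D A c)⁻¹ := by
        rw [map_mul, map_mul, map_inv, ht, map_xG, map_one]
      rw [tor_conj_xG g c hr, mul_one] at e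
      exact map_xG_fix h hr σ e
    suffices hgen : ∀ r a, σ a = a → u * xG g r a * u⁻¹ ∈ H by
      intro z hz
      induction hz using Subgroup.closure_induction with
      | one => simp [one_mem]
      | mul a b _ _ ha hb =>
        rw [show u * (a * b) * u⁻¹ = (u * a * u⁻¹) * (u * b * u⁻¹) by group]; exact mul_mem ha hb
      | inv a _ ha => rw [show u * a⁻¹ * u⁻¹ = (u * a * u⁻¹)⁻¹ by group]; exact inv_mem ha
      | mem a ha => obtain ⟨r, t, ht', rfl⟩ := ha; exact hgen r t ht'
    intro r a ha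
    by_cases hr : r < D.nroots
    swap
    · simp [xG, hr, one_mem]
    have e : xG g r a = tor D A c * xG g r (((chi D A c r)⁻¹ : Fˣ) * a) * (tor D A c)⁻¹ := by
      rw [tor_conj_xG g c hr, ← mul_assoc, Units.mul_inv, one_mul]
    have hfix : σ ((((chi D A c r)⁻¹ : Fˣ) : F) * a) = ((chi D A c r)⁻¹ : Fˣ) * a := by
      rw [map_mul, ha, Units.val_inv_eq_inv_val, map_inv₀, hchi' r hr]
    rw [e, show u * (tor D A c * xG g r (((chi D A c r)⁻¹ : Fˣ) * a) * (tor D A c)⁻¹) * u⁻¹ =
      (u * tor D A c) * xG g r (((chi D A c r)⁻¹ : Fˣ) * a) * (u * tor D A c)⁻¹ by group]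
    exact mul_mem (mul_mem hb (S.gen r _ hfix)) (inv_mem hb)
  rw [map_mul, ht, hU u hu hpu]

end CfsgLib.Chev.Subfield
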