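import Cfsg.Agent.Lib.Chev.Subfield.Unip

/-!
The special roots of the seven types.
-/

set_option autoImplicit false
set_option linter.style.haveILetI false
set_option maxRecDepth 100000

namespace CfsgLib.Chev.Subfield

open Cfsg.Lie CfsgLib.KnownB.ChevField

variable {F : Type*} [Field F] {p : ℕ}

/-- elements of `U` conjugating the rational elements into the subgroup are rational -/
def UFix {D : ChevalleyDatum} {A : Aux} (h : Std D A) (σ : F →+* F)
    (H : Subgroup (GL D.Idx F)) : Prop :=
  ∀ y ∈ D.posUnipotent F, Push h.good σ H y → Matrix.GeneralLinearGroup.map σ y = y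

theorem ufix_of_steps {D : ChevalleyDatum} {A : Aux} {h : Std D A} {σ : F →+* F}
    {H : Subgroup (GL D.Idx F)} (S : Sub h σ H) (special : List ℕ) (hC : stepCheck D A special = true)
    (hspec : ∀ x ∈ special, ∀ L, UpList D (x :: L) → Fixes h.good σ H L → ∀ t, ∀ rest ∈ UL F h.good L,
      Push h.good σ H (xG h.good x t * rest) → σ t = t) : UFix h σ H := fun y hy hp => by
  rw [← UL_posRoots h.good] at hy
  exact fixes_of_steps S special hC hspec upList_posRoots y hy hp

/-- only the highest root is special -/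
theorem spec_top {D : ChevalleyDatum} {A : Aux} {h : Std D A} {σ : F →+* F}
    {H : Subgroup (GL D.Idx F)} (S : Sub h σ H) (hn : top D < D.nroots) {s u : ℕ}
    (hC : topCheck D A s u = true) {L : List ℕ} (hL : UpList D (top D :: L)) {t : F} {rest : GL D.Idx F}
    (hrest : rest ∈ UL F h.good L) (hp : Push h.good σ H (xG h.good (top D) t * rest)) : σ t = t := by
  have hnil : L = [] := by
    cases L with
    | nil => rfl
    | cons r L =>
      have h1 : top D < r := (List.pairwise_cons.1 hL.sorted).1 r List.mem_cons_self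
      have h2 := (hL.pos r (List.mem_cons_of_mem _ List.mem_cons_self)).1
      unfold top at h1; omega
  rw [hnil, UL_nil, Subgroup.mem_bot] at hrest
  rw [hrest, mul_one] at hp
  exact step_top S hn hC hp

theorem ufix_lace {D : ChevalleyDatum} {A : Aux} {h : Std D A} {σ : F →+* F}
    {H : Subgroup (GL D.Idx F)} (S : Sub h σ H) (hn : top D < D.nroots) {s u : ℕ}
    (hC : stepCheck D A [top D] = true) (hT : topCheck D A s u = true) : UFix h σ H :=
  ufix_of_steps S _ hC fun x hx L hL _ t rest hrest hp => by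
    rw [List.mem_singleton] at hx
    subst hx
    exact spec_top S hn hT hL hrest hp

/-! ### `B₂` -/

theorem ufix_B2 [Fact p.Prime] [CharP F p] {σ : F →+* F} {H : Subgroup (GL chevB2.Idx F)}
    (S : Sub stdB2 σ H) : UFix stdB2 σ H := by
  have h := stdB2
  have g := h.good
  haveI := S.fin
  have U : Units1 g H := ⟨fun r => S.gen r 1 (map_one σ)⟩
  have hB : blkCheck chevB2 auxB2 1 0 4 5 6 7 = true := by decide +kernel
  have blk : ∀ x y : F, Pr2 g H 6 7 x y → σ x = x ∧ σ y = y := fun x y e => by
    obtain ⟨-, -, e3⟩ := blk_field (p := p) h hB U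
    obtain ⟨hx, hy⟩ := e3 x y e
    exact ⟨S.only 4 (by decide +kernel) x hx, S.only 4 (by decide +kernel) y hy⟩
  have lt : ∀ r, r < 8 → r < chevB2.nroots := fun r hr => hr
  have rk : chevB2.rank = 2 := by decide +kernel
  have rf : auxB2.refl 1 5 = 6 ∧ auxB2.refl 1 3 = 4 ∧ auxB2.refl 1 7 = 7 ∧ auxB2.refl 0 6 = 6 ∧
      auxB2.refl 0 4 = 7 := by decide +kernel
  obtain ⟨r1, r2, r3, r4, r5⟩ := rf
  refine ufix_of_steps S [6, 7] (by decide +kernel) fun x hx L hL ih t rest hrest hp => ?_
  simp only [List.mem_cons, List.not_mem_nil, or_false] at hx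
  rcases hx with rfl | rfl
  · by_cases h2 : p = 2
    swap
    · have ht : auxB2.terms 5 6 = [(7, 2, 1, 1)] := by decide +kernel
      refine step_gen S hL ih (s := 5) (simple_pos g (i := 0) (by omega) |> fun e => by
        rwa [show chevB2.simple 0 = 5 by decide +kernel] at e) (by omega) ht (by simp) ?_ hrest hp
      intro e
      have h2' : ((2 : ℕ) : F) = 0 := by exact_mod_cast e
      exact h2 ((Nat.prime_dvd_prime_iff_eq Fact.out Nat.prime_two).1 ((CharP.cast_eq_zero_iff F p 2).1 h2'))
    subst h2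
    have two0 : (2 : F) = 0 := CharP.cast_eq_zero F 2
    have ns : ∀ z : F, -z = z := fun z => CharTwo.neg_eq z
    obtain ⟨T, rfl⟩ := exists_pw h hL.tail hrest
    -- the tail consists of the highest root
    obtain ⟨b, hb⟩ : ∃ b, pw g L T = xG g 7 b := by
      have hmem : ∀ r ∈ L, r = 7 := fun r hr => by
        have h1 := (List.pairwise_cons.1 hL.sorted).1 r hr
        have h2 : r < 8 := (hL.pos r (List.mem_cons_of_mem _ hr)).1
        omega
      match L, hL, hmem with
      | [], _, _ => exact ⟨0, by simp [pw, xG_zero]⟩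
      | [r], _, hm => exact ⟨T 7, by rw [hm r List.mem_cons_self]; simp [pw]⟩
      | r :: r' :: L', hL, hm =>
        have := (List.pairwise_cons.1 (List.pairwise_cons.1 hL.sorted).2).1 r' List.mem_cons_self
        have := hm r List.mem_cons_self
        have := hm r' (List.mem_cons_of_mem _ List.mem_cons_self)
        omega
    rw [hb] at hp
    have e36 : auxB2.terms 3 6 = [(5, 1, 1, 1), (7, 1, 1, 2)] ∧ auxB2.terms 3 7 = [] ∧
        auxB2.terms 5 7 = [] ∧ auxB2.terms 6 7 = [] := by decide +kernel
    obtain ⟨t36, t37, t57, t67⟩ := e36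
    have hn : auxB2.neg 3 = 4 ∧ auxB2.neg 5 = 2 ∧ auxB2.neg 6 = 1 := by decide +kernel
    obtain ⟨n3, n5, n6⟩ := hn
    have c37 := commute_xG (F := F) h (lt 3 (by omega)) (lt 7 (by omega)) (by omega) t37
    have c57 := commute_xG (F := F) h (lt 5 (by omega)) (lt 7 (by omega)) (by omega) t57
    have c67 := commute_xG (F := F) h (lt 6 (by omega)) (lt 7 (by omega)) (by omega) t67
    have c56 : Commute (xG g 6 t) (xG g 5 t) := by
      have e := comm_eq (F := F) h (lt 5 (by omega)) (lt 6 (by omega)) (by omega) (by omega) t t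
      have t56 : auxB2.terms 5 6 = [(7, 2, 1, 1)] := by decide +kernel
      simp only [tword, t56, List.map_cons, List.map_nil, List.prod_cons, List.prod_nil, Int.cast_ofNat,
        two0, zero_mul, xG_zero, mul_one] at e
      exact e
    have key : xG g 6 t * xG g 3 1 = xG g 3 1 * xG g 6 t * (xG g 5 t * xG g 7 (t ^ 2)) := by
      rw [comm_eq h (lt 3 (by omega)) (lt 6 (by omega)) (by omega) (by omega) (1 : F) t]
      simp [tword, t36, ns]
    have hm := push_root hp 3
    rw [show xG g 6 t * xG g 7 b * xG g 3 1 * (xG g 6 t * xG g 7 b)⁻¹ = xG g 3 1 * (xG g 5 t * xG g 7 (t ^ 2)) by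
      calc _ = xG g 6 t * (xG g 7 b * xG g 3 1) * (xG g 7 b)⁻¹ * (xG g 6 t)⁻¹ := by group
        _ = xG g 6 t * xG g 3 1 * (xG g 6 t)⁻¹ := by rw [← (c37 1 b).eq]; group
        _ = xG g 3 1 * (xG g 6 t * xG g 5 t) * xG g 7 (t ^ 2) * (xG g 6 t)⁻¹ := by rw [key]; group
        _ = xG g 3 1 * xG g 5 t * (xG g 6 t * xG g 7 (t ^ 2)) * (xG g 6 t)⁻¹ := by rw [c56.eq]; group
        _ = _ := by rw [(c67 t _).eq]; group] at hm
    have hm2 := mul_mem (inv_mem (S.gen 3 1 (map_one σ))) hm
    rw [inv_mul_cancel_left] at hm2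
    have hm3 := mul_mem (mul_mem (U.nS_mem 1) hm2) (inv_mem (U.nS_mem 1))
    rw [show nS F g 1 * (xG g 5 t * xG g 7 (t ^ 2)) * (nS F g 1)⁻¹ = (nS F g 1 * xG g 5 t * (nS F g 1)⁻¹) *
      (nS F g 1 * xG g 7 (t ^ 2) * (nS F g 1)⁻¹) by group, nS_conj_xG g (by omega) (lt 5 (by omega)),
      nS_conj_xG g (by omega) (lt 7 (by omega)), r1, r3] at hm3
    refine (blk t (t ^ 2) ?_).1
    show _ ∈ H
    rcases g.eta_sign 1 (by omega) 5 (lt 5 (by omega)) with e1 | e1 <;>
      rcases g.eta_sign 1 (by omega) 7 (lt 7 (by omega)) with e2 | e2 <;> simpa [e1, e2, ns] using hm3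
  · obtain ⟨T, rfl⟩ := exists_pw h hL.tail hrest
    have hnil : L = [] := by
      cases L with
      | nil => rfl
      | cons r L =>
        have h1 := (List.pairwise_cons.1 hL.sorted).1 r List.mem_cons_self
        have h2 : r < 8 := (hL.pos r (List.mem_cons_of_mem _ List.mem_cons_self)).1
        omega
    subst hnil
    simp only [pw, List.map_nil, List.prod_nil, mul_one] at hp
    have e17 : auxB2.terms 1 7 = [(5, -1, 1, 1), (3, 1, 2, 1)] ∧ auxB2.terms 5 7 = [] ∧
        auxB2.terms 3 7 = [] ∧ auxB2.neg 1 = 6 ∧ auxB2.neg 5 = 2 ∧ auxB2.neg 3 = 4 := by decide +kernel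
    obtain ⟨t17, t57, t37, n1, n5, n3⟩ := e17
    have c57 := commute_xG (F := F) h (lt 5 (by omega)) (lt 7 (by omega)) (by omega) t57
    have c37 := commute_xG (F := F) h (lt 3 (by omega)) (lt 7 (by omega)) (by omega) t37
    have key : xG g 7 t * xG g 1 1 = xG g 1 1 * xG g 7 t * (xG g 5 t * xG g 3 t) := by
      rw [comm_eq h (lt 1 (by omega)) (lt 7 (by omega)) (by omega) (by omega) (1 : F) t]
      simp [tword, t17]
    have hm := push_root hp 1
    rw [show xG g 7 t * xG g 1 1 * (xG g 7 t)⁻¹ = xG g 1 1 * (xG g 5 t * xG g 3 t) by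
      calc _ = xG g 1 1 * ((xG g 7 t * xG g 5 t) * xG g 3 t) * (xG g 7 t)⁻¹ := by rw [key]; group
        _ = xG g 1 1 * xG g 5 t * (xG g 7 t * xG g 3 t) * (xG g 7 t)⁻¹ := by rw [← (c57 t t).eq]; group
        _ = _ := by rw [← (c37 t t).eq]; group] at hm
    have hm2 := mul_mem (inv_mem (S.gen 1 1 (map_one σ))) hm
    rw [inv_mul_cancel_left] at hm2
    have conj : ∀ (i : ℕ) (a b : ℕ) (x y : F), i < 2 → a < 8 → b < 8 → xG g a x * xG g b y ∈ H →
        ∃ e f : F, (e = 1 ∨ e = -1) ∧ (f = 1 ∨ f = -1) ∧
          xG g (auxB2.refl i a) (e * x) * xG g (auxB2.refl i b) (f * y) ∈ H := by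
      intro i a b x y hi ha hb hm
      have := mul_mem (mul_mem (U.nS_mem i) hm) (inv_mem (U.nS_mem i))
      rw [show nS F g i * (xG g a x * xG g b y) * (nS F g i)⁻¹ = (nS F g i * xG g a x * (nS F g i)⁻¹) *
        (nS F g i * xG g b y * (nS F g i)⁻¹) by group, nS_conj_xG g (by omega) (lt a ha),
        nS_conj_xG g (by omega) (lt b hb)] at this
      refine ⟨_, _, ?_, ?_, this⟩
      · rcases g.eta_sign i (by omega) a (lt a ha) with e | e <;> simp [e]
      · rcases g.eta_sign i (by omega) b (lt b hb) with e | e <;> simp [e]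
    obtain ⟨e, f, he, hf, hm3⟩ := conj 1 5 3 t t (by omega) (by omega) (by omega) hm2
    rw [r1, r2] at hm3
    obtain ⟨e', f', he', hf', hm4⟩ := conj 0 6 4 _ _ (by omega) (by omega) (by omega) hm3
    rw [r4, r5] at hm4
    have := (blk _ _ hm4).1
    rcases he with rfl | rfl <;> rcases he' with rfl | rfl <;> simpa using this

/-! ### `G₂` -/

theorem ufix_G2 [Fact p.Prime] [CharP F p] {σ : F →+* F} {H : Subgroup (GL chevG2.Idx F)}
    (S : Sub stdG2 σ H) : UFix stdG2 σ H := by
  have h := stdG2
  have g := h.good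
  have lt : ∀ r, r < 12 → r < chevG2.nroots := fun r hr => hr
  have ps : ∀ r, 6 ≤ r → r < 12 → chevG2.IsPosRoot r := by
    have e : ∀ r < chevG2.nroots, 6 ≤ r → ∀ j < chevG2.rank, 0 ≤ auxG2.a r j := by decide +kernel
    intro r h6 h12
    refine (g.pos_iff r (lt r h12)).2 fun j => ?_
    by_cases hj : j < chevG2.rank
    · exact e r (lt r h12) h6 j hj
    · rw [g.a_zero _ (lt r h12) j (not_lt.1 hj)]
  have cast0 : ∀ n : ℕ, n.Prime → ((n : F) = 0 ↔ p = n) := fun n hn => by
    rw [CharP.cast_eq_zero_iff F p n, Nat.prime_dvd_prime_iff_eq Fact.out hn]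
  refine ufix_of_steps S [8, 9, 11] (by decide +kernel) fun x hx L hL ih t rest hrest hp => ?_
  simp only [List.mem_cons, List.not_mem_nil, or_false] at hx
  rcases hx with rfl | rfl | rfl
  · by_cases h2 : p = 2
    · have ht : auxG2.terms 9 8 = [(11, -3, 1, 1)] := by decide +kernel
      refine step_gen S hL ih (s := 9) (ps 9 (by omega) (by omega)) (by omega) ht (by simp) ?_ hrest hp
      simp only [Int.cast_neg, ne_eq, neg_eq_zero]
      intro e
      have := (cast0 3 Nat.prime_three).1 (by exact_mod_cast e)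
      omega
    · have ht : auxG2.terms 7 8 = [(9, -2, 1, 1), (10, -3, 2, 1), (11, 3, 1, 2)] := by decide +kernel
      refine step_gen S hL ih (s := 7) (ps 7 (by omega) (by omega)) (by omega) ht (by simp) ?_ hrest hp
      simp only [Int.cast_neg, ne_eq, neg_eq_zero]
      intro e
      exact h2 ((cast0 2 Nat.prime_two).1 (by exact_mod_cast e))
  · by_cases h3 : p = 3
    swap
    · have ht : auxG2.terms 8 9 = [(11, 3, 1, 1)] := by decide +kernel
      refine step_gen S hL ih (s := 8) (ps 8 (by omega) (by omega)) (by omega) ht (by simp) ?_ hrest hp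
      intro e
      exact h3 ((cast0 3 Nat.prime_three).1 (by exact_mod_cast e))
    subst h3
    have three0 : (3 : F) = 0 := CharP.cast_eq_zero F 3
    have hsub : ∀ r ∈ L, r = 10 ∨ r = 11 := fun r hr => by
      have h1 := (List.pairwise_cons.1 hL.sorted).1 r hr
      have h2 : r < 12 := (hL.pos r (List.mem_cons_of_mem _ hr)).1
      omega
    have hL10 : UpList chevG2 [10, 11] := ⟨by simp, fun r hr => by
        simp only [List.mem_cons, List.not_mem_nil, or_false] at hr
        rcases hr with rfl | rfl <;> exact ps _ (by omega) (by omega),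
      fun r hr q hq hrq => by
        have : q < 12 := hq.1
        simp only [List.mem_cons, List.not_mem_nil, or_false] at hr ⊢
        omega⟩
    obtain ⟨T, hT⟩ := exists_pw h hL10 (UL_mono g (L' := [10, 11]) (fun r hr => by simpa using hsub r hr) hrest)
    have hT' : rest = xG g 10 (T 10) * xG g 11 (T 11) := by rw [hT]; simp [pw]
    rw [hT'] at hp
    have tt : auxG2.terms 6 10 = [(11, 1, 1, 1)] ∧ auxG2.terms 5 11 = [(10, 1, 1, 1)] ∧ auxG2.terms 6 11 = [] ∧
        auxG2.terms 6 9 = [] ∧ auxG2.terms 5 9 = [] ∧ auxG2.terms 5 10 = [] ∧ auxG2.terms 10 11 = [] ∧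
        auxG2.terms 9 10 = [] ∧ auxG2.terms 9 11 = [] ∧
        auxG2.terms 4 9 = [(8, -2, 1, 1), (6, 3, 2, 1), (11, -3, 1, 2)] ∧ auxG2.neg 5 = 6 ∧ auxG2.neg 6 = 5 ∧
        auxG2.neg 9 = 2 ∧ auxG2.neg 10 = 1 ∧ auxG2.neg 11 = 0 ∧ auxG2.neg 4 = 7 ∧ auxG2.neg 8 = 3 := by
      decide +kernel
    obtain ⟨a1, a2, a3, a4, a5, a6, a7, a8, a9, a10, n5, n6, n9, n10, n11, n4, n8⟩ := tt
    have c := fun (r s : ℕ) (hr : r < 12) (hs : s < 12) (hn : s ≠ auxG2.neg r)
      (ht : auxG2.terms r s = []) => commute_xG (F := F) h (lt r hr) (lt s hs) hn ht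
    have c611 := c 6 11 (by omega) (by omega) (by omega) a3
    have c69 := c 6 9 (by omega) (by omega) (by omega) a4
    have c59 := c 5 9 (by omega) (by omega) (by omega) a5
    have c510 := c 5 10 (by omega) (by omega) (by omega) a6
    have c1011 := c 10 11 (by omega) (by omega) (by omega) a7
    have c910 := c 9 10 (by omega) (by omega) (by omega) a8
    have c911 := c 9 11 (by omega) (by omega) (by omega) a9
    have hb1 : σ (T 10) = T 10 := by
      have := extract S (P := xG g 9 t) (X := xG g 10 (T 10)) (Q := xG g 11 (T 11)) (s := 6) (u := 11)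
        (lt 11 (by omega)) (by rwa [mul_assoc]) (c611 1 _).symm
        (swap_single h (lt 6 (by omega)) (lt 10 (by omega)) (by omega) (by omega) a1 _)
        (c1011 _ _) (c69 1 t).symm (c911 _ _)
      simpa using this
    have hb2 : σ (T 11) = T 11 := by
      have := extract S (P := xG g 9 t * xG g 10 (T 10)) (X := xG g 11 (T 11)) (Q := 1) (s := 5) (u := 10)
        (lt 10 (by omega)) (by rwa [mul_one, mul_assoc]) (Commute.one_left _)
        (swap_single h (lt 5 (by omega)) (lt 11 (by omega)) (by omega) (by omega) a2 _)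
        (c1011 _ _).symm ((c59 1 t).symm.mul_left (c510 1 _).symm)
        ((c910 _ _).mul_left (show Commute (xG g 10 _) (xG g 10 _) from by
          show _ * _ = _ * _; rw [xG_add, xG_add, add_comm]))
      simpa using this
    have hp9 : Push g σ H (xG g 9 t) := by
      have := push_mul_rat hp (inv_mem (mul_mem (xG_mem_ratG g hb1 10) (xG_mem_ratG g hb2 11)))
      rwa [mul_inv_cancel_right] at this
    have key : xG g 9 t * xG g 4 1 = xG g 4 1 * xG g 9 t * xG g 8 (2 * t) := by
      rw [comm_eq h (lt 4 (by omega)) (lt 9 (by omega)) (by omega) (by omega) (1 : F) t]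
      simp [tword, a10, three0, xG_zero]
    have c98 : Commute (xG g 9 t) (xG g 8 (2 * t)) := by
      have e := comm_eq (F := F) h (lt 8 (by omega)) (lt 9 (by omega)) (by omega) (by omega) (2 * t) t
      have t89 : auxG2.terms 8 9 = [(11, 3, 1, 1)] := by decide +kernel
      simp only [tword, t89, List.map_cons, List.map_nil, List.prod_cons, List.prod_nil, Int.cast_ofNat,
        three0, zero_mul, xG_zero, mul_one] at e
      exact e
    have := extract S (P := 1) (X := xG g 9 t) (Q := 1) (s := 4) (u := 8) (lt 8 (by omega))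
      (by simpa using hp9) (Commute.one_left _) key c98 (Commute.one_left _) (Commute.one_left _)
    rw [map_mul, map_ofNat] at this
    exact mul_left_cancel₀ (fun e => by
      have := (cast0 2 Nat.prime_two).1 (by exact_mod_cast e); omega) this
  · exact spec_top S (s := 5) (u := 10) (lt 11 (by omega)) (by decide +kernel) hL hrest hp

/-! ### `F₄` -/

theorem ufix_F4 [Fact p.Prime] [CharP F p] {σ : F →+* F} {H : Subgroup (GL chevF4.Idx F)}
    (S : Sub stdF4 σ H) : UFix stdF4 σ H := by
  have h := stdF4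
  have g := h.good
  have lt : ∀ r, r < 48 → r < chevF4.nroots := fun r hr => hr
  refine ufix_of_steps S [44, 47] (by decide +kernel) fun x hx L hL ih t rest hrest hp => ?_
  simp only [List.mem_cons, List.not_mem_nil, or_false] at hx
  rcases hx with rfl | rfl
  · have ps : ∀ r ∈ [27, 45, 46, 47], chevF4.IsPosRoot r := by
      have e : ∀ r ∈ [27, 45, 46, 47], ∀ j < chevF4.rank, 0 ≤ auxF4.a r j := by decide +kernel
      intro r hr
      have h48 : r < 48 := by
        simp only [List.mem_cons, List.not_mem_nil, or_false] at hr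
        omega
      refine (g.pos_iff r (lt r h48)).2 fun j => ?_
      by_cases hj : j < chevF4.rank
      · exact e r hr j hj
      · rw [g.a_zero _ (lt r h48) j (not_lt.1 hj)]
    by_cases h2 : p = 2
    swap
    · have ht : auxF4.terms 27 44 = [(45, 2, 1, 1)] := by decide +kernel
      refine step_gen S hL ih (s := 27) (ps 27 (by simp)) (by omega) ht (by simp) ?_ hrest hp
      intro e
      have h2' : ((2 : ℕ) : F) = 0 := by exact_mod_cast e
      exact h2 ((Nat.prime_dvd_prime_iff_eq Fact.out Nat.prime_two).1 ((CharP.cast_eq_zero_iff F p 2).1 h2'))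
    have hsub : ∀ r ∈ L, r = 45 ∨ r = 46 ∨ r = 47 := fun r hr => by
      have h1 := (List.pairwise_cons.1 hL.sorted).1 r hr
      have h3 : r < 48 := (hL.pos r (List.mem_cons_of_mem _ hr)).1
      omega
    have hL45 : UpList chevF4 [45, 46, 47] := ⟨by simp, fun r hr => ps r (List.mem_cons_of_mem _ hr),
      fun r hr q hq hrq => by
        have : q < 48 := hq.1
        simp only [List.mem_cons, List.not_mem_nil, or_false] at hr ⊢
        omega⟩
    obtain ⟨T, hT⟩ := exists_pw h hL45 (UL_mono g (L' := [45, 46, 47]) (fun r hr => by simpa using hsub r hr) hrest)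
    have hT' : rest = xG g 45 (T 45) * xG g 46 (T 46) * xG g 47 (T 47) := by rw [hT]; simp [pw, mul_assoc]
    rw [hT'] at hp
    have tt : auxF4.terms 25 45 = [(46, 1, 1, 1)] ∧ auxF4.terms 24 46 = [(47, 1, 1, 1)] ∧
        auxF4.terms 23 47 = [(46, 1, 1, 1)] ∧ auxF4.terms 14 44 = [(40, 1, 1, 1)] := by decide +kernel
    obtain ⟨a1, a2, a3, a4⟩ := tt
    have cdata : ∀ q ∈ [(44, 25), (44, 46), (45, 46), (25, 46), (25, 47), (24, 47), (44, 24), (45, 24), (46, 47),
        (44, 47), (45, 47), (44, 23), (45, 23), (46, 23), (44, 40), (45, 14), (46, 14), (47, 14)],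
        q.2 ≠ auxF4.neg q.1 ∧ auxF4.terms q.1 q.2 = [] := by decide +kernel
    have nd : auxF4.neg 25 ≠ 45 ∧ auxF4.neg 24 ≠ 46 ∧ auxF4.neg 23 ≠ 47 ∧ auxF4.neg 14 ≠ 44 := by decide +kernel
    obtain ⟨n1, n2, n3, n4⟩ := nd
    have c : ∀ r s, (r, s) ∈ [(44, 25), (44, 46), (45, 46), (25, 46), (25, 47), (24, 47), (44, 24), (45, 24),
        (46, 47), (44, 47), (45, 47), (44, 23), (45, 23), (46, 23), (44, 40), (45, 14), (46, 14), (47, 14)] →
        r < 48 → s < 48 → ∀ a b : F, Commute (xG g r a) (xG g s b) := fun r s hm hr hs =>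
      commute_xG h (lt r hr) (lt s hs) (cdata _ hm).1 (cdata _ hm).2
    have self : ∀ r (a b : F), Commute (xG g r a) (xG g r b) := fun r a b => by
      show _ * _ = _ * _; rw [xG_add, xG_add, add_comm]
    set A' := xG g 44 t
    set X1 := xG g 45 (T 45)
    set X2 := xG g 46 (T 46)
    set X3 := xG g 47 (T 47)
    have hb1 : σ (T 45) = T 45 := by
      have := extract S (P := A') (X := X1) (Q := X2 * X3) (s := 25) (u := 46) (lt 46 (by omega))
        (by rw [show A' * X1 * (X2 * X3) = A' * (X1 * X2 * X3) by group]; exact hp)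
        ((c 25 46 (by simp) (by omega) (by omega) _ _).symm.mul_left (c 25 47 (by simp) (by omega) (by omega) _ _).symm)
        (swap_single h (lt 25 (by omega)) (lt 45 (by omega)) (by omega) n1.symm a1 _)
        (c 45 46 (by simp) (by omega) (by omega) _ _) (c 44 25 (by simp) (by omega) (by omega) _ _)
        (c 44 46 (by simp) (by omega) (by omega) _ _)
      simpa using this
    have hb2 : σ (T 46) = T 46 := by
      have := extract S (P := A' * X1) (X := X2) (Q := X3) (s := 24) (u := 47) (lt 47 (by omega))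
        (by rw [show A' * X1 * X2 * X3 = A' * (X1 * X2 * X3) by group]; exact hp)
        (c 24 47 (by simp) (by omega) (by omega) _ _).symm
        (swap_single h (lt 24 (by omega)) (lt 46 (by omega)) (by omega) n2.symm a2 _)
        (c 46 47 (by simp) (by omega) (by omega) _ _)
        ((c 44 24 (by simp) (by omega) (by omega) _ _).mul_left (c 45 24 (by simp) (by omega) (by omega) _ _))
        ((c 44 47 (by simp) (by omega) (by omega) _ _).mul_left (c 45 47 (by simp) (by omega) (by omega) _ _))
      simpa using this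
    have hb3 : σ (T 47) = T 47 := by
      have := extract S (P := A' * X1 * X2) (X := X3) (Q := 1) (s := 23) (u := 46) (lt 46 (by omega))
        (by rw [show A' * X1 * X2 * X3 * 1 = A' * (X1 * X2 * X3) by group]; exact hp)
        (Commute.one_left _) (swap_single h (lt 23 (by omega)) (lt 47 (by omega)) (by omega) n3.symm a3 _)
        (c 46 47 (by simp) (by omega) (by omega) _ _).symm
        (((c 44 23 (by simp) (by omega) (by omega) _ _).mul_left (c 45 23 (by simp) (by omega) (by omega) _ _)).mul_left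
          (c 46 23 (by simp) (by omega) (by omega) _ _))
        (((c 44 46 (by simp) (by omega) (by omega) _ _).mul_left (c 45 46 (by simp) (by omega) (by omega) _ _)).mul_left
          (self 46 _ _))
      simpa using this
    have := extract S (P := 1) (X := A') (Q := X1 * X2 * X3) (s := 14) (u := 40) (lt 40 (by omega))
      (by rw [one_mul]; exact hp)
      (((c 45 14 (by simp) (by omega) (by omega) _ _).mul_left (c 46 14 (by simp) (by omega) (by omega) _ _)).mul_left
        (c 47 14 (by simp) (by omega) (by omega) _ _))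
      (swap_single h (lt 14 (by omega)) (lt 44 (by omega)) (by omega) n4.symm a4 _)
      (c 44 40 (by simp) (by omega) (by omega) _ _) (Commute.one_left _) (Commute.one_left _)
    simpa using this
  · exact spec_top S (s := 23) (u := 46) (lt 47 (by omega)) (by decide +kernel) hL hrest hp

end CfsgLib.Chev.Subfield
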